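import Cfsg.Agent.Lib.Linear.OrthDegree.Geom
import Cfsg.Agent.Lib.Char.Basic

/-!
# Divisibility conditions on the degree
-/

set_option autoImplicit false

namespace Cfsg.Lib.Linear.OrthDeg

open Module Cfsg.Lib.Linear.Orth Cfsg.Lib.Linear.MinIndexOrth Cfsg.Lib.Char
open scoped Matrix

variable {ι : Type} [Fintype ι] [DecidableEq ι] {F : Type*} [Field F] [Fintype F]
  {Q : (ι → F) → F} {B : LinearMap.BilinForm F (ι → F)}

theorem dvd_class (C : Space Q B) (h7 : 7 ≤ Fintype.card ι) {e f : ι → F} (H : Hyp Q B ⊤ e f) {s : ℕ} {ε : ℤ}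
    (hε : ε = 1 ∨ ε = -1) (hTop : IsT Q (⊤ : Submodule F (ι → F)) (s + 3) ε) {D : ℤ}
    (hD : D * ((Nat.card F : ℤ) ^ 2 - 1) =
      ((Nat.card F : ℤ) ^ (s + 3) - ε) * ((Nat.card F : ℤ) ^ (s + 2) + ε * (Nat.card F : ℤ)))
    {k : ℕ} (ρ : Representation ℂ ↥(Root Q B ⊤) (Fin k → ℂ)) [ρ.IsIrreducible] (hk : k ≠ 0) {u : ι → F}
    (hu : u ∈ X B e f) (hQu : Q u = 0) (hu0 : u ≠ 0)
    (hchi : ρ.character ⟨sGL Q B e u, sGL_mem_root trivial trivial H.singE (X.left hu)⟩ =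
      (k : ℂ) - (Nat.card F : ℂ) ^ (2 * s + 3)) :
    (k : ℤ) ∣ D * (((Nat.card F : ℤ) ^ (s + 2)) ^ 2 - 1) * (Nat.card F : ℤ) ^ (2 * s + 2) := by
  classical
  haveI : Fintype ↥(Root Q B ⊤) := Fintype.ofFinite _
  set x : ↥(Root Q B ⊤) := ⟨sGL Q B e u, sGL_mem_root trivial trivial H.singE (X.left hu)⟩ with hx
  set q : ℤ := (Nat.card F : ℤ) with hq
  have hq2 : 2 ≤ q := two_le_qq (F := F)
  have hq1 : q ^ 2 - 1 ≠ 0 := by nlinarith
  set N : ℤ := ((classFinset x).card : ℤ) with hN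
  have hcls : N * (q * (q ^ 2 - 1)) =
      ((level Q (⊤ : Submodule F (ι → F)) 0 : ℤ) - 1) * (q * ((level Q (X B e f) 0 : ℤ) - 1)) :=
    card_class C h7 H hu hQu hu0
  rw [hTop.level_eq (r := s + 2) 0, (hTop.down C H).level_eq (r := s + 1) 0, del_zero, ← hq] at hcls
  have hNq : N * q = D * ((q ^ (s + 2)) ^ 2 - 1) := by
    refine mul_right_cancel₀ hq1 ?_
    calc N * q * (q ^ 2 - 1)
        = (q ^ (2 * (s + 2) + 1) + ε * q ^ (s + 2) * (q * 1 - 1) - 1) *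
          (q * (q ^ (2 * (s + 1) + 1) + ε * q ^ (s + 1) * (q * 1 - 1) - 1)) := by rw [← hcls]; ring
      _ = D * (q ^ 2 - 1) * ((q ^ (s + 2)) ^ 2 - 1) := by
          rw [hD]
          rcases hε with rfl | rfl <;> ring
      _ = D * ((q ^ (s + 2)) ^ 2 - 1) * (q ^ 2 - 1) := by ring
  have hint := isIntegral_centralChar ρ x
  rw [Module.finrank_fin_fun, hchi] at hint
  obtain ⟨z, hz⟩ := @exists_int_of_isIntegral_rat
    ((((classFinset x).card : ℕ) : ℚ) * ((k : ℚ) - (Nat.card F : ℚ) ^ (2 * s + 3)) / k) (by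
      convert hint using 1
      simp only [Rat.cast_div, Rat.cast_mul, Rat.cast_sub, Rat.cast_natCast, Rat.cast_pow])
  rw [div_eq_iff (Nat.cast_ne_zero.2 hk)] at hz
  have hz' : N * ((k : ℤ) - q ^ (2 * s + 3)) = z * k := by
    rw [hN, hq]
    exact_mod_cast hz
  refine ⟨N - z, ?_⟩
  calc D * ((q ^ (s + 2)) ^ 2 - 1) * q ^ (2 * s + 2) = N * q * q ^ (2 * s + 2) := by rw [hNq]
    _ = (k : ℤ) * (N - z) := by linear_combination -hz'

/-- The degree one below the bound is excluded. -/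
theorem excl_one {q D k A : ℤ} {m : ℕ} {ε : ℤ} (hε : ε = 1 ∨ ε = -1) (hq : 2 ≤ q) (hA : q ^ 3 ≤ A)
    (hAq : q ∣ A) (hD : D * (q ^ 2 - 1) = (q * A - ε) * (A + ε * q)) (hk : k = D - 1) :
    ¬ k ∣ D * (A ^ 2 - 1) * q ^ m := by
  intro h
  obtain ⟨t, rfl⟩ := hAq
  have hqD : q ∣ D := by
    have hcop : IsCoprime q (q ^ 2 - 1) := ⟨q, -1, by ring⟩
    exact hcop.dvd_of_dvd_mul_right ⟨(q * (q * t) - ε) * (t + ε), by rw [hD]; ring⟩
  obtain ⟨E, hE⟩ := hqD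
  have hkD : IsCoprime k D := ⟨-1, 1, by rw [hk]; ring⟩
  have hkq : IsCoprime k q := ⟨-1, E, by rw [hk, hE]; ring⟩
  have h1 : k ∣ (q * t) ^ 2 - 1 := by
    have h2 := (hkq.pow_right (n := m)).dvd_of_dvd_mul_right h
    exact hkD.dvd_of_dvd_mul_left h2
  set A := q * t
  have hid : k * (q ^ 2 - 1) = q * (A ^ 2 - 1) + ε * (q ^ 2 - 1) * (A - ε) := by
    rw [hk, sub_mul, hD]
    rcases hε with rfl | rfl <;> ring
  have h3 : k ∣ (q ^ 2 - 1) * (A - ε) := by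
    have h4 : k ∣ ε * ((q ^ 2 - 1) * (A - ε)) := by
      rw [← mul_assoc, show ε * (q ^ 2 - 1) * (A - ε) = k * (q ^ 2 - 1) - q * (A ^ 2 - 1) by rw [hid]; ring]
      exact dvd_sub (dvd_mul_right _ _) (h1.mul_left _)
    rcases hε with rfl | rfl
    · simpa using h4
    · simpa using h4
  have hA8 : 8 ≤ A := le_trans (by nlinarith) hA
  have hq3 : 0 < q ^ 2 - 1 := by nlinarith
  have hAe : 0 < A - ε := by rcases hε with rfl | rfl <;> omega
  have hle := Int.le_of_dvd (mul_pos hq3 hAe) h3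
  have hle' : k * (q ^ 2 - 1) ≤ (q ^ 2 - 1) * (A - ε) * (q ^ 2 - 1) :=
    mul_le_mul_of_nonneg_right hle hq3.le
  rw [hid] at hle'
  have hε2 : A ^ 2 - 1 = (A + ε) * (A - ε) := by rcases hε with rfl | rfl <;> ring
  rw [hε2] at hle'
  have hb : q * (q ^ 3 + ε) ≤ q * (A + ε) := mul_le_mul_of_nonneg_left (by omega) (by omega)
  have hb' := mul_le_mul_of_nonneg_right hb hAe.le
  have hcoef : 0 < q * (q ^ 3 + ε) + ε * (q ^ 2 - 1) - (q ^ 2 - 1) * (q ^ 2 - 1) := by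
    rcases hε with rfl | rfl <;> nlinarith
  nlinarith [mul_pos hcoef hAe]

end Cfsg.Lib.Linear.OrthDeg
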