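import Cfsg.Agent.Lib.Linear.MinIndexOrth.Count

/-!
# Vectors of a given value in the two types of even dimension

`IsT Q U r ε` says that `U` has dimension `2 * r` and as many vectors of each value as the space
of type `ε`.
-/

set_option autoImplicit false

namespace Cfsg.Lib.Linear.OrthDeg

open Module Cfsg.Lib.Linear.Orth Cfsg.Lib.Linear.MinIndexOrth
open scoped Matrix

variable {ι : Type} [Fintype ι] [DecidableEq ι] {F : Type*} [Field F] [Finite F]
  {Q : (ι → F) → F} {B : LinearMap.BilinForm F (ι → F)}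

open scoped Classical in
/-- One for zero and zero otherwise. -/
noncomputable def del (c : F) : ℤ := if c = 0 then 1 else 0

omit [Finite F] in
theorem del_zero : del (0 : F) = 1 := by simp [del]

omit [Finite F] in
theorem del_ne {c : F} (hc : c ≠ 0) : del c = 0 := by simp [del, hc]

local notation "qq" => (Nat.card F : ℤ)

omit [Finite F] in
/-- The numbers of vectors of each value for dimension `2 * r` and type `ε`. -/
def IsT (Q : (ι → F) → F) (U : Submodule F (ι → F)) (r : ℕ) (ε : ℤ) : Prop :=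
  finrank F U = 2 * r ∧
    ∀ c, qq * level Q U c = qq ^ (2 * r) + ε * qq ^ r * (qq * del c - 1)

theorem qq_ne : qq ≠ 0 := Nat.cast_ne_zero.mpr Nat.card_pos.ne'

theorem two_le_qq : (2 : ℤ) ≤ qq := by exact_mod_cast (Finite.one_lt_card (α := F))

theorem IsT.level_eq {U : Submodule F (ι → F)} {r : ℕ} {ε : ℤ} (h : IsT Q U (r + 1) ε) (c : F) :
    (level Q U c : ℤ) = qq ^ (2 * r + 1) + ε * qq ^ r * (qq * del c - 1) := by
  refine mul_left_cancel₀ (qq_ne (F := F)) ?_
  rw [h.2 c]
  ring

variable (C : Space Q B) {U : Submodule F (ι → F)} {e f : ι → F}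

include C

theorem IsT.down {r : ℕ} {ε : ℤ} (h : IsT Q U (r + 1) ε) (H : Hyp Q B U e f) :
    IsT Q (perp2 B U e f) r ε := by
  have h1 := finrank_step C H
  have h0 : finrank F ↥(perp2 B U e f) = 2 * r := by have := h.1; omega
  refine ⟨h0, fun c => mul_left_cancel₀ (qq_ne (F := F)) ?_⟩
  have h2 := level_step C H c
  rw [h0] at h2
  linear_combination h.2 c - qq * h2

theorem IsT.up {r : ℕ} {ε : ℤ} (H : Hyp Q B U e f) (h : IsT Q (perp2 B U e f) r ε) :
    IsT Q U (r + 1) ε := by
  have h1 := finrank_step C H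
  refine ⟨by have := h.1; omega, fun c => ?_⟩
  have h2 := level_step C H c
  rw [h.1] at h2
  linear_combination qq * h.2 c + qq * h2

theorem isT_bot : IsT Q (⊥ : Submodule F (ι → F)) 0 1 := by
  refine ⟨finrank_bot F _, fun c => ?_⟩
  by_cases hc : c = 0
  · subst hc
    have : level Q (⊥ : Submodule F (ι → F)) 0 = 1 := by
      rw [level, Nat.card_eq_one_iff_unique]
      refine ⟨⟨fun x y => Subtype.ext ?_⟩, ⟨⟨0, zero_mem _, C.zero⟩⟩⟩
      rw [(Submodule.mem_bot F).mp x.2.1, (Submodule.mem_bot F).mp y.2.1]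
    rw [this, del_zero]
    ring
  · have : level Q (⊥ : Submodule F (ι → F)) c = 0 := by
      rw [level, Nat.card_eq_zero]
      refine Or.inl ⟨fun x => hc ?_⟩
      rw [← x.2.2, (Submodule.mem_bot F).mp x.2.1, C.zero]
    rw [this, del_ne hc]
    ring

omit C in
/-- The vectors of `U` of value `c` with `P` and product `β` with `e`. -/
def fib (Q : (ι → F) → F) (B : LinearMap.BilinForm F (ι → F)) (U : Submodule F (ι → F))
    (P : (ι → F) → Prop) (e : ι → F) (c β : F) : Set (ι → F) :=
  {x | x ∈ U ∧ Q x = c ∧ B e x = β ∧ P x}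

theorem card_fib_zero (H : Hyp Q B U e f) (c : F) {P : (ι → F) → Prop}
    (hP : ∀ (x : ι → F) (a : F), P (x + a • e) ↔ P x) :
    Nat.card ↥(fib Q B U P e c 0) =
      Nat.card F * Nat.card {w : ι → F // w ∈ perp2 B U e f ∧ Q w = c ∧ P w} := by
  rw [← Nat.card_prod]
  refine Nat.card_congr
    { toFun := fun x => (B f x.1, ⟨x.1 - B f x.1 • e, ?_, ?_, ?_⟩)
      invFun := fun p => ⟨p.2.1 + p.1 • e, ?_, ?_, ?_, ?_⟩
      left_inv := fun x => Subtype.ext (by simp)
      right_inv := fun p => ?_ }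
  · have h := H.proj C x.2.1
    rwa [x.2.2.2.1, zero_smul, sub_zero] at h
  · rw [sub_eq_add_neg, ← neg_smul, C.add, C.smul, H.singE, map_smul, C.symm x.1 e, x.2.2.2.1, x.2.2.1]
    simp
  · rw [sub_eq_add_neg, ← neg_smul, hP]
    exact x.2.2.2.2
  · exact U.add_mem (mem_perp2.mp p.2.2.1).1 (U.smul_mem _ H.memE)
  · rw [C.add, C.smul, H.singE, map_smul, C.symm p.2.1 e, (mem_perp2.mp p.2.2.1).2.1, p.2.2.2.1]
    simp
  · simp [(mem_perp2.mp p.2.2.1).2.1, C.self_zero H.singE]
  · rw [hP]
    exact p.2.2.2.2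
  · obtain ⟨a, w, hw, hc, hPw⟩ := p
    have h1 : B f (w + a • e) = a := by simp [(mem_perp2.mp hw).2.2, H.pair' C]
    refine Prod.ext h1 (Subtype.ext ?_)
    simp only [h1, add_sub_cancel_right]

theorem card_fib_ne (H : Hyp Q B U e f) (c : F) {β : F} (hβ : β ≠ 0) :
    Nat.card ↥(fib Q B U (fun _ => True) e c β) = Nat.card ↥(perp2 B U e f) := by
  refine Nat.card_congr
    { toFun := fun x => ⟨_, H.proj C x.2.1⟩
      invFun := fun w => ⟨w.1 + ((c - Q w.1) / β) • e + β • f, ?_, ?_, ?_, trivial⟩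
      left_inv := fun x => ?_
      right_inv := fun w => ?_ }
  · exact U.add_mem (U.add_mem (mem_perp2.mp w.2).1 (U.smul_mem _ H.memE)) (U.smul_mem _ H.memF)
  · rw [Q_hyp C H w.2, div_mul_cancel₀ _ hβ]
    ring
  · simp [(mem_perp2.mp w.2).2.1, C.self_zero H.singE, H.pair]
  · obtain ⟨x, hx, hc, hb, -⟩ := x
    refine Subtype.ext ?_
    have h := Q_hyp C H (H.proj C hx) (B f x) (B e x)
    rw [show x - B f x • e - B e x • f + B f x • e + B e x • f = x by abel, hc, hb] at h
    simp only [hb]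
    rw [show (c - Q (x - B f x • e - β • f)) / β = B f x by rw [h]; field_simp; ring]
    abel
  · obtain ⟨w, hw⟩ := w
    obtain ⟨-, hew, hfw⟩ := mem_perp2.mp hw
    refine Subtype.ext ?_
    simp [hew, hfw, H.pair, H.pair' C, C.self_zero H.singE, C.self_zero H.singF]
    abel

/-- The exponential sum over the vectors of a given value against a singular vector. -/
theorem sum_char [Fintype F] [DecidableEq F] (H : Hyp Q B U e f) (c : F) {ψ : AddChar F ℂ}
    (hψ : ψ ≠ 1) :
    ∑ x ∈ (Set.toFinite {x | x ∈ U ∧ Q x = c}).toFinset, ψ (B e x) =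
      (Nat.card F : ℂ) * level Q (perp2 B U e f) c - Nat.card ↥(perp2 B U e f) := by
  classical
  rw [← Finset.sum_fiberwise _ (fun x => B e x)]
  have hN : ∀ β, ({x ∈ (Set.toFinite {x | x ∈ U ∧ Q x = c}).toFinset | B e x = β}).card =
      Nat.card ↥(fib Q B U (fun _ => True) e c β) := fun β => by
    rw [Nat.card_coe_set_eq, ← Set.ncard_coe_finset]
    refine congrArg Set.ncard ?_
    ext x
    simp [fib, and_assoc]
  have key : ∀ β, ∑ x ∈ (Set.toFinite {x | x ∈ U ∧ Q x = c}).toFinset with B e x = β, ψ (B e x) =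
      (Nat.card ↥(perp2 B U e f) : ℂ) * ψ β + if β = 0 then
        (Nat.card F : ℂ) * level Q (perp2 B U e f) c - Nat.card ↥(perp2 B U e f) else 0 := fun β => by
    rw [Finset.sum_congr rfl fun x hx => by rw [(Finset.mem_filter.mp hx).2], Finset.sum_const,
      nsmul_eq_mul, hN]
    by_cases hβ : β = 0
    · subst hβ
      rw [card_fib_zero C H c (fun _ _ => Iff.rfl), if_pos rfl, AddChar.map_zero_eq_one]
      simp only [and_true, level]
      push_cast
      ring
    · rw [card_fib_ne C H c hβ, if_neg hβ, add_zero]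
  rw [Finset.sum_congr rfl fun β _ => key β, Finset.sum_add_distrib, ← Finset.mul_sum,
    AddChar.sum_eq_zero_of_ne_one hψ, mul_zero, zero_add, Finset.sum_ite_eq', if_pos (Finset.mem_univ _)]

/-- The vectors perpendicular to two members of a hyperbolic family. -/
theorem card_perp_pair {p q g : ι → F} (H : Hyp Q B U p g) (hq : q ∈ perp2 B U p g)
    {h : ι → F} (H' : Hyp Q B (perp2 B U p g) q h) (c : F) :
    Nat.card {x : ι → F // x ∈ U ∧ Q x = c ∧ B p x = 0 ∧ B q x = 0} =
      Nat.card F * (Nat.card F * level Q (perp2 B (perp2 B U p g) q h) c) := by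
  have hP : ∀ (x : ι → F) (a : F), B q (x + a • p) = 0 ↔ B q x = 0 := fun x a => by
    rw [map_add, map_smul, C.symm q p, (mem_perp2.mp hq).2.1, smul_zero, add_zero]
  refine (card_fib_zero C H c (P := fun x => B q x = 0) hP).trans ?_
  congr 1
  have h2 := card_fib_zero C H' c (P := fun _ => True) (fun _ _ => Iff.rfl)
  simp only [and_true] at h2
  rw [level, ← h2]
  refine Nat.card_congr (Equiv.subtypeEquivRight fun x => ?_)
  simp [fib]

omit C in
/-- An anisotropic form in two variables takes every value other than zero equally often. -/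
theorem card_binary [Fintype F] (a b : F)
    (hab : ∀ z₁ z₂ : F, z₁ ^ 2 + a * z₁ * z₂ + b * z₂ ^ 2 = 0 → z₁ = 0 ∧ z₂ = 0)
    (hsur : ∀ c : F, ∃ z : F × F, z.1 ^ 2 + a * z.1 * z.2 + b * z.2 ^ 2 = c) (c : F) (hc : c ≠ 0) :
    Nat.card {z : F × F // z.1 ^ 2 + a * z.1 * z.2 + b * z.2 ^ 2 = c} = Nat.card F + 1 := by
  classical
  let N : F × F → F := fun z => z.1 ^ 2 + a * z.1 * z.2 + b * z.2 ^ 2
  let mul : F × F → F × F → F × F := fun x y =>
    (x.1 * y.1 - b * x.2 * y.2, x.1 * y.2 + x.2 * y.1 + a * x.2 * y.2)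
  have hN : ∀ x y, N (mul x y) = N x * N y := fun x y => by simp only [N, mul]; ring
  have h00 : N (0, 0) = 0 := by simp [N]
  have hzero : ∀ z, N z = 0 → z = (0, 0) := fun z hz =>
    Prod.ext (hab z.1 z.2 hz).1 (hab z.1 z.2 hz).2
  have hinj : ∀ s, N s ≠ 0 → Function.Injective (mul s) := fun s hs x y hxy => by
    have h1 : mul s (x.1 - y.1, x.2 - y.2) = (0, 0) := by
      have e1 := congrArg Prod.fst hxy
      have e2 := congrArg Prod.snd hxy
      simp only [mul] at e1 e2 ⊢
      exact Prod.ext (by linear_combination e1) (by linear_combination e2)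
    have h2 := congrArg N h1
    rw [hN, h00, mul_eq_zero] at h2
    have h3 := hzero _ (h2.resolve_left hs)
    simp only [Prod.mk.injEq, sub_eq_zero] at h3
    exact Prod.ext h3.1 h3.2
  have hle : ∀ d d' : F, d ≠ 0 → d' ≠ 0 → Nat.card {z // N z = d} ≤ Nat.card {z // N z = d'} := by
    intro d d' hd hd'
    obtain ⟨s, hs⟩ := hsur (d' / d)
    have hs' : N s = d' / d := hs
    refine Nat.card_le_card_of_injective
      (fun z : {z // N z = d} => (⟨mul s z.1, by rw [hN, hs', z.2, div_mul_cancel₀ _ hd]⟩ :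
        {z // N z = d'})) fun x y h => Subtype.ext ?_
    exact hinj s (by rw [hs']; exact div_ne_zero hd' hd) (congrArg Subtype.val h)
  have hsig : Nat.card (F × F) = ∑ d, Nat.card {z // N z = d} := by
    rw [← Nat.card_sigma]
    exact Nat.card_congr (Equiv.sigmaFiberEquiv N).symm
  have h0 : Nat.card {z // N z = 0} = 1 := by
    rw [Nat.card_eq_one_iff_unique]
    exact ⟨⟨fun x y => Subtype.ext ((hzero _ x.2).trans (hzero _ y.2).symm)⟩, ⟨⟨_, h00⟩⟩⟩
  rw [← Finset.add_sum_erase _ _ (Finset.mem_univ (0 : F)), h0, Finset.sum_congr rfl fun d hd =>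
    le_antisymm (hle d c (Finset.ne_of_mem_erase hd) hc) (hle c d hc (Finset.ne_of_mem_erase hd)),
    Finset.sum_const, Finset.card_erase_of_mem (Finset.mem_univ _), Finset.card_univ, Nat.card_prod,
    Nat.card_eq_fintype_card, smul_eq_mul] at hsig
  have h2 := Fintype.one_lt_card (α := F)
  obtain ⟨t, ht⟩ : ∃ t, Fintype.card F = t + 1 := ⟨_, (Nat.sub_add_cancel h2.le).symm⟩
  rw [ht, Nat.add_sub_cancel] at hsig
  rw [Nat.card_eq_fintype_card (α := F), ht]
  have ht0 : 0 < t := by omega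
  refine Nat.eq_of_mul_eq_mul_left ht0 ?_
  show t * Nat.card {z // N z = c} = t * (t + 1 + 1)
  nlinarith

end Cfsg.Lib.Linear.OrthDeg
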