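import Cfsg.Agent.Lib.Linear.OrthDegree.Step
import Cfsg.Agent.Lib.Linear.OrthDegree.Arith
import Cfsg.Agent.Lib.OrthMult.Sub
import Cfsg.Agent.Lib.Linear.OrthOrderStd

/-!
# Passing to the space of parameters, and the standard spaces
-/

set_option autoImplicit false

namespace Cfsg.Lib.Linear.OrthDeg

open Module Cfsg.Lib.Linear.Orth Cfsg.Lib.Linear.MinIndexOrth Cfsg.Lib.OrthMult
open scoped Matrix

universe u

variable {ι : Type} [Fintype ι] [DecidableEq ι] {F : Type u} [Field F]
  {Q : (ι → F) → F} {B : LinearMap.BilinForm F (ι → F)}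

theorem IsT.coord [Finite F] {κ : Type} [Fintype κ] [DecidableEq κ] {Q' : (κ → F) → F}
    {B' : LinearMap.BilinForm F (κ → F)} {U W : Submodule F (ι → F)} {φ : (κ → F) →ₗ[F] (ι → F)}
    (K : Coord Q B Q' B' U W φ) {r : ℕ} {ε : ℤ} (h : IsT Q U r ε) :
    IsT Q' (⊤ : Submodule F (κ → F)) r ε := by
  have hfr : finrank F U = Fintype.card κ := by
    rw [← K.range_eq, LinearMap.finrank_range_of_inj K.inj, finrank_fintype_fun_eq_card]
  have hlev : ∀ c, level Q' (⊤ : Submodule F (κ → F)) c = level Q U c := fun c => by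
    refine Nat.card_eq_of_bijective (fun x => ⟨φ x.1, K.memU x.1, by rw [K.map_q, x.2.2]⟩)
      ⟨fun x y h => Subtype.ext (K.inj (congrArg Subtype.val h)), fun y => ?_⟩
    obtain ⟨x, hx⟩ := K.exists_pre y.2.1
    exact ⟨⟨x, trivial, by rw [← K.map_q, hx, y.2.2]⟩, Subtype.ext hx⟩
  exact ⟨by rw [finrank_top, finrank_fintype_fun_eq_card, ← hfr, h.1], fun c => by rw [hlev]; exact h.2 c⟩

/-- A bound for all spaces of a type gives one for the space of parameters of a larger one. -/
theorem minRep_X [Fintype F] (C : Space Q B) {e f : ι → F} (H : Hyp Q B ⊤ e f) {r : ℕ} {ε : ℤ}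
    (hT : IsT Q (X B e f) r ε) {L : ℕ}
    (h : ∀ (d : ℕ) (Q' : (Fin d → F) → F) (B' : LinearMap.BilinForm F (Fin d → F)), Space Q' B' → d = 2 * r →
      IsT Q' (⊤ : Submodule F (Fin d → F)) r ε → MinRep ↥(Root Q' B' ⊤) L) :
    MinRep ↥(Root Q B (X B e f)) L := by
  have S := split_orth C (A := orth B (X B e f)) ?_
  · have hU : orth B (orth B (X B e f)) = X B e f := by
      refine (Submodule.eq_of_le_of_finrank_eq (fun x hx => mem_orth.2 fun a ha => by
        rw [C.symm]; exact mem_orth.1 ha x hx) ?_).symm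
      have h1 := orth_finrank C (A := X B e f) (X_ndeg C H)
      have h2 := orth_finrank C (A := orth B (X B e f)) (split_orth C (X_ndeg C H)).ndU
      omega
    rw [hU] at S
    obtain ⟨Q', B', φ, K⟩ := exists_coord_sub C S
    exact (h _ Q' B' K.space' hT.1 (hT.coord K)).of_surjective K.rootEquiv.toMonoidHom K.rootEquiv.surjective
  · exact (split_orth C (X_ndeg C H)).ndU

theorem isT_plus [Finite F] (m : ℕ) :
    IsT (Cfsg.quadFormPlus m F) (⊤ : Submodule F (Fin m ⊕ Fin m → F)) m 1 := by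
  classical
  obtain ⟨BP, C⟩ := exists_space_plus (F := F) m
  have hf := hypFam_plus C
  suffices key : ∀ k j, j + k = m → IsT (Cfsg.quadFormPlus m F)
      (restOf BP (fun i : Fin m => Pi.single (Sum.inl i) (1 : F)) (fun i => Pi.single (Sum.inr i) 1) j) k 1 from
    key m 0 (Nat.zero_add m)
  intro k
  induction k with
  | zero =>
    intro j hj
    rw [Nat.add_zero] at hj
    subst hj
    rw [rest_plus C]
    exact isT_bot C
  | succ k ih =>
    intro j hj
    have h := ih (j + 1) (by omega)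
    rw [restOf_succ _ _ (show j < m by omega)] at h
    exact h.up C (hf.hyp C j (by omega))

theorem binary_surj [Fintype F] {a b : F}
    (hab : ∀ z₁ z₂ : F, z₁ ^ 2 + a * z₁ * z₂ + b * z₂ ^ 2 = 0 → z₁ = 0 ∧ z₂ = 0) (c : F) :
    ∃ z : F × F, z.1 ^ 2 + a * z.1 * z.2 + b * z.2 ^ 2 = c := by
  classical
  by_cases h2 : (2 : F) = 0
  · haveI : CharP F 2 := CharTwo.of_one_ne_zero_of_two_eq_zero one_ne_zero h2
    obtain ⟨s, hs⟩ := FiniteField.isSquare_of_char_two (ringChar.eq F 2) c
    exact ⟨(s, 0), by show s ^ 2 + a * s * 0 + b * 0 ^ 2 = c; rw [hs]; ring⟩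
  · obtain ⟨t, rfl⟩ : ∃ t, a = 2 * t := ⟨a / 2, (mul_div_cancel₀ a h2).symm⟩
    have hd : b - t ^ 2 ≠ 0 := fun h => one_ne_zero (hab (-t) 1 (by linear_combination h)).2
    obtain ⟨x, y, hxy⟩ := FiniteField.exists_root_sum_quadratic
      (f := (Polynomial.X : Polynomial F) ^ 2)
      (g := Polynomial.C (b - t ^ 2) * Polynomial.X ^ 2 - Polynomial.C c)
      (Polynomial.degree_X_pow 2)
      (by
        rw [Polynomial.degree_sub_eq_left_of_degree_lt, Polynomial.degree_C_mul_X_pow 2 hd]
        · rfl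
        · rw [Polynomial.degree_C_mul_X_pow 2 hd]
          exact lt_of_le_of_lt Polynomial.degree_C_le (by decide))
      (FiniteField.odd_card_of_char_ne_two (fun h => h2 (by
        haveI := ringChar.charP F
        have := CharP.cast_eq_zero F (ringChar F)
        rw [h] at this
        exact_mod_cast this)))
    simp at hxy
    refine ⟨(x - t * y, y), ?_⟩
    show (x - t * y) ^ 2 + 2 * t * (x - t * y) * y + b * y ^ 2 = c
    linear_combination hxy

theorem isT_minus [Fintype F] (m : ℕ) {a b : F}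
    (hab : ∀ z₁ z₂ : F, z₁ ^ 2 + a * z₁ * z₂ + b * z₂ ^ 2 = 0 → z₁ = 0 ∧ z₂ = 0) :
    IsT (Cfsg.quadFormMinus m F a b) (⊤ : Submodule F ((Fin m ⊕ Fin m) ⊕ Fin 2 → F)) (m + 1) (-1) := by
  classical
  obtain ⟨B, C⟩ := exists_space_minus (F := F) m a b hab
  let e : Fin m → (Fin m ⊕ Fin m) ⊕ Fin 2 → F := fun i => Pi.single (Sum.inl (Sum.inl i)) 1
  let f : Fin m → (Fin m ⊕ Fin m) ⊕ Fin 2 → F := fun i => Pi.single (Sum.inl (Sum.inr i)) 1
  have hpol : ∀ x y, B x y =
      (∑ i, (x (.inl (.inl i)) * y (.inl (.inr i)) + x (.inl (.inr i)) * y (.inl (.inl i)))) +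
        (2 * x (.inr 0) * y (.inr 0) + a * x (.inr 0) * y (.inr 1) + a * x (.inr 1) * y (.inr 0) +
          2 * b * x (.inr 1) * y (.inr 1)) := fun x y => by
    rw [← C.polar]
    simp only [QuadraticMap.polar, Cfsg.quadFormMinus, Pi.add_apply]
    have : ∀ i : Fin m, (x (.inl (.inl i)) + y (.inl (.inl i))) * (x (.inl (.inr i)) + y (.inl (.inr i)))
        = x (.inl (.inl i)) * x (.inl (.inr i)) + y (.inl (.inl i)) * y (.inl (.inr i)) +
          (x (.inl (.inl i)) * y (.inl (.inr i)) + x (.inl (.inr i)) * y (.inl (.inl i))) :=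
      fun i => by ring
    simp only [this, Finset.sum_add_distrib]
    ring
  have hf : HypFam (Cfsg.quadFormMinus m F a b) B e f := by
    refine ⟨fun i => ?_, fun i => ?_, fun i => ?_, fun i j h => ?_, fun i j h => ?_, fun i j h => ?_⟩
    all_goals try rw [hpol]
    all_goals simp [e, f, Cfsg.quadFormMinus, Pi.single_apply]
    all_goals exact fun h' => h h'.symm
  let emb : F × F → (Fin m ⊕ Fin m) ⊕ Fin 2 → F := fun z => Sum.elim 0 ![z.1, z.2]
  have hemb : ∀ x, x ∈ restOf B e f m ↔ ∃ z, x = emb z := fun x => by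
    rw [mem_restOf e f le_rfl]
    constructor
    · intro h
      refine ⟨(x (.inr 0), x (.inr 1)), funext fun j => ?_⟩
      rcases j with (j | j) | j
      · have := (h j j.2).2
        simp [hpol, f, Pi.single_apply] at this
        simp [emb, this]
      · have := (h j j.2).1
        simp [hpol, e, Pi.single_apply] at this
        simp [emb, this]
      · fin_cases j <;> simp [emb]
    · rintro ⟨z, rfl⟩ i _
      simp [hpol, e, f, emb]
  have hQ : ∀ z, Cfsg.quadFormMinus m F a b (emb z) = z.1 ^ 2 + a * z.1 * z.2 + b * z.2 ^ 2 := fun z => by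
    simp [Cfsg.quadFormMinus, emb]
  have hinj : Function.Injective emb := fun z z' h => by
    have h0 := congrFun h (Sum.inr 0)
    have h1 := congrFun h (Sum.inr 1)
    simp [emb] at h0 h1
    exact Prod.ext h0 h1
  have hlev : ∀ c, level (Cfsg.quadFormMinus m F a b) (restOf B e f m) c =
      Nat.card {z : F × F // z.1 ^ 2 + a * z.1 * z.2 + b * z.2 ^ 2 = c} := fun c => by
    refine (Nat.card_eq_of_bijective (fun z => ⟨emb z.1, (hemb _).mpr ⟨_, rfl⟩, (hQ z.1).trans z.2⟩)
      ⟨fun x y h => Subtype.ext (hinj (congrArg Subtype.val h)), fun y => ?_⟩).symm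
    obtain ⟨z, hz⟩ := (hemb y.1).mp y.2.1
    exact ⟨⟨z, by rw [← hQ, ← hz, y.2.2]⟩, Subtype.ext hz.symm⟩
  have hbase : IsT (Cfsg.quadFormMinus m F a b) (restOf B e f m) 1 (-1) := by
    refine ⟨?_, fun c => ?_⟩
    · have h1 : Nat.card ↥(restOf B e f m) = Nat.card F ^ 2 := by
        rw [sq, ← Nat.card_prod]
        refine (Nat.card_eq_of_bijective (fun z => ⟨emb z, (hemb _).mpr ⟨_, rfl⟩⟩)
          ⟨fun x y h => hinj (congrArg Subtype.val h), fun y => ?_⟩).symm
        obtain ⟨z, hz⟩ := (hemb y.1).mp y.2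
        exact ⟨z, Subtype.ext hz.symm⟩
      rw [card_submodule] at h1
      rw [Nat.pow_right_injective (Finite.one_lt_card (α := F)) h1]
    · rw [hlev c]
      by_cases hc : c = 0
      · subst hc
        have h1 : Nat.card {z : F × F // z.1 ^ 2 + a * z.1 * z.2 + b * z.2 ^ 2 = 0} = 1 := by
          rw [Nat.card_eq_one_iff_unique]
          exact ⟨⟨fun x y => Subtype.ext (Prod.ext ((hab _ _ x.2).1.trans (hab _ _ y.2).1.symm)
            ((hab _ _ x.2).2.trans (hab _ _ y.2).2.symm))⟩, ⟨⟨(0, 0), by simp⟩⟩⟩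
        rw [h1, del_zero]
        ring
      · rw [card_binary a b hab (binary_surj hab) c hc, del_ne hc]
        push_cast
        ring
  suffices key : ∀ k j, j + k = m →
      IsT (Cfsg.quadFormMinus m F a b) (restOf B e f j) (k + 1) (-1) from key m 0 (Nat.zero_add m)
  intro k
  induction k with
  | zero =>
    intro j hj
    rw [Nat.add_zero] at hj
    subst hj
    exact hbase
  | succ k ih =>
    intro j hj
    have h := ih (j + 1) (by omega)
    rw [restOf_succ _ _ (show j < m by omega)] at h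
    exact h.up C (hf.hyp C j (by omega))

end Cfsg.Lib.Linear.OrthDeg
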