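import Cfsg.Agent.Lib.Linear.OrthDegree.Count
import Cfsg.Agent.Lib.Char.Central

/-!
# Siegel elements of totally singular lines: conjugacy, class size, and elements fixing a vector
-/

set_option autoImplicit false

namespace Cfsg.Lib.Linear.OrthDeg

open Module Cfsg.Lib.Linear.Orth Cfsg.Lib.Linear.MinIndexOrth Cfsg.Lib.Char
open scoped Matrix commutatorElement

variable {ι : Type} [Fintype ι] [DecidableEq ι] {F : Type*} [Field F]
  {Q : (ι → F) → F} {B : LinearMap.BilinForm F (ι → F)}

omit [DecidableEq ι] in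
/-- A basis of a totally singular plane. -/
structure TS (Q : (ι → F) → F) (B : LinearMap.BilinForm F (ι → F)) (p q : ι → F) : Prop where
  singP : Q p = 0
  singQ : Q q = 0
  perp : B p q = 0
  neP : p ≠ 0
  indep : q ∉ Submodule.span F {p}

variable (C : Space Q B)

include C

theorem TS.act {p q : ι → F} (hp : Q p = 0) (hq : Q q = 0) (hpq : B p q = 0) (x : ι → F) :
    (sGL Q B p q).val *ᵥ x = x + B p x • q - B q x • p := by
  rw [sGL_act C hp hpq, hq, zero_mul, add_zero]

theorem sGL_one {p : ι → F} (hp : Q p = 0) : sGL Q B p 0 = 1 := gl_ext fun x => by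
  rw [sGL_act C hp (map_zero _), C.zero]
  simp

/-- A vector separated from two others. -/
theorem exists_sep {U : Submodule F (ι → F)} (hU : NDeg B U) {p v w : ι → F} (hp : p ∈ U) (hv : v ∈ U)
    (hw : w ∈ U) (h : p ∉ Submodule.span F {v, w}) : ∃ y ∈ U, B p y = 1 ∧ B v y = 0 ∧ B w y = 0 := by
  by_contra hne
  push Not at hne
  let φ : (ι → F) → Module.Dual F U := fun x => (B x).comp U.subtype
  have hker : ⨅ i, LinearMap.ker (![φ v, φ w] i) ≤ LinearMap.ker (φ p) := by
    intro y hy
    rw [Submodule.mem_iInf] at hy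
    have h0 : B v y.1 = 0 := hy 0
    have h1 : B w y.1 = 0 := hy 1
    by_contra h2
    have h2' : B p y.1 ≠ 0 := h2
    exact hne _ (U.smul_mem (B p y.1)⁻¹ y.2) (by simp [inv_mul_cancel₀ h2']) (by simp [h0]) (by simp [h1])
  have hm := mem_span_of_iInf_ker_le_ker hker
  rw [Matrix.range_cons_cons_empty, Submodule.mem_span_pair] at hm
  obtain ⟨a, b, hab⟩ := hm
  have h0 : p - a • v - b • w = 0 := hU _ (U.sub_mem (U.sub_mem hp (U.smul_mem _ hv)) (U.smul_mem _ hw))
    fun y hy => by
      have := LinearMap.congr_fun hab ⟨y, hy⟩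
      simp only [φ, LinearMap.add_apply, LinearMap.smul_apply, LinearMap.comp_apply,
        Submodule.subtype_apply, smul_eq_mul] at this
      simp only [map_sub, map_smul, LinearMap.sub_apply, LinearMap.smul_apply, smul_eq_mul]
      linear_combination -this
  refine h (Submodule.mem_span_pair.mpr ⟨a, b, ?_⟩)
  rw [sub_sub, sub_eq_zero] at h0
  exact h0.symm

/-- A partner of a singular vector perpendicular to two others. -/
theorem exists_partner {U : Submodule F (ι → F)} (hU : NDeg B U) {p v w : ι → F} (hp : p ∈ U)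
    (hv : v ∈ U) (hw : w ∈ U) (hQp : Q p = 0) (hpv : B p v = 0) (hpw : B p w = 0)
    (h : p ∉ Submodule.span F {v, w}) : ∃ g, Hyp Q B U p g ∧ B v g = 0 ∧ B w g = 0 := by
  obtain ⟨y, hy, hpy, hvy, hwy⟩ := exists_sep C hU hp hv hw h
  refine ⟨y - Q y • p, ⟨hp, U.sub_mem hy (U.smul_mem _ hp), hQp, ?_, ?_⟩, ?_, ?_⟩
  · rw [sub_eq_add_neg, ← neg_smul, C.add, C.smul, hQp, map_smul, C.symm y p, hpy]
    simp
  · simp [hpy, C.self_zero hQp]
  · simp [hvy, C.symm v p, hpv]
  · simp [hwy, C.symm w p, hpw]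

/-- The commutator of two Siegel elements is a Siegel element of a totally singular line. -/
theorem comm_sGL {p q a b : ι → F} (hp : Q p = 0) (hq : Q q = 0) (hpq : B p q = 0) (hpa : B p a = 0)
    (hqa : B q a = 0) (hpb : B p b = 0) (hqb : B q b = 0) :
    ⁅sGL Q B q b, sGL Q B p a⁆ = sGL Q B p ((-B b a) • q) := by
  have hqp : B q p = 0 := by rw [C.symm]; exact hpq
  have h1 : B p ((-B b a) • q) = 0 := by rw [map_smul, hpq, smul_zero]
  rw [commutatorElement_def, sGL_conj C hp hpa (sGL_mem C hq hqb)]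
  have e1 : (sGL Q B q b).val *ᵥ p = p := by
    rw [sGL_act C hq hqb, hqp, C.symm b p, hpb]
    simp
  have e2 : (sGL Q B q b).val *ᵥ a = (-B b a) • q + a := by
    rw [sGL_act C hq hqb, hqa]
    simp
    abel
  rw [e1, e2, ← sGL_mul C hp h1 hpa, mul_inv_cancel_right]

variable [Finite F] (h7 : 7 ≤ Fintype.card ι) {e f : ι → F} (H : Hyp Q B ⊤ e f)

theorem TS.exists_smul_left {p q : ι → F} (hp : Q p = 0) (hq : Q q = 0) (hpq : B p q = 0) (c : F) :
    sGL Q B p (c • q) = sGL Q B q (-c • p) := gl_ext fun x => by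
  rw [TS.act C hp (by rw [C.smul, hq, mul_zero]) (by rw [map_smul, hpq, smul_zero]),
    TS.act C hq (by rw [C.smul, hp, mul_zero]) (by rw [map_smul, C.symm q p, hpq, smul_zero])]
  simp only [map_smul, LinearMap.smul_apply, smul_eq_mul]
  module

include h7 H

/-- Every Siegel element of a totally singular line is conjugate to a given one with centre `e`. -/
theorem conj_pair {p q u : ι → F} (hpq : TS Q B p q) (hu : u ∈ X B e f) (hQu : Q u = 0) (hu0 : u ≠ 0) :
    ∃ g ∈ Root Q B ⊤, g * sGL Q B p q * g⁻¹ = sGL Q B e u := by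
  obtain ⟨g, hg, hgp⟩ := trans_top C (by omega) hpq.neP (Hyp.ne_zero C H).1 (by rw [hpq.singP, H.singE])
  have hgI := root_le_iso C _ hg
  set q1 := g.val *ᵥ q with hq1
  have hQq1 : Q q1 = 0 := by rw [hq1, mem_iso.mp hgI, hpq.singQ]
  have heq1 : B e q1 = 0 := by rw [← hgp, hq1, C.B_act hgI, hpq.perp]
  set w := q1 - B f q1 • e with hw
  have hwX : w ∈ X B e f := mem_X.mpr ⟨by simp [hw, heq1, C.self_zero H.singE], by simp [hw, H.pair' C]⟩
  have hQw : Q w = 0 := by
    rw [hw, sub_eq_add_neg, ← neg_smul, C.add, C.smul, H.singE, hQq1, map_smul, C.symm q1 e, heq1]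
    simp
  have hw0 : w ≠ 0 := fun h0 => by
    refine hpq.indep (Submodule.mem_span_singleton.mpr ⟨B f q1, act_injective g ?_⟩)
    show g.val *ᵥ (B f q1 • p) = g.val *ᵥ q
    rw [Matrix.mulVec_smul, hgp, ← hq1]
    exact (sub_eq_zero.mp h0).symm
  obtain ⟨k, hk, hkw⟩ := trans C (X_ndeg C H) (by have := finrank_X C H; omega) hwX hu hw0 hu0 (by rw [hQw, hQu])
  have hkI := root_le_iso C _ hk
  refine ⟨k * g, mul_mem (root_mono le_top hk) hg, ?_⟩
  rw [show k * g * sGL Q B p q * (k * g)⁻¹ = k * (g * sGL Q B p q * g⁻¹) * k⁻¹ by group,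
    sGL_conj C hpq.singP hpq.perp hgI, hgp, ← hq1,
    show q1 = w + B f q1 • e by rw [hw]; abel, sGL_add_self C H.singE (X.left hwX),
    sGL_conj C H.singE (X.left hwX) hkI, (root_fix C H hk).1, hkw]

omit h7 H in
/-- The pairs spanning a totally singular plane. -/
abbrev Pairs (Q : (ι → F) → F) (B : LinearMap.BilinForm F (ι → F)) :=
  {p : (ι → F) × (ι → F) // TS Q B p.1 p.2}

theorem card_second :
    (Nat.card {x : ι → F // TS Q B e x} : ℤ) =
      (Nat.card F : ℤ) * ((level Q (X B e f) 0 : ℤ) - 1) := by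
  have := Fintype.ofFinite F
  classical
  have h1 := card_fib_zero C H (0 : F) (P := fun _ => True) (fun _ _ => Iff.rfl)
  simp only [and_true] at h1
  have hsplit : fib Q B ⊤ (fun _ => True) e 0 0 = {x | TS Q B e x} ∪ ↑(Submodule.span F {e}) := by
    ext x
    simp only [fib, Submodule.mem_top, true_and, and_true, Set.mem_setOf_eq, Set.mem_union, SetLike.mem_coe]
    constructor
    · intro hx
      by_cases hs : x ∈ Submodule.span F {e}
      · exact Or.inr hs
      · exact Or.inl ⟨H.singE, hx.1, hx.2, (Hyp.ne_zero C H).1, hs⟩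
    · rintro (hx | hx)
      · exact ⟨hx.singQ, hx.perp⟩
      · obtain ⟨c, rfl⟩ := Submodule.mem_span_singleton.mp hx
        exact ⟨by rw [C.smul, H.singE, mul_zero], by rw [map_smul, C.self_zero H.singE, smul_zero]⟩
  rw [Nat.card_coe_set_eq, hsplit, Set.ncard_union_eq (Set.disjoint_left.mpr fun x hx hs => hx.indep hs),
    ← Nat.card_coe_set_eq, ← Nat.card_coe_set_eq] at h1
  have h2 : Nat.card ↥(Submodule.span F {e}) = Nat.card F := by
    rw [card_submodule, finrank_span_singleton (Hyp.ne_zero C H).1, pow_one]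
  have h1' : (Nat.card {x : ι → F // TS Q B e x} : ℤ) + Nat.card ↥(Submodule.span F {e}) =
      (Nat.card F : ℤ) * level Q (X B e f) 0 := by exact_mod_cast h1
  rw [h2] at h1'
  linear_combination h1'

theorem card_pairs :
    (Nat.card (Pairs Q B) : ℤ) =
      ((level Q (⊤ : Submodule F (ι → F)) 0 : ℤ) - 1) *
        ((Nat.card F : ℤ) * ((level Q (X B e f) 0 : ℤ) - 1)) := by
  have := Fintype.ofFinite F
  classical
  have e1 : Pairs Q B ≃ Σ p : {p : ι → F // p ≠ 0 ∧ Q p = 0}, {x : ι → F // TS Q B p.1 x} :=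
    { toFun := fun s => ⟨⟨s.1.1, s.2.neP, s.2.singP⟩, ⟨s.1.2, s.2⟩⟩
      invFun := fun s => ⟨(s.1.1, s.2.1), s.2.2⟩
      left_inv := fun _ => rfl
      right_inv := fun _ => rfl }
  have hc : ∀ p : {p : ι → F // p ≠ 0 ∧ Q p = 0},
      Nat.card {x : ι → F // TS Q B p.1 x} = Nat.card {x : ι → F // TS Q B e x} := fun p => by
    obtain ⟨g, hg, hgp⟩ := trans_top C (by omega) p.2.1 (Hyp.ne_zero C H).1 (by rw [p.2.2, H.singE])
    have hgI := root_le_iso C _ hg
    refine Nat.card_congr (Equiv.subtypeEquiv ⟨fun x => g.val *ᵥ x, fun x => (g⁻¹ : GL ι F).val *ᵥ x,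
      inv_act g, act_inv g⟩ fun x => ?_)
    show TS Q B p.1 x ↔ TS Q B e (g.val *ᵥ x)
    have key : g.val *ᵥ x ∈ Submodule.span F {e} ↔ x ∈ Submodule.span F {p.1} := by
      simp only [Submodule.mem_span_singleton]
      refine exists_congr fun c => ?_
      rw [← hgp, ← Matrix.mulVec_smul]
      exact ⟨fun h => act_injective g h, fun h => by rw [h]⟩
    constructor
    · intro h
      exact ⟨H.singE, by rw [mem_iso.mp hgI, h.singQ], by rw [← hgp, C.B_act hgI, h.perp],
        (Hyp.ne_zero C H).1, fun h' => h.indep (key.mp h')⟩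
    · intro h
      refine ⟨p.2.2, by rw [← mem_iso.mp hgI]; exact h.singQ, ?_, p.2.1, fun h' => h.indep (key.mpr h')⟩
      rw [← C.B_act hgI, hgp]
      exact h.perp
  have hz : (Nat.card {p : ι → F // p ≠ 0 ∧ Q p = 0} : ℤ) = (level Q (⊤ : Submodule F (ι → F)) 0 : ℤ) - 1 := by
    have h3 : {p : ι → F | p ∈ (⊤ : Submodule F (ι → F)) ∧ Q p = 0} = {p | p ≠ 0 ∧ Q p = 0} ∪ {0} := by
      ext x
      by_cases hx : x = 0 <;> simp [hx, C.zero]
    have h4 := congrArg Set.ncard h3
    rw [Set.ncard_union_eq (by simp), Set.ncard_singleton, ← Nat.card_coe_set_eq, ← Nat.card_coe_set_eq] at h4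
    have h5 : level Q (⊤ : Submodule F (ι → F)) 0 = Nat.card {p : ι → F // p ≠ 0 ∧ Q p = 0} + 1 := h4
    rw [h5]
    push_cast
    ring
  rw [Nat.card_congr e1, Nat.card_sigma, Finset.sum_congr rfl fun p _ => hc p, Finset.sum_const,
    Finset.card_univ, smul_eq_mul, Nat.cast_mul, ← Nat.card_eq_fintype_card, hz, card_second C h7 H]

omit h7 in
theorem card_fibre {u : ι → F} (hu : u ∈ X B e f) (hQu : Q u = 0) (hu0 : u ≠ 0) :
    (Nat.card {s : Pairs Q B // sGL Q B s.1.1 s.1.2 = sGL Q B e u} : ℤ) =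
      (Nat.card F : ℤ) * ((Nat.card F : ℤ) ^ 2 - 1) := by
  have := Fintype.ofFinite F
  classical
  have heu : B e u = 0 := X.left hu
  obtain ⟨g, Hg, -, -⟩ := exists_partner C (X_ndeg C H) hu (Submodule.zero_mem _) (Submodule.zero_mem _) hQu
    (map_zero _) (map_zero _) (by simpa using hu0)
  have hbe : ∀ x ∈ X B e f, B x e = 0 := fun x hx => by rw [C.symm]; exact X.left hx
  have hbf : ∀ x ∈ X B e f, B x f = 0 := fun x hx => by rw [C.symm]; exact X.right hx
  have hact : ∀ a b c d : F,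
      Q (a • e + b • u) = 0 ∧ B (a • e + b • u) (c • e + d • u) = 0 ∧
        (TS Q B (a • e + b • u) (c • e + d • u) ↔ a * d - b * c ≠ 0) ∧
        ∀ x, (sGL Q B (a • e + b • u) (c • e + d • u)).val *ᵥ x =
          x + (a * d - b * c) • (B e x • u - B u x • e) := fun a b c d => by
    have h1 : ∀ a b : F, Q (a • e + b • u) = 0 := fun a b => by
      rw [C.add, C.smul, C.smul, H.singE, hQu, map_smul, map_smul, LinearMap.smul_apply, heu]
      simp
    have h2 : B (a • e + b • u) (c • e + d • u) = 0 := by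
      simp [C.self_zero H.singE, C.self_zero hQu, heu, hbe u hu]
    refine ⟨h1 a b, h2, ?_, fun x => ?_⟩
    · constructor
      · intro h hd
        have h0 := h.indep
        by_cases ha : a = 0
        · subst ha
          have hb : b ≠ 0 := fun hb => h.neP (by simp [hb])
          have hc : c = 0 := by
            rw [zero_mul, zero_sub, neg_eq_zero] at hd
            exact (mul_eq_zero.mp hd).resolve_left hb
          exact h0 (Submodule.mem_span_singleton.mpr ⟨d / b, by
            rw [hc]; simp [smul_smul, div_mul_cancel₀ _ hb]⟩)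
        · exact h0 (Submodule.mem_span_singleton.mpr ⟨c / a, by
            rw [sub_eq_zero] at hd
            rw [smul_add, smul_smul, smul_smul, div_mul_cancel₀ _ ha,
              show c / a * b = d by rw [div_mul_eq_mul_div, div_eq_iff ha]; linear_combination -hd]⟩)
      · intro hd
        refine ⟨h1 a b, h1 c d, h2, fun h0 => hd ?_, fun hm => hd ?_⟩
        · have ea := congrArg (B f) h0
          have eb := congrArg (B g) h0
          simp [H.pair' C, X.right hu, Hg.pair' C, hbe g Hg.memF] at ea eb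
          rw [ea, eb]
          ring
        · obtain ⟨t, ht⟩ := Submodule.mem_span_singleton.mp hm
          have ea := congrArg (B f) ht
          have eb := congrArg (B g) ht
          simp [H.pair' C, X.right hu, Hg.pair' C, hbe g Hg.memF] at ea eb
          rw [← ea, ← eb]
          ring
    · rw [TS.act C (h1 a b) (h1 c d) h2]
      simp only [map_add, map_smul, LinearMap.add_apply, LinearMap.smul_apply, smul_eq_mul]
      module
  have hdet : ∀ a b c d : F, sGL Q B (a • e + b • u) (c • e + d • u) = sGL Q B e u ↔ a * d - b * c = 1 :=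
    fun a b c d => by
    constructor
    · intro h
      have h1 := congrArg (fun k : GL ι F => B g (k.val *ᵥ f)) h
      simp only [(hact a b c d).2.2.2, TS.act C H.singE hQu heu, H.pair, map_add, map_sub, map_smul,
        Hg.pair' C, hbe g Hg.memF, X.right hu, C.symm u f, smul_eq_mul, one_smul, mul_one, mul_zero,
        sub_zero, zero_smul, add_right_inj] at h1
      exact h1
    · intro h
      refine gl_ext fun x => ?_
      rw [(hact a b c d).2.2.2, h, one_smul, TS.act C H.singE hQu heu, add_sub_assoc]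
  have hkey : ∀ s : Pairs Q B, sGL Q B s.1.1 s.1.2 = sGL Q B e u →
      s.1.1 ∈ Submodule.span F {e, u} ∧ s.1.2 ∈ Submodule.span F {e, u} := fun s hs => by
    have hmem : ∀ x, B s.1.1 x • s.1.2 - B s.1.2 x • s.1.1 ∈ Submodule.span F {e, u} := fun x => by
      have h1 := congrArg (fun k : GL ι F => k.val *ᵥ x) hs
      simp only [TS.act C s.2.singP s.2.singQ s.2.perp, TS.act C H.singE hQu heu, add_sub_assoc,
        add_right_inj] at h1
      rw [h1]
      exact Submodule.mem_span_pair.mpr ⟨-B u x, B e x, by module⟩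
    have hli : s.1.1 ∉ Submodule.span F {s.1.2, s.1.2} := fun hm => by
      rw [Set.pair_eq_singleton] at hm
      obtain ⟨t, ht⟩ := Submodule.mem_span_singleton.mp hm
      have ht0 : t ≠ 0 := fun h0 => s.2.neP (by rw [← ht, h0, zero_smul])
      exact s.2.indep (Submodule.mem_span_singleton.mpr ⟨t⁻¹, by
        rw [← ht, smul_smul, inv_mul_cancel₀ ht0, one_smul]⟩)
    have hli' : s.1.2 ∉ Submodule.span F {s.1.1, s.1.1} := by
      rw [Set.pair_eq_singleton]; exact s.2.indep
    obtain ⟨x, -, x1, x2, -⟩ := exists_sep C C.ndeg_top (p := s.1.1) trivial trivial trivial hli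
    obtain ⟨y, -, y1, y2, -⟩ := exists_sep C C.ndeg_top (p := s.1.2) trivial trivial trivial hli'
    have hx := hmem x
    have hy := hmem y
    rw [x1, x2] at hx
    rw [y1, y2] at hy
    constructor
    · simpa using neg_mem hy
    · simpa using hx
  let M := {m : (F × F) × (F × F) // m.1.1 * m.2.2 - m.1.2 * m.2.1 = 1}
  let tgt := {s : Pairs Q B // sGL Q B s.1.1 s.1.2 = sGL Q B e u}
  let Φ : M → tgt := fun m =>
    ⟨⟨(m.1.1.1 • e + m.1.1.2 • u, m.1.2.1 • e + m.1.2.2 • u),
      (hact _ _ _ _).2.2.1.mpr (by rw [m.2]; exact one_ne_zero)⟩, (hdet _ _ _ _).mpr m.2⟩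
  have hΦ : Function.Bijective Φ := by
    refine ⟨fun m m' h => ?_, fun s => ?_⟩
    · have h1 : m.1.1.1 • e + m.1.1.2 • u = m'.1.1.1 • e + m'.1.1.2 • u :=
        congrArg (fun s : tgt => s.1.1.1) h
      have h2 : m.1.2.1 • e + m.1.2.2 • u = m'.1.2.1 • e + m'.1.2.2 • u :=
        congrArg (fun s : tgt => s.1.1.2) h
      have a1 := congrArg (B f) h1
      have a2 := congrArg (B g) h1
      have a3 := congrArg (B f) h2
      have a4 := congrArg (B g) h2
      simp [H.pair' C, X.right hu, Hg.pair' C, hbe g Hg.memF] at a1 a2 a3 a4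
      exact Subtype.ext (Prod.ext (Prod.ext a1 a2) (Prod.ext a3 a4))
    · obtain ⟨hs1, hs2⟩ := hkey s.1 s.2
      obtain ⟨a, b, ha⟩ := Submodule.mem_span_pair.mp hs1
      obtain ⟨c, d, hc⟩ := Submodule.mem_span_pair.mp hs2
      have hd : a * d - b * c = 1 := (hdet a b c d).mp (by rw [ha, hc]; exact s.2)
      exact ⟨⟨((a, b), (c, d)), hd⟩, Subtype.ext (Subtype.ext (Prod.ext ha hc))⟩
  rw [show Nat.card {s : Pairs Q B // sGL Q B s.1.1 s.1.2 = sGL Q B e u} = Nat.card M from
    (Nat.card_eq_of_bijective Φ hΦ).symm]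
  have eM : M ≃ Σ p : {p : F × F // p ≠ (0, 0)}, {r : F × F // p.1.1 * r.2 - p.1.2 * r.1 = 1} :=
    { toFun := fun m => ⟨⟨m.1.1, fun h => by have := m.2; rw [h] at this; simp at this⟩, ⟨m.1.2, m.2⟩⟩
      invFun := fun s => ⟨(s.1.1, s.2.1), s.2.2⟩
      left_inv := fun _ => rfl
      right_inv := fun _ => rfl }
  have hfib : ∀ p : {p : F × F // p ≠ (0, 0)},
      Nat.card {r : F × F // p.1.1 * r.2 - p.1.2 * r.1 = 1} = Nat.card F := by
    rintro ⟨⟨a, b⟩, hp⟩
    by_cases ha : a = 0
    · have hb : b ≠ 0 := fun hb => hp (by rw [ha, hb])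
      refine Nat.card_congr ⟨fun r => r.1.2, fun t => ⟨(-b⁻¹, t), by simp [ha, hb]⟩, fun r => ?_, fun t => rfl⟩
      obtain ⟨⟨c, d⟩, h⟩ := r
      refine Subtype.ext (Prod.ext ?_ rfl)
      simp only [ha, zero_mul, zero_sub] at h
      show -b⁻¹ = c
      field_simp
      linear_combination h
    · refine Nat.card_congr ⟨fun r => r.1.1, fun t => ⟨(t, (1 + b * t) / a), by field_simp; ring⟩,
        fun r => ?_, fun t => rfl⟩
      obtain ⟨⟨c, d⟩, h⟩ := r
      refine Subtype.ext (Prod.ext rfl ?_)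
      simp only at h ⊢
      field_simp
      linear_combination -h
  rw [Nat.card_congr eM, Nat.card_sigma, Finset.sum_congr rfl fun p _ => hfib p, Finset.sum_const,
    Finset.card_univ, smul_eq_mul, Fintype.card_subtype_compl, Fintype.card_prod, Fintype.card_subtype_eq,
    Nat.card_eq_fintype_card, Nat.cast_mul, Nat.cast_sub (Nat.one_le_iff_ne_zero.mpr (by positivity)),
    Nat.cast_mul, Nat.cast_one]
  ring

/-- The size of the class of a Siegel element of a totally singular line. -/
theorem card_class [Fintype ↥(Root Q B ⊤)] {u : ι → F} (hu : u ∈ X B e f) (hQu : Q u = 0) (hu0 : u ≠ 0) :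
    ((classFinset (⟨sGL Q B e u, sGL_mem_root trivial trivial H.singE (X.left hu)⟩ :
        ↥(Root Q B ⊤))).card : ℤ) * ((Nat.card F : ℤ) * ((Nat.card F : ℤ) ^ 2 - 1)) =
      ((level Q (⊤ : Submodule F (ι → F)) 0 : ℤ) - 1) *
        ((Nat.card F : ℤ) * ((level Q (X B e f) 0 : ℤ) - 1)) := by
  have := Fintype.ofFinite F
  classical
  set x : ↥(Root Q B ⊤) := ⟨sGL Q B e u, sGL_mem_root trivial trivial H.singE (X.left hu)⟩ with hx
  let Φ : Pairs Q B → ↥(Root Q B ⊤) := fun s =>
    ⟨sGL Q B s.1.1 s.1.2, sGL_mem_root trivial trivial s.2.singP s.2.perp⟩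
  have hconj : ∀ s, Φ s ∈ classFinset x := fun s => by
    obtain ⟨g, hg, hgs⟩ := conj_pair C h7 H s.2 hu hQu hu0
    rw [mem_classFinset, isConj_comm]
    exact isConj_iff.mpr ⟨⟨g, hg⟩, Subtype.ext hgs⟩
  have hfib : ∀ y ∈ classFinset x, Nat.card {s : Pairs Q B // Φ s = y} =
      Nat.card {s : Pairs Q B // sGL Q B s.1.1 s.1.2 = sGL Q B e u} := fun y hy => by
    rw [mem_classFinset, isConj_iff] at hy
    obtain ⟨g, hgy⟩ := hy
    have hgI : (g : GL ι F) ∈ isometryGroup F Q := root_le_iso C _ g.2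
    have hinj := act_injective (g : GL ι F)
    have hts : ∀ p q : ι → F, TS Q B p q ↔ TS Q B ((g : GL ι F).val *ᵥ p) ((g : GL ι F).val *ᵥ q) := by
      intro p q
      have key : (g : GL ι F).val *ᵥ q ∈ Submodule.span F {(g : GL ι F).val *ᵥ p} ↔
          q ∈ Submodule.span F {p} := by
        simp only [Submodule.mem_span_singleton]
        refine exists_congr fun c => ?_
        rw [← Matrix.mulVec_smul]
        exact ⟨fun h => hinj h, fun h => by rw [h]⟩
      constructor
      · exact fun h => ⟨by rw [mem_iso.mp hgI, h.singP], by rw [mem_iso.mp hgI, h.singQ],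
          by rw [C.B_act hgI, h.perp], act_ne_zero h.neP, fun h' => h.indep (key.mp h')⟩
      · exact fun h => ⟨by rw [← mem_iso.mp hgI]; exact h.singP, by rw [← mem_iso.mp hgI]; exact h.singQ,
          by rw [← C.B_act hgI]; exact h.perp, fun h0 => h.neP (by rw [h0, Matrix.mulVec_zero]),
          fun h' => h.indep (key.mpr h')⟩
    let E : (ι → F) ≃ (ι → F) := ⟨fun z => (g : GL ι F).val *ᵥ z, fun z => ((g : GL ι F)⁻¹ : GL ι F).val *ᵥ z,
      inv_act _, act_inv _⟩
    refine Nat.card_congr (Equiv.subtypeEquiv (Equiv.subtypeEquiv (E.prodCongr E) fun p => hts p.1 p.2)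
      fun s => ?_).symm
    show sGL Q B s.1.1 s.1.2 = sGL Q B e u ↔
      (⟨sGL Q B ((g : GL ι F).val *ᵥ s.1.1) ((g : GL ι F).val *ᵥ s.1.2), _⟩ : ↥(Root Q B ⊤)) = y
    have e1 := sGL_conj C s.2.singP s.2.perp hgI
    constructor
    · intro h
      rw [← hgy]
      exact Subtype.ext (e1.symm.trans (by rw [h]; rfl))
    · intro h
      rw [← hgy] at h
      have h2 := e1.trans (congrArg Subtype.val h)
      exact mul_left_cancel (mul_right_cancel h2)
  have hcount : Nat.card (Pairs Q B) = (classFinset x).card *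
      Nat.card {s : Pairs Q B // sGL Q B s.1.1 s.1.2 = sGL Q B e u} := by
    rw [Nat.card_eq_fintype_card, ← Finset.card_univ,
      Finset.card_eq_sum_card_fiberwise (fun s _ => hconj s)]
    rw [Finset.sum_congr rfl fun y hy => by
      rw [← Fintype.card_subtype, ← Nat.card_eq_fintype_card, hfib y hy], Finset.sum_const, smul_eq_mul]
  have h1 : (Nat.card (Pairs Q B) : ℤ) = ((classFinset x).card : ℤ) *
      (Nat.card {s : Pairs Q B // sGL Q B s.1.1 s.1.2 = sGL Q B e u} : ℤ) := by exact_mod_cast hcount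
  rw [card_pairs C h7 H, card_fibre C H hu hQu hu0] at h1
  exact h1.symm

end Cfsg.Lib.Linear.OrthDeg
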