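import Cfsg.Agent.Lib.Linear.OrthDegree.MinusBase

/-!
# The smallest degree of `Ω⁻`: one step
-/

set_option autoImplicit false

namespace Cfsg.Lib.Linear.OrthDeg

open Module Cfsg.Lib.Linear.Orth Cfsg.Lib.Linear.MinIndexOrth
open scoped Matrix Classical

universe u

/-- The bound for `Ω⁻` of dimension `2 * (s + 3)`. -/
def DMinus (q : ℕ) : ℕ → ℕ
  | 0 => q ^ 3 - q ^ 2 + q
  | s + 1 => DMinus q s + (q ^ (s + 3) + 1) * (q ^ (s + 2) - 1) + 1

theorem DMinus_zero_cast {q : ℕ} (hq : 1 ≤ q) : (DMinus q 0 : ℤ) = (q : ℤ) ^ 3 - (q : ℤ) ^ 2 + q := by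
  rw [DMinus]
  push_cast [Nat.pow_le_pow_right hq (show 2 ≤ 3 by norm_num)]
  ring

theorem DMinus_succ_cast {q : ℕ} (hq : 1 ≤ q) (s : ℕ) : (DMinus q (s + 1) : ℤ) =
    (DMinus q s : ℤ) + ((q : ℤ) ^ (s + 3) + 1) * ((q : ℤ) ^ (s + 2) - 1) + 1 := by
  rw [DMinus]
  push_cast [Nat.one_le_pow (s + 2) q hq]
  ring

theorem DMinus_eq {q : ℕ} (hq : 1 ≤ q) : ∀ s, (DMinus q s : ℤ) * ((q : ℤ) ^ 2 - 1) =
    ((q : ℤ) ^ (s + 3) + 1) * ((q : ℤ) ^ (s + 2) - q)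
  | 0 => by rw [DMinus_zero_cast hq]; ring
  | s + 1 => by
    rw [DMinus_succ_cast hq]
    linear_combination DMinus_eq hq s

/-- The degree two below the bound in dimension eight is excluded except over two elements. -/
theorem excl_two {q k : ℤ} (hq : 3 ≤ q) (hk : k = q ^ 5 + q - 2) :
    ¬ k ∣ (q ^ 5 + q) * ((q ^ 3) ^ 2 - 1) * q ^ 4 := by
  intro h
  have h1 : k ∣ 2 * ((q ^ 3) ^ 2 - 1) * q ^ 4 := by
    have h2 : k ∣ k * (((q ^ 3) ^ 2 - 1) * q ^ 4) := dvd_mul_right _ _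
    have h3 := dvd_sub h h2
    rwa [show (q ^ 5 + q) * ((q ^ 3) ^ 2 - 1) * q ^ 4 - k * (((q ^ 3) ^ 2 - 1) * q ^ 4) =
      2 * ((q ^ 3) ^ 2 - 1) * q ^ 4 by rw [hk]; ring] at h3
  have h4 : k ∣ 2 * ((q - 2) * (q - 1) ^ 2) := by
    have h5 : k ∣ 2 * ((q ^ 3) ^ 2 - 1) * q ^ 4 * q := h1.mul_right q
    have e : 2 * ((q - 2) * (q - 1) ^ 2) = 2 * ((q ^ 3) ^ 2 - 1) * q ^ 4 * q -
        k * (2 * ((q ^ 3) ^ 2 - 1)) - k * (2 * q * (2 - q)) := by
      rw [hk]; ring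
    rw [e]
    exact dvd_sub (dvd_sub h5 (dvd_mul_right _ _)) (dvd_mul_right _ _)
  have hpos : 0 < 2 * ((q - 2) * (q - 1) ^ 2) :=
    mul_pos two_pos (mul_pos (by omega) (by nlinarith))
  have hle := Int.le_of_dvd hpos h4
  rw [hk] at hle
  nlinarith [mul_le_mul_of_nonneg_left (show (9 : ℤ) ≤ q ^ 2 by nlinarith) (show (0 : ℤ) ≤ q ^ 3 by positivity),
    sq_nonneg q]

variable {ι : Type} [Fintype ι] [DecidableEq ι] {F : Type u} [Field F] [Fintype F]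
  {Q : (ι → F) → F} {B : LinearMap.BilinForm F (ι → F)}

local notation "qq" => (Nat.card F)

/-- One step of the induction. -/
theorem minus_step (C : Space Q B) {s : ℕ} (hT : IsT Q (⊤ : Submodule F (ι → F)) (s + 4) (-1))
    {e f : ι → F} (H : Hyp Q B ⊤ e f) {L : ℕ} (hL : MinRep ↥(Root Q B (X B e f)) L)
    (hLs : (s = 0 ∧ (L : ℤ) = (DMinus qq 0 : ℤ) - 1) ∨ (1 ≤ s ∧ L = DMinus qq s)) {k : ℕ}
    (ρ : Representation ℂ ↥(Root Q B ⊤) (Fin k → ℂ)) (hirr : ρ.IsIrreducible) (hne : ∃ g, ρ g ≠ 1)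
    (hlt : k < DMinus qq (s + 1)) :
    s = 0 ∧ qq = 2 ∧ k = 32 := by
  have hcardι : Fintype.card ι = 2 * (s + 4) := by
    have := hT.1; rwa [finrank_top, finrank_fintype_fun_eq_card] at this
  have h7 : 7 ≤ Fintype.card ι := by omega
  have hTX : IsT Q (X B e f) (s + 3) (-1) := hT.down C H
  set q : ℤ := (qq : ℤ) with hqdef
  have hq2 : (2 : ℤ) ≤ q := two_le_qq (F := F)
  set P : ℤ := q ^ (s + 2) with hP
  have hP4 : (4 : ℤ) ≤ P := by
    have : q ^ 2 ≤ q ^ (s + 2) := pow_le_pow_right₀ (by omega) (by omega)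
    rw [hP]; nlinarith
  have hcard : ∀ c : F, ((orb Q B e f c).card : ℤ) =
      q * P ^ 2 - P * (q * del c - 1) - del c := fun c => by
    rw [card_orb C c, hTX.level_eq (r := s + 2) c, hP, hqdef]
    ring
  have hS0 : ((orb Q B e f (0 : F)).card : ℤ) = (q * P + 1) * (P - 1) := by
    rw [hcard, del_zero]; ring
  have hSc : ∀ c : F, c ≠ 0 → ((orb Q B e f c).card : ℤ) = q * P ^ 2 + P := fun c hc => by
    rw [hcard, del_ne hc]; ring
  have hD : (DMinus qq (s + 1) : ℤ) = (DMinus qq s : ℤ) + (q * P + 1) * (P - 1) + 1 := by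
    rw [DMinus_succ_cast Nat.card_pos, hP, hqdef]; ring
  have hDs : (DMinus qq s : ℤ) * (q ^ 2 - 1) = (q * P + 1) * (P - q) := by
    rw [hqdef, DMinus_eq Nat.card_pos, hP, hqdef]; ring
  have hsmall : (DMinus qq s : ℤ) + 1 ≤ (q * P + 1) * (P - 1) := by
    refine le_of_mul_le_mul_right ?_ (show (0 : ℤ) < q ^ 2 - 1 by nlinarith)
    rw [add_mul, one_mul, hDs]
    nlinarith [mul_le_mul_of_nonneg_left (show (3 : ℤ) ≤ q ^ 2 - 1 by nlinarith)
      (show (0 : ℤ) ≤ (q * P + 1) * (P - 1) by nlinarith),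
      mul_le_mul_of_nonneg_left hP4 (show (0 : ℤ) ≤ q * P by nlinarith)]
  have hS0c : (q * P + 1) * (P - 1) + 1 ≤ q * P ^ 2 + P := by nlinarith
  have hltz : (k : ℤ) < (DMinus qq (s + 1) : ℤ) := by exact_mod_cast hlt
  have hfin : finrank ℂ (Fin k → ℂ) = k := Module.finrank_fin_fun ℂ
  have horbS : ∀ c : F, (q * P + 1) * (P - 1) ≤ ((orb Q B e f c).card : ℤ) := fun c => by
    by_cases hc : c = 0
    · rw [hc, hS0]
    · rw [hSc c hc]; linarith
  -- a single orbit of weights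
  have hone : ∀ v v' : X B e f, v ≠ 0 → v' ≠ 0 → mult C H ρ v ≠ 0 → mult C H ρ v' ≠ 0 → Q v.1 = Q v'.1 := by
    intro v v' hv hv' hm hm'
    by_contra hc
    have h2 := two_orb_le C h7 H ρ hc (mem_orb.mpr ⟨hv, rfl⟩) (mem_orb.mpr ⟨hv', rfl⟩) hm hm'
    rw [hfin] at h2
    have h2z : ((orb Q B e f (Q v.1)).card : ℤ) + (orb Q B e f (Q v'.1)).card ≤ k := by exact_mod_cast h2
    linarith [horbS (Q v.1), horbS (Q v'.1)]
  obtain ⟨v₀, hv₀, hm₀⟩ := exists_weight C H ρ (by omega) hne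
  set c := Q v₀.1 with hc
  have hv₀' : v₀ ∈ orb Q B e f c := mem_orb.mpr ⟨hv₀, rfl⟩
  have hlt2 : finrank ℂ (Fin k → ℂ) < 2 * (orb Q B e f c).card := by
    rw [hfin]
    zify
    linarith [horbS c]
  have hle0 := orb_le C h7 H ρ hv₀' hm₀
  rw [hfin] at hle0
  have hle0z : ((orb Q B e f c).card : ℤ) ≤ k := by exact_mod_cast hle0
  by_cases hs0 : s = 0 ∧ c ≠ 0
  · exfalso
    obtain ⟨rfl, hc0⟩ := hs0
    rw [hSc c hc0] at hle0z
    rw [hD, DMinus_zero_cast Nat.card_pos] at hltz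
    rw [← hqdef] at hltz
    simp only [hP, Nat.zero_add] at hle0z hltz
    nlinarith
  obtain ⟨⟨u, hu, hQu, hu0, hchi⟩, -, -, hbound⟩ := single C h7 H ρ (s := s + 1) (ε := -1) hTX (by omega)
    hv₀' hm₀ (fun v hv hm => hone v v₀ hv hv₀ hm hm₀) hlt2 fun v p q' hpq hp hq' hQv hv hpv hqv =>
      lam_line_comm C H ρ hTX hv hp hq' hpq hpv hqv (by
        rcases Nat.eq_zero_or_pos s with h | h
        · refine Or.inr ⟨by omega, rfl, ?_⟩
          rw [hQv]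
          by_contra hne'
          exact hs0 ⟨h, hne'⟩
        · exact Or.inl (by omega))
  have h1 := hbound _ hL
  rw [hfin] at h1 hchi
  have h1z : (L : ℤ) + (orb Q B e f c).card ≤ k := by exact_mod_cast h1
  have hc0 : c = 0 := by
    by_contra hc0
    rcases hLs with ⟨hs, -⟩ | ⟨-, hLe⟩
    · exact hs0 ⟨hs, hc0⟩
    · rw [hSc c hc0, hLe] at h1z
      linarith
  rw [hc0, hS0] at h1z
  haveI := hirr
  have hk0 : k ≠ 0 := fun h0 => by
    have : (0 : ℤ) ≤ L := Int.natCast_nonneg _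
    rw [h0] at h1z; nlinarith
  have hdvd := dvd_class C h7 H (s := s + 1) (Or.inr rfl) hT (D := (DMinus qq (s + 1) : ℤ))
    (by rw [DMinus_eq Nat.card_pos]; ring) ρ hk0 hu hQu hu0 hchi
  have hex : (k : ℤ) ≠ (DMinus qq (s + 1) : ℤ) - 1 := fun hk => by
    refine excl_one (q := q) (A := q ^ (s + 3)) (Or.inr rfl) hq2 (pow_le_pow_right₀ (by omega) (by omega))
      (dvd_pow_self _ (by omega)) ?_ hk hdvd
    rw [hqdef, DMinus_eq Nat.card_pos]
    ring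
  rcases hLs with ⟨rfl, hLe⟩ | ⟨-, hLe⟩
  · have hk2 : (k : ℤ) = q ^ 5 + q - 2 := by
      have hPe : P = q ^ 2 := by rw [hP]
      rw [hLe, DMinus_zero_cast Nat.card_pos, ← hqdef, hPe] at h1z
      rw [hD, DMinus_zero_cast Nat.card_pos, ← hqdef, hPe] at hltz hex
      ring_nf at h1z hltz hex ⊢
      omega
    refine ⟨rfl, ?_⟩
    rcases eq_or_lt_of_le hq2 with hq | hq
    · refine ⟨by omega, ?_⟩
      rw [← hq] at hk2
      omega
    · refine absurd ?_ (excl_two (q := q) (by omega) hk2)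
      have hDv : (DMinus qq (0 + 1) : ℤ) = q ^ 5 + q := by
        rw [hD, DMinus_zero_cast Nat.card_pos, ← hqdef, hP]
        ring
      rw [hDv] at hdvd
      exact hdvd
  · rw [hLe] at h1z
    exfalso
    exact hex (by linarith)

end Cfsg.Lib.Linear.OrthDeg
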