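import Cfsg.Agent.Lib.Linear.OrthDegree.Descend

/-!
# The six-dimensional space of minus type

The elements of `Ω` fixing a hyperbolic pair are transitive on the non-zero vectors of each value
of the four-dimensional perpendicular space.
-/

set_option autoImplicit false

namespace Cfsg.Lib.Linear.OrthDeg

open Module Cfsg.Lib.Linear.Orth Cfsg.Lib.Linear.MinIndexOrth
open scoped Matrix Classical

variable {ι : Type} [Fintype ι] [DecidableEq ι] {F : Type*} [Field F] [Fintype F]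
  {Q : (ι → F) → F} {B : LinearMap.BilinForm F (ι → F)}
  (C : Space Q B) {e f : ι → F} (H : Hyp Q B ⊤ e f)

/-- Some element of `Ω` fixing the pair moves `x` to `y`. -/
def Moves (Q : (ι → F) → F) (B : LinearMap.BilinForm F (ι → F)) (e f x y : ι → F) : Prop :=
  ∃ g ∈ Root Q B ⊤, g.val *ᵥ e = e ∧ g.val *ᵥ f = f ∧ g.val *ᵥ x = y

omit [Fintype F] in
theorem Moves.trans' {x y z : ι → F} (h : Moves Q B e f x y) (h' : Moves Q B e f y z) :
    Moves Q B e f x z := by
  obtain ⟨g, hg, g1, g2, g3⟩ := h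
  obtain ⟨k, hk, k1, k2, k3⟩ := h'
  exact ⟨k * g, mul_mem hk hg, by rw [mul_act, g1, k1], by rw [mul_act, g2, k2], by rw [mul_act, g3, k3]⟩

omit [Fintype F] in
theorem Moves.symm' {x y : ι → F} (h : Moves Q B e f x y) : Moves Q B e f y x := by
  obtain ⟨g, hg, g1, g2, g3⟩ := h
  refine ⟨g⁻¹, inv_mem hg, ?_, ?_, ?_⟩
  · conv_lhs => rw [← g1]
    exact inv_act _ _
  · conv_lhs => rw [← g2]
    exact inv_act _ _
  · conv_lhs => rw [← g3]
    exact inv_act _ _

variable (h5 : 5 ≤ Fintype.card ι) (hT : IsT Q (X B e f) 2 (-1))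

include C H h5 hT

omit h5 in
/-- The two-dimensional perpendicular takes every value other than zero. -/
theorem exists_value {p g : ι → F} (Hp : Hyp Q B (X B e f) p g) {t : F} (ht : t ≠ 0) :
    ∃ a ∈ perp2 B (X B e f) p g, Q a = t := by
  have h := (hT.down C Hp).level_eq (r := 0) t
  rw [del_ne ht] at h
  have hne : level Q (perp2 B (X B e f) p g) t ≠ 0 := fun h0 => by
    rw [h0] at h
    have := two_le_qq (F := F)
    simp at h
    omega
  obtain ⟨⟨a, ha, hQa⟩⟩ := (Nat.card_ne_zero.mp hne).1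
  exact ⟨a, ha, hQa⟩

theorem moves_swap {p g : ι → F} (Hp : Hyp Q B (X B e f) p g) {t : F} (ht : t ≠ 0) :
    Moves Q B e f p (t • g) := by
  have hQ : Q (p - t • g) = -t := Q_sub_smul C Hp t
  obtain ⟨a, ha, hQa⟩ := exists_value C H hT Hp (neg_ne_zero.mpr ht)
  obtain ⟨haX, hpa, hga⟩ := mem_perp2.mp ha
  have hne1 : Q (p - t • g) ≠ 0 := by rw [hQ]; exact neg_ne_zero.mpr ht
  have hne2 : Q a ≠ 0 := by rw [hQa]; exact neg_ne_zero.mpr ht
  have hX : p - t • g ∈ X B e f := Submodule.sub_mem _ Hp.memE (Submodule.smul_mem _ t Hp.memF)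
  have hfix : ∀ z, z = e ∨ z = f → (rGL Q (p - t • g) * rGL Q a).val *ᵥ z = z := fun z hz => by
    rw [mul_act, rGL_fix C hne2, rGL_fix C hne1]
    · rcases hz with rfl | rfl
      · rw [C.symm]; exact X.left hX
      · rw [C.symm]; exact X.right hX
    · rcases hz with rfl | rfl
      · rw [C.symm]; exact X.left haX
      · rw [C.symm]; exact X.right haX
  refine ⟨_, rGL_mul_rGL_root C h5 hne1 (hQ.trans hQa.symm), hfix e (Or.inl rfl), hfix f (Or.inr rfl), ?_⟩
  rw [mul_act, rGL_fix C hne2 (by rw [C.symm]; exact hpa), (rGL_hyp C Hp ht).1]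

theorem moves_scale {p g : ι → F} (Hp : Hyp Q B (X B e f) p g) {t : F} (ht : t ≠ 0) :
    Moves Q B e f p (t • p) := by
  have h1 := moves_swap C H h5 hT Hp (one_ne_zero (α := F))
  rw [one_smul] at h1
  exact h1.trans' (moves_swap C H h5 hT (Hyp.swap C Hp) ht)

theorem moves_sing {p p' : ι → F} (hp : p ∈ X B e f) (hp0 : p ≠ 0) (hQp : Q p = 0) (hp' : p' ∈ X B e f)
    (hp'0 : p' ≠ 0) (hQp' : Q p' = 0) : Moves Q B e f p p' := by
  obtain ⟨g, Hp⟩ := exists_hyp C (X_ndeg C H) hp hp0 hQp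
  by_cases hdep : p' ∈ Submodule.span F {p}
  · obtain ⟨t, rfl⟩ := Submodule.mem_span_singleton.mp hdep
    exact moves_scale C H h5 hT Hp fun h => hp'0 (by rw [h, zero_smul])
  have hb : B p p' ≠ 0 := fun h0 => by
    obtain ⟨hwX, hpw, hgw⟩ := mem_perp2.mp (Hp.proj C hp')
    have hw : Q (p' - B g p' • p - B p p' • g) = 0 := by
      rw [h0, zero_smul, sub_zero, sub_eq_add_neg, ← neg_smul, C.add, C.smul, hQp, hQp', map_smul, C.symm p' p, h0]
      simp
    have h := (hT.down C Hp).level_eq (r := 0) (0 : F)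
    rw [del_zero] at h
    simp only [Nat.mul_zero, Nat.zero_add, pow_one, pow_zero, mul_one] at h
    have h1 : level Q (perp2 B (X B e f) p g) 0 = 1 := by
      have : (level Q (perp2 B (X B e f) p g) 0 : ℤ) = 1 := by linarith
      exact_mod_cast this
    obtain ⟨⟨hs⟩, -⟩ := Nat.card_eq_one_iff_unique.mp h1
    have h2 := congrArg Subtype.val (hs ⟨_, Hp.proj C hp', hw⟩ ⟨0, zero_mem _, C.zero⟩)
    simp only at h2
    rw [h0, zero_smul, sub_zero, sub_eq_zero] at h2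
    exact hdep (Submodule.mem_span_singleton.mpr ⟨B g p', h2.symm⟩)
  have Hp' : Hyp Q B (X B e f) p ((B p p')⁻¹ • p') :=
    ⟨hp, Submodule.smul_mem _ _ hp', hQp, by rw [C.smul, hQp', mul_zero], by
      rw [map_smul, smul_eq_mul, inv_mul_cancel₀ hb]⟩
  have h := moves_swap C H h5 hT Hp' hb
  rwa [smul_smul, mul_inv_cancel₀ hb, one_smul] at h

omit h5 in
theorem exists_pairing {x : ι → F} (hx : x ∈ X B e f) (hx0 : x ≠ 0) :
    ∃ p ∈ X B e f, Q p = 0 ∧ p ≠ 0 ∧ B p x = 1 := by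
  obtain ⟨z, hz, hzx⟩ : ∃ z ∈ X B e f, B z x ≠ 0 := by
    by_contra h
    push Not at h
    exact hx0 (X_ndeg C H x hx fun y hy => by rw [C.symm]; exact h y hy)
  obtain ⟨p, hp, hQp, hpx⟩ := exists_sing_pair C (X_ndeg C H) (by rw [hT.1]; norm_num) ⟨z, hz, hzx⟩
  exact ⟨p, hp, hQp, fun h => by rw [h] at hpx; simp at hpx, hpx⟩

/-- Transitivity on the vectors of each value. -/
theorem moves_all {x y : ι → F} (hx : x ∈ X B e f) (hx0 : x ≠ 0) (hy : y ∈ X B e f) (hy0 : y ≠ 0)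
    (hxy : Q x = Q y) : Moves Q B e f x y := by
  obtain ⟨p, g, Hp⟩ := exists_hyp' C (X_ndeg C H) (by rw [hT.1]; norm_num)
  suffices key : ∀ x ∈ X B e f, x ≠ 0 → Moves Q B e f x (Q x • p + g) by
    have h1 := key x hx hx0
    have h2 := key y hy hy0
    rw [hxy] at h1
    exact h1.trans' h2.symm'
  clear hxy hx hy hx0 hy0 x y
  intro x hx hx0
  obtain ⟨p', hp', hQp', hp'0, hpx⟩ := exists_pairing C H hT hx hx0
  obtain ⟨k, hk, k1, k2, k3⟩ := moves_sing C H h5 hT hp' hp'0 hQp' Hp.memE (Hyp.ne_zero C Hp).1 Hp.singE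
  have hkI := root_le_iso C _ hk
  set x1 := k.val *ᵥ x with hx1
  have hx1X : x1 ∈ X B e f :=
    act_mem_X C H hkI one_ne_zero (by rw [one_smul]; exact k1) (by rw [inv_one, one_smul]; exact k2) hx
  have hpx1 : B p x1 = 1 := by rw [← k3, hx1, C.B_act hkI, hpx]
  have hQx1 : Q x1 = Q x := mem_iso.mp hkI x
  obtain ⟨hwX, hpw, hgw⟩ := mem_perp2.mp (Hp.proj C hx1X)
  set w := x1 - B g x1 • p - B p x1 • g with hw
  have hpw' : B p (-w) = 0 := by rw [map_neg, hpw, neg_zero]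
  have hmem : sGL Q B p (-w) ∈ Root Q B (X B e f) :=
    sGL_mem_root Hp.memE (Submodule.neg_mem _ hwX) Hp.singE hpw'
  refine Moves.trans' ⟨k, hk, k1, k2, rfl⟩
    ⟨_, root_mono le_top hmem, (root_fix C H hmem).1, (root_fix C H hmem).2, ?_⟩
  rw [← hx1]
  have h3 : (sGL Q B p (-w)).val *ᵥ x1 = (B g x1 - (B (-w) x1 + Q (-w))) • p + g := by
    rw [sGL_act C Hp.singE hpw', hpx1, mul_one, one_smul]
    have ha' : x1 + -w = B g x1 • p + g := by rw [hw, hpx1, one_smul]; abel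
    rw [ha']
    module
  have hQ := mem_iso.mp (sGL_mem C Hp.singE hpw') x1
  rw [h3, C.add, C.smul, Hp.singE, Hp.singF, map_smul, LinearMap.smul_apply, Hp.pair, hQx1] at hQ
  simp only [mul_zero, zero_add, smul_eq_mul, mul_one] at hQ
  rw [h3, hQ]

/-- The bound for `Ω⁻` in dimension six. -/
theorem minus_base {k : ℕ} (ρ : Representation ℂ ↥(Root Q B ⊤) (Fin k → ℂ)) (hne : ∃ g, ρ g ≠ 1) :
    ((Nat.card F : ℤ) ^ 3 - (Nat.card F : ℤ) ^ 2 + Nat.card F - 1) ≤ k := by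
  obtain ⟨v, hv, hm⟩ := exists_weight C H ρ h5 hne
  have heq : ∀ w ∈ orb Q B e f (Q v.1), mult C H ρ w = mult C H ρ v := fun w hw => by
    obtain ⟨g, hg, g1, g2, g3⟩ := moves_all C H h5 hT v.2 (fun h => hv (Subtype.ext h)) w.2
      (fun h => (mem_orb.mp hw).1 (Subtype.ext h)) (mem_orb.mp hw).2.symm
    refine mult_act C H ρ (g := ⟨g, hg⟩) (c := 1) one_ne_zero (by rw [one_smul]; exact g1)
      (by rw [inv_one, one_smul]; exact g2) (by rw [inv_one, one_smul, g3])
  have hle : (orb Q B e f (Q v.1)).card ≤ k := by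
    calc (orb Q B e f (Q v.1)).card = ∑ _w ∈ orb Q B e f (Q v.1), 1 := Finset.card_eq_sum_ones _
      _ ≤ ∑ w ∈ orb Q B e f (Q v.1), mult C H ρ w :=
          Finset.sum_le_sum fun w hw => by rw [heq w hw]; exact Nat.pos_of_ne_zero hm
      _ ≤ ∑ w, mult C H ρ w := Finset.sum_le_sum_of_subset (Finset.subset_univ _)
      _ = k := by rw [sum_mult, Module.finrank_fin_fun]
  have hlez : ((orb Q B e f (Q v.1)).card : ℤ) ≤ k := by exact_mod_cast hle
  rw [card_orb C, hT.level_eq (r := 1)] at hlez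
  have hq := two_le_qq (F := F)
  by_cases hc : Q v.1 = 0
  · rw [hc, del_zero] at hlez
    ring_nf at hlez ⊢
    linarith
  · rw [del_ne hc] at hlez
    have := sq_nonneg (Nat.card F : ℤ)
    ring_nf at hlez ⊢
    linarith

end Cfsg.Lib.Linear.OrthDeg
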