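import Cfsg.Agent.Lib.Linear.OrthDegree.TwoEight

/-!
# The smallest degree of `Ω⁻`: the induction
-/

set_option autoImplicit false

namespace Cfsg.Lib.Linear.OrthDeg

open Module Cfsg.Lib.Linear.Orth Cfsg.Lib.Linear.MinIndexOrth Cfsg.Lib.OrthMult
open scoped Matrix

universe u

variable {F : Type u} [Field F] [Fintype F]

theorem one_le_DMinus_zero {q : ℕ} (hq : 1 ≤ q) : 1 ≤ DMinus q 0 := by
  show 1 ≤ q ^ 3 - q ^ 2 + q
  omega

theorem minRep_minus_six (d : ℕ) (Q : (Fin d → F) → F) (B : LinearMap.BilinForm F (Fin d → F))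
    (C : Space Q B) (hd : d = 2 * 3) (hT : IsT Q (⊤ : Submodule F (Fin d → F)) 3 (-1)) :
    MinRep ↥(Root Q B ⊤) (DMinus (Nat.card F) 0 - 1) := by
  intro k ρ hne
  obtain ⟨e, f, H⟩ := exists_hyp' C C.ndeg_top (by rw [hT.1]; norm_num)
  have h := minus_base C H (by rw [Fintype.card_fin]; omega) (hT.down C H) ρ hne
  have h1 := one_le_DMinus_zero (q := Nat.card F) Nat.card_pos
  have h2 := DMinus_zero_cast (q := Nat.card F) Nat.card_pos
  omega

theorem minRep_minus : ∀ (s : ℕ) (ι : Type) [Fintype ι] [DecidableEq ι]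
    (Q : (ι → F) → F) (B : LinearMap.BilinForm F (ι → F)), Space Q B →
    IsT Q (⊤ : Submodule F (ι → F)) (s + 4) (-1) → MinRep ↥(Root Q B ⊤) (DMinus (Nat.card F) (s + 1)) := by
  intro s
  induction s with
  | zero =>
    intro ι _ _ Q B C hT
    obtain ⟨e, f, H⟩ := exists_hyp' C C.ndeg_top (by rw [hT.1]; omega)
    have hL := minRep_X C H (hT.down C H) (minRep_minus_six (F := F))
    refine MinRep.of_irr fun k ρ hρ hne => ?_
    by_contra hlt
    obtain ⟨-, hq, rfl⟩ := minus_step C hT H hL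
      (Or.inl ⟨rfl, Nat.cast_sub (one_le_DMinus_zero Nat.card_pos)⟩) ρ hρ hne (not_le.mp hlt)
    exact eight_contra C hq hT ρ hne
  | succ s ih =>
    intro ι _ _ Q B C hT
    obtain ⟨e, f, H⟩ := exists_hyp' C C.ndeg_top (by rw [hT.1]; omega)
    have hL := minRep_X C H (hT.down C H) fun d Q' B' C' _ hT' => ih (Fin d) Q' B' C' hT'
    refine MinRep.of_irr fun k ρ hρ hne => ?_
    by_contra hlt
    obtain ⟨h0, -, -⟩ := minus_step C hT H hL (Or.inr ⟨by omega, rfl⟩) ρ hρ hne (not_le.mp hlt)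
    omega

/-- `Ω` as the image of the Siegel elements. -/
noncomputable def rootToOmega {ι : Type} [Fintype ι] [DecidableEq ι] {Q : (ι → F) → F}
    {B : LinearMap.BilinForm F (ι → F)} (C : Space Q B) (h5 : 5 ≤ Fintype.card ι) :
    ↥(Root Q B ⊤) ≃* ↥(Cfsg.Omega F Q) :=
  (((Cfsg.Omega F Q).equivMapOfInjective _ (isometryGroup F Q).subtype_injective).trans
    (MulEquiv.subgroupCongr (omegaGL_eq C h5))).symm

/-- The smallest degree of `Ω⁻` in dimension `2 * n`. -/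
theorem omega_minus_degree (n : ℕ) (hn : 4 ≤ n) (a b : F)
    (hab : ∀ z₁ z₂ : F, z₁ ^ 2 + a * z₁ * z₂ + b * z₂ ^ 2 = 0 → z₁ = 0 ∧ z₂ = 0) (k : ℕ)
    (ρ : Representation ℂ (Cfsg.Omega F (Cfsg.quadFormMinus (n - 1) F a b)) (Fin k → ℂ))
    (hρ : ρ.IsIrreducible) (hk : 2 ≤ k) :
    (Fintype.card F ^ n + 1) * (Fintype.card F ^ (n - 1) - Fintype.card F) / (Fintype.card F ^ 2 - 1) ≤ k := by
  classical
  obtain ⟨s, rfl⟩ : ∃ s, n = s + 4 := ⟨n - 4, by omega⟩
  obtain ⟨B, C⟩ := exists_space_minus (F := F) (s + 4 - 1) a b hab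
  have h5 : 5 ≤ Fintype.card ((Fin (s + 4 - 1) ⊕ Fin (s + 4 - 1)) ⊕ Fin 2) := by simp; omega
  have hT := isT_minus (F := F) (s + 4 - 1) hab
  rw [show s + 4 - 1 + 1 = s + 4 by omega] at hT
  have hG := (minRep_minus (F := F) s _ _ B C hT).of_surjective
    (rootToOmega C h5).toMonoidHom (rootToOmega C h5).surjective
  have hne : ∃ g, ρ g ≠ 1 := by
    by_contra hall
    push Not at hall
    haveI := hρ
    haveI : Nonempty (Fin k) := ⟨⟨0, by omega⟩⟩
    obtain ⟨v, hv⟩ : ∃ v : Fin k → ℂ, v ≠ 0 := exists_ne 0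
    rcases ((Cfsg.Lib.Char.isIrreducible_iff_submodule ρ).mp hρ).2 (ℂ ∙ v)
      (fun g x hx => by rw [hall g]; exact hx) with h | h
    · exact hv (Submodule.span_singleton_eq_bot.mp h)
    · have h2 := finrank_span_singleton (K := ℂ) hv
      rw [h, finrank_top, Module.finrank_fin_fun] at h2
      omega
  refine le_trans (le_of_eq ?_) (hG k ρ hne)
  have hq1 : 1 ≤ Fintype.card F := Fintype.card_pos
  have hq2 : 2 ≤ Fintype.card F := Fintype.one_lt_card
  rw [show s + 4 - 1 = s + 3 by omega, Nat.card_eq_fintype_card]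
  have hsq : 4 ≤ Fintype.card F ^ 2 := by nlinarith
  refine Nat.div_eq_of_eq_mul_left (by omega) ?_
  have h := DMinus_eq hq1 (s + 1)
  zify [Nat.le_self_pow (show s + 3 ≠ 0 by omega) (Fintype.card F), Nat.one_le_pow 2 _ hq1]
  linear_combination -h

end Cfsg.Lib.Linear.OrthDeg
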