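import Cfsg.Agent.Lib.Linear.OrthDegree.Descend
import Cfsg.Agent.Lib.OrthMult.Base
import Cfsg.Agent.S2332

/-!
# The smallest degree of `Ω⁺` over fields with more than three elements
-/

set_option autoImplicit false

namespace Cfsg.Lib.Linear.OrthDeg

open Module Cfsg.Lib.Linear.Orth Cfsg.Lib.Linear.MinIndexOrth Cfsg.Lib.OrthMult
open scoped Matrix Classical

universe u

/-- A non-trivial representation of a perfect group has dimension at least two. -/
theorem two_le_of_perfect {G : Type*} [Group G] (hG : commutator G = ⊤) {k : ℕ}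
    (ρ : Representation ℂ G (Fin k → ℂ)) (hne : ∃ g, ρ g ≠ 1) : 2 ≤ k := by
  by_contra hk
  obtain ⟨g, hg⟩ := hne
  have : Subsingleton (Fin k) := Fin.subsingleton_iff_le_one.mpr (by omega)
  have hcomm : ∀ A A' : Module.End ℂ (Fin k → ℂ), A * A' = A' * A := fun A A' => by
    refine (LinearMap.toMatrixAlgEquiv' (R := ℂ) (n := Fin k)).injective ?_
    rw [map_mul, map_mul]
    ext i j
    rw [Matrix.mul_apply, Matrix.mul_apply]
    exact Finset.sum_congr rfl fun x _ => by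
      rw [Subsingleton.elim x i, Subsingleton.elim j i, mul_comm]
  have hle : commutator G ≤ MonoidHom.ker ρ.asGroupHom := by
    rw [commutator_def, Subgroup.commutator_le]
    intro a _ b _
    rw [MonoidHom.mem_ker, map_commutatorElement, commutatorElement_eq_one_iff_mul_comm]
    exact Units.ext (hcomm _ _)
  rw [hG, top_le_iff] at hle
  have h1 : g ∈ MonoidHom.ker ρ.asGroupHom := hle ▸ Subgroup.mem_top g
  rw [MonoidHom.mem_ker, Units.ext_iff, Representation.asGroupHom_apply, Units.val_one] at h1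
  exact hg h1

variable {F : Type u} [Field F] [Fintype F]

local notation "qq" => (Nat.card F)

/-- The bound for `Ω⁺` of dimension `2 * (s + 3)`. -/
def DPlus (q : ℕ) : ℕ → ℕ
  | 0 => q ^ 3 + q ^ 2 + q
  | s + 1 => DPlus q s + (q ^ (s + 3) - 1) * (q ^ (s + 2) + 1) + 1

theorem DPlus_succ_cast {q : ℕ} (hq : 1 ≤ q) (s : ℕ) : (DPlus q (s + 1) : ℤ) =
    (DPlus q s : ℤ) + ((q : ℤ) ^ (s + 3) - 1) * ((q : ℤ) ^ (s + 2) + 1) + 1 := by
  rw [DPlus]
  push_cast [Nat.one_le_pow (s + 3) q hq]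
  ring

theorem DPlus_eq {q : ℕ} (hq : 1 ≤ q) : ∀ s, (DPlus q s : ℤ) * ((q : ℤ) ^ 2 - 1) =
    ((q : ℤ) ^ (s + 3) - 1) * ((q : ℤ) ^ (s + 2) + q)
  | 0 => by simp only [DPlus]; push_cast; ring
  | s + 1 => by
    rw [DPlus_succ_cast hq]
    linear_combination DPlus_eq hq s

/-- The six-dimensional standard space. -/
theorem minRep_six_std (hq : 4 ≤ Fintype.card F) {B : LinearMap.BilinForm F (Fin 3 ⊕ Fin 3 → F)}
    (C : Space (Cfsg.quadFormPlus 3 F) B) :
    MinRep ↥(Root (Cfsg.quadFormPlus 3 F) B ⊤) (DPlus qq 0) := by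
  have hSL : MinRep (Matrix.SpecialLinearGroup (Fin 4) F) (DPlus qq 0) := by
    refine MinRep.of_irr fun k ρ hρ hne => ?_
    have hperf := Cfsg.Lib.Linear.commutator_SL_eq_top' (ι := Fin 4) (F := F) (Or.inl (by simp))
    have h := (Cfsg.Agent.S2332.result (F := F) 4 (by norm_num)
      ⟨by simp, by simp, by simp; omega, by simp; omega⟩).1 k ρ hρ (two_le_of_perfect hperf ρ hne)
    refine le_trans (le_of_eq ?_) h
    rw [Cfsg.Lib.Linear.MinDegree.tgt_eq Fintype.one_lt_card (by norm_num), Cfsg.Lib.Linear.MinDegree.tgt,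
      Nat.card_eq_fintype_card, DPlus]
    simp only [show (4 : ℕ) - 1 = 3 by norm_num, Cfsg.Lib.Linear.MinDegree.geo]
    ring
  obtain ⟨φ, hφ, -, hker⟩ := Cfsg.Agent.S0302.exists_wedge F
  have h' : (2 : F) ≠ 0 ∨ Fintype.card F ≠ 2 ∨ Fintype.card (Fin 3 ⊕ Fin 3) ≠ 4 := Or.inr (Or.inl (by omega))
  obtain ⟨hsq, hi2, hi4⟩ := Cfsg.Lib.Linear.SmallIso.omega_facts C (by simp) h'
  have hsqr : Cfsg.Lib.Linear.SmallIso.squares (Matrix.SpecialLinearGroup (Fin 4) F) = ⊤ := by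
    by_cases h2 : (2 : F) = 0
    · exact Cfsg.Lib.Linear.SmallIso.squares_SL (Or.inr (Or.inl (by simp)))
    · exact Cfsg.Lib.Linear.SmallIso.squares_SL (Or.inl h2)
  let χ : Matrix.SpecialLinearGroup (Fin 4) F →* ↥(Cfsg.Omega F (Cfsg.quadFormPlus 3 F)) :=
    (φ.codRestrict _ hφ).codRestrict _ fun g => by
      have : Cfsg.Lib.Linear.SmallIso.squares (Matrix.SpecialLinearGroup (Fin 4) F) ≤
          (Cfsg.Omega F (Cfsg.quadFormPlus 3 F)).comap (φ.codRestrict _ hφ) :=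
        (Subgroup.closure_le _).2 fun x ⟨y, hy⟩ => by
          show φ.codRestrict _ hφ x ∈ Cfsg.Omega F (Cfsg.quadFormPlus 3 F)
          rw [hy, map_mul]
          exact hsq _
      exact this (hsqr ▸ Subgroup.mem_top g)
  have hkc : χ.ker = φ.ker := by
    ext g
    exact ⟨fun h => congrArg (fun x : ↥(Cfsg.Omega F (Cfsg.quadFormPlus 3 F)) =>
      ((x : ↥(Cfsg.isometryGroup F (Cfsg.quadFormPlus 3 F))) : GL (Fin 3 ⊕ Fin 3) F)) h,
      fun h => Subtype.ext (Subtype.ext h)⟩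
  obtain ⟨hk2, hk1⟩ := Cfsg.Lib.Linear.SmallIso.card_le_roots φ.ker (fun z => z.val 0 0)
    (fun x hx y hy e => by
      obtain ⟨c, -, hc⟩ := hker x hx
      obtain ⟨d, -, hd⟩ := hker y hy
      refine Subtype.ext ?_
      rw [hc, hd] at e ⊢
      simp at e
      rw [e]) fun x hx => by
      obtain ⟨c, hc1, hc⟩ := hker x hx
      rw [hc]
      simpa using hc1
  have hsurj : Function.Surjective χ := by
    rw [← MonoidHom.range_eq_top]
    refine Subgroup.eq_top_of_le_card _ ?_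
    have h1 : Nat.card (Matrix.SpecialLinearGroup (Fin 4) F) = Nat.card χ.range * Nat.card χ.ker := by
      rw [← Nat.card_congr (QuotientGroup.quotientKerEquivRange χ).toEquiv,
        ← Subgroup.card_eq_card_quotient_mul_card_subgroup]
    have hO := (counts_plus (F := F) 3).2
    rw [Nat.card_eq_fintype_card (α := F)] at hO
    have hcard : (Nat.card ↥(Cfsg.isometryGroup F (Cfsg.quadFormPlus 3 F)) : ℤ) =
        2 * Nat.card (Matrix.SpecialLinearGroup (Fin 4) F) := by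
      rw [hO, Cfsg.Agent.S0302.card_SL_four]
      simp [Finset.prod_range_succ]
      ring
    have hcard' : Nat.card ↥(Cfsg.isometryGroup F (Cfsg.quadFormPlus 3 F)) =
        2 * Nat.card (Matrix.SpecialLinearGroup (Fin 4) F) := by exact_mod_cast hcard
    have h4 := (Cfsg.Omega F (Cfsg.quadFormPlus 3 F)).card_mul_index
    rw [hkc] at h1
    by_cases h2 : (2 : F) = 0
    · rw [hi2 h2, hcard', h1] at h4
      nlinarith [Nat.mul_le_mul_left (Nat.card χ.range) (hk1 h2)]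
    · rw [hi4 h2, hcard', h1] at h4
      nlinarith [Nat.mul_le_mul_left (Nat.card χ.range) hk2]
  exact (hSL.of_surjective χ hsurj).of_surjective (omegaEquiv C (by simp)).toMonoidHom
    (omegaEquiv C (by simp)).surjective

variable {ι : Type} [Fintype ι] [DecidableEq ι] {Q : (ι → F) → F} {B : LinearMap.BilinForm F (ι → F)}

/-- Every six-dimensional space of plus type. -/
theorem minRep_six (C : Space Q B) (hd : Fintype.card ι = 6)
    (hT : IsT Q (⊤ : Submodule F (ι → F)) 3 1) (hq : 4 ≤ Fintype.card F) :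
    MinRep ↥(Root Q B ⊤) (DPlus qq 0) := by
  obtain ⟨e₀, f₀, H₀⟩ := exists_hyp' C C.ndeg_top (by rw [hT.1]; norm_num)
  have T₁ := hT.down C H₀
  have n₁ := H₀.ndeg C C.ndeg_top
  obtain ⟨e₁, f₁, H₁⟩ := exists_hyp' C n₁ (by rw [T₁.1]; norm_num)
  have T₂ := T₁.down C H₁
  have n₂ := H₁.ndeg C n₁
  set U₂ := perp2 B (perp2 B ⊤ e₀ f₀) e₁ f₁ with hU₂
  obtain ⟨e₂, he₂, he₂0, hQe₂⟩ : ∃ x ∈ U₂, x ≠ 0 ∧ Q x = 0 := by
    by_contra hne
    push Not at hne
    have h1 : level Q U₂ 0 ≤ 1 := by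
      refine Finite.card_le_one_iff_subsingleton.mpr ⟨fun x y => Subtype.ext ?_⟩
      have h0 : ∀ z : {x : ι → F // x ∈ U₂ ∧ Q x = 0}, z.1 = 0 := fun z => by
        by_contra hz
        exact hne _ z.2.1 hz z.2.2
      rw [h0 x, h0 y]
    have h2 := T₂.level_eq (r := 0) (0 : F)
    rw [del_zero] at h2
    have h3 := two_le_qq (F := F)
    have h4 : (level Q U₂ 0 : ℤ) ≤ 1 := by exact_mod_cast h1
    rw [h2] at h4
    simp at h4
    linarith
  obtain ⟨f₂, H₂⟩ := exists_hyp C n₂ he₂ he₂0 hQe₂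
  obtain ⟨m1, a1, b1⟩ := mem_perp2.mp H₁.memE
  obtain ⟨m1', a1', b1'⟩ := mem_perp2.mp H₁.memF
  obtain ⟨m2, c2, d2⟩ := mem_perp2.mp H₂.memE
  obtain ⟨m2', c2', d2'⟩ := mem_perp2.mp H₂.memF
  obtain ⟨-, a2, b2⟩ := mem_perp2.mp m2
  obtain ⟨-, a2', b2'⟩ := mem_perp2.mp m2'
  let φ : (Fin 3 ⊕ Fin 3 → F) →ₗ[F] (ι → F) :=
    ∑ i, ((LinearMap.proj (Sum.inl i)).smulRight (![e₀, e₁, e₂] i) +
      (LinearMap.proj (Sum.inr i)).smulRight (![f₀, f₁, f₂] i))
  have hQφ : ∀ v, Q (φ v) = Cfsg.quadFormPlus 3 F v := fun v => by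
    simp [φ, Fin.sum_univ_three, Cfsg.quadFormPlus, C.add, C.smul, H₀.singE, H₀.singF, H₁.singE, H₁.singF,
      H₂.singE, H₂.singF, H₀.pair, H₁.pair, H₂.pair, a1, b1, a1', b1', c2, d2, c2', d2', a2, b2, a2', b2']
    ring
  obtain ⟨B', C'⟩ := exists_space_plus (F := F) 3
  have hinj : Function.Injective φ := (injective_iff_map_eq_zero φ).2 fun v hv => C'.nondeg' fun w => by
    rw [← C'.polar, QuadraticMap.polar, ← hQφ, ← hQφ, ← hQφ, map_add, hv, zero_add, C.zero]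
    ring
  have hrange : LinearMap.range φ = ⊤ := Submodule.eq_top_of_finrank_eq (by
    rw [LinearMap.finrank_range_of_inj hinj, finrank_fintype_fun_eq_card, finrank_fintype_fun_eq_card, hd]
    simp)
  have K : Coord Q B (Cfsg.quadFormPlus 3 F) B' ⊤ ⊥ φ :=
    ⟨C, C', ⟨C.ndeg_top, fun x hx _ => (Submodule.mem_bot F).mp hx,
      fun _ _ w hw => by rw [(Submodule.mem_bot F).mp hw, map_zero], sup_bot_eq ⊤⟩, hrange, hQφ⟩
  exact (minRep_six_std hq C').of_surjective K.rootEquiv.toMonoidHom K.rootEquiv.surjective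

/-- One step of the induction. -/
theorem plus_step (C : Space Q B) (hq : 4 ≤ Fintype.card F) {s : ℕ}
    (hT : IsT Q (⊤ : Submodule F (ι → F)) (s + 4) 1) {e f : ι → F} (H : Hyp Q B ⊤ e f)
    (hL : MinRep ↥(Root Q B (X B e f)) (DPlus qq s)) {k : ℕ}
    (ρ : Representation ℂ ↥(Root Q B ⊤) (Fin k → ℂ)) (hirr : ρ.IsIrreducible) (hne : ∃ g, ρ g ≠ 1) :
    DPlus qq (s + 1) ≤ k := by
  have hcardι : Fintype.card ι = 2 * (s + 4) := by
    have := hT.1; rwa [finrank_top, finrank_fintype_fun_eq_card] at this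
  have h7 : 7 ≤ Fintype.card ι := by omega
  have hTX : IsT Q (X B e f) (s + 3) 1 := hT.down C H
  set q : ℤ := (qq : ℤ) with hqdef
  have hq4 : (4 : ℤ) ≤ q := by rw [hqdef, Nat.card_eq_fintype_card]; exact_mod_cast hq
  set P : ℤ := q ^ (s + 2) with hP
  have hP16 : (16 : ℤ) ≤ P := by
    have : q ^ 2 ≤ q ^ (s + 2) := pow_le_pow_right₀ (by omega) (by omega)
    rw [hP]; nlinarith
  have hcard : ∀ c : F, ((orb Q B e f c).card : ℤ) =
      q * P ^ 2 + P * (q * del c - 1) - del c := fun c => by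
    rw [card_orb C c, hTX.level_eq (r := s + 2) c, hP, hqdef]
    ring
  have hLs : (DPlus qq s : ℤ) * (q ^ 2 - 1) = (q * P - 1) * (P + q) := by
    rw [hqdef, DPlus_eq Nat.card_pos, hP, hqdef]; ring
  have hD : (DPlus qq (s + 1) : ℤ) = (DPlus qq s : ℤ) + (q * P - 1) * (P + 1) + 1 := by
    rw [DPlus_succ_cast Nat.card_pos, hP, hqdef]; ring
  have hLb : (DPlus qq s : ℤ) ≤ q * P ^ 2 - q * P - P := by
    refine le_of_mul_le_mul_right ?_ (show (0 : ℤ) < q ^ 2 - 1 by nlinarith)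
    rw [hLs]
    have a : 0 ≤ q ^ 3 - 2 * q := by nlinarith [mul_le_mul hq4 hq4 (by norm_num) (by omega)]
    have b : 0 ≤ 15 * q ^ 3 - 2 * q ^ 2 - 31 * q + 2 := by
      nlinarith [mul_le_mul_of_nonneg_left hq4 (sq_nonneg q), mul_le_mul hq4 hq4 (by norm_num) (by omega)]
    nlinarith [mul_nonneg (mul_nonneg a (show (0 : ℤ) ≤ P by omega)) (show (0 : ℤ) ≤ P - 16 by omega),
      mul_nonneg b (show (0 : ℤ) ≤ P by omega)]
  by_contra hlt
  rw [not_le] at hlt
  have hltz : (k : ℤ) < (DPlus qq (s + 1) : ℤ) := by exact_mod_cast hlt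
  have hfin : finrank ℂ (Fin k → ℂ) = k := Module.finrank_fin_fun ℂ
  -- all weights are singular
  have honly : ∀ v : X B e f, v ≠ 0 → mult C H ρ v ≠ 0 → Q v.1 = 0 := by
    intro v hv hm
    by_contra hc
    obtain ⟨t, ht0, ht⟩ : ∃ t : F, t ≠ 0 ∧ t ^ 2 ≠ 1 := by
      by_contra hall
      push Not at hall
      have h : (Finset.univ : Finset F) ⊆ {0, 1, -1} := fun x _ => by
        by_cases hx : x = 0
        · simp [hx]
        · rcases sq_eq_one_iff.mp (hall x hx) with h | h <;> simp [h]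
      have h1 := (Finset.card_le_card h).trans Finset.card_le_three
      rw [Finset.card_univ] at h1
      omega
    obtain ⟨g, hg, hge, hgf⟩ := exists_scale' C (by omega) H ht0
    have hmem : t⁻¹ • g.val *ᵥ v.1 ∈ X B e f :=
      Submodule.smul_mem _ _ (act_mem_X C H (root_le_iso C _ hg) ht0 hge hgf v.2)
    set v' : X B e f := ⟨_, hmem⟩ with hv'
    have hQv' : Q v'.1 = t⁻¹ ^ 2 * Q v.1 := by
      rw [hv', C.smul, mem_iso.mp (root_le_iso C _ hg)]
    have hm' : mult C H ρ v' ≠ 0 := by rwa [mult_act C H ρ (g := ⟨g, hg⟩) ht0 hge hgf (v := v) (v' := v') rfl]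
    have hc' : Q v.1 ≠ Q v'.1 := fun h => by
      rw [hQv'] at h
      have h1 : t⁻¹ ^ 2 = 1 := mul_right_cancel₀ hc (by rw [one_mul]; exact h.symm)
      rw [inv_pow, inv_eq_one] at h1
      exact ht h1
    have hv'0 : v' ≠ 0 := fun h0 => by
      have : Q v'.1 = 0 := by rw [h0]; exact C.zero
      rw [hQv'] at this
      exact hc ((mul_eq_zero.mp this).resolve_left (pow_ne_zero _ (inv_ne_zero ht0)))
    have h2 := two_orb_le C h7 H ρ hc' (mem_orb.mpr ⟨hv, rfl⟩) (mem_orb.mpr ⟨hv'0, rfl⟩) hm hm'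
    rw [hfin] at h2
    have h2z : ((orb Q B e f (Q v.1)).card : ℤ) + (orb Q B e f (Q v'.1)).card ≤ k := by exact_mod_cast h2
    rw [hcard, hcard, del_ne hc, del_ne (by
      rw [hQv']; exact mul_ne_zero (pow_ne_zero _ (inv_ne_zero ht0)) hc)] at h2z
    linarith
  obtain ⟨v₀, hv₀, hm₀⟩ := exists_weight C H ρ (by omega) hne
  have hv₀' : v₀ ∈ orb Q B e f (0 : F) := mem_orb.mpr ⟨hv₀, honly v₀ hv₀ hm₀⟩
  have hS : ((orb Q B e f (0 : F)).card : ℤ) = (q * P - 1) * (P + 1) := by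
    rw [hcard, del_zero]; ring
  have hLle : (DPlus qq s : ℤ) + 1 ≤ (q * P - 1) * (P + 1) := by
    have h2 : 1 ≤ q * P := by nlinarith
    linarith
  obtain ⟨⟨u, hu, hQu, hu0, hchi⟩, -, -, hbound⟩ := single C h7 H ρ (s := s + 1) (ε := 1) hTX (by omega)
    hv₀' hm₀ honly (by
      rw [hfin]
      zify
      rw [hS]
      linarith)
    fun v p q' hpq hp hq' _ hv hpv hqv => lam_line_large C h7 H ρ hq hv hp hq' hpq hpv hqv
  have h1 := hbound _ hL
  rw [hfin] at h1 hchi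
  have h1z : (DPlus qq s : ℤ) + (orb Q B e f (0 : F)).card ≤ k := by exact_mod_cast h1
  rw [hS] at h1z
  have hk : (k : ℤ) = (DPlus qq (s + 1) : ℤ) - 1 := by linarith
  haveI := hirr
  have hk0 : k ≠ 0 := fun h0 => by
    have : (0 : ℤ) ≤ DPlus qq s := Int.natCast_nonneg _
    rw [h0] at h1z; nlinarith
  have hdvd := dvd_class C h7 H (s := s + 1) (Or.inl rfl) hT (D := (DPlus qq (s + 1) : ℤ))
    (by rw [DPlus_eq Nat.card_pos]; ring) ρ hk0 hu hQu hu0 hchi
  refine excl_one (q := q) (A := q ^ (s + 3)) (Or.inl rfl) (by omega) (pow_le_pow_right₀ (by omega) (by omega))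
    (dvd_pow_self _ (by omega)) ?_ hk hdvd
  rw [hqdef, DPlus_eq Nat.card_pos]
  ring

end Cfsg.Lib.Linear.OrthDeg
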