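import Cfsg.Agent.Lib.Linear.OrthDegree.Plus

/-!
# The smallest degree of `Ω⁺`: the induction
-/

set_option autoImplicit false

namespace Cfsg.Lib.Linear.OrthDeg

open Module Cfsg.Lib.Linear.Orth Cfsg.Lib.Linear.MinIndexOrth Cfsg.Lib.OrthMult
open scoped Matrix

universe u

variable {F : Type u} [Field F] [Fintype F]

theorem minRep_plus (hq : 4 ≤ Fintype.card F) : ∀ (s : ℕ) (ι : Type) [Fintype ι] [DecidableEq ι]
    (Q : (ι → F) → F) (B : LinearMap.BilinForm F (ι → F)), Space Q B → Fintype.card ι = 2 * (s + 3) →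
    IsT Q (⊤ : Submodule F (ι → F)) (s + 3) 1 → MinRep ↥(Root Q B ⊤) (DPlus (Nat.card F) s) := by
  intro s
  induction s with
  | zero => exact fun ι _ _ Q B C hd hT => minRep_six C hd hT hq
  | succ s ih =>
    intro ι _ _ Q B C hd hT
    obtain ⟨e, f, H⟩ := exists_hyp' C C.ndeg_top (by rw [hT.1]; omega)
    exact MinRep.of_irr fun k ρ hρ hne => plus_step C hq hT H
      (minRep_X C H (hT.down C H) fun d Q' B' C' hd' hT' => ih (Fin d) Q' B' C' (by rw [Fintype.card_fin]; exact hd') hT')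
      ρ hρ hne

/-- The smallest degree of `Ω⁺` in dimension `2 * n`. -/
theorem omega_plus_degree (n : ℕ) (hn : 4 ≤ n) (h3 : 3 < Fintype.card F) (k : ℕ)
    (ρ : Representation ℂ (Cfsg.Omega F (Cfsg.quadFormPlus n F)) (Fin k → ℂ)) (hρ : ρ.IsIrreducible)
    (hk : 2 ≤ k) :
    (Fintype.card F ^ n - 1) * (Fintype.card F ^ (n - 1) + Fintype.card F) / (Fintype.card F ^ 2 - 1) ≤ k := by
  classical
  obtain ⟨s, rfl⟩ : ∃ s, n = s + 3 := ⟨n - 3, by omega⟩
  obtain ⟨B, C⟩ := exists_space_plus (F := F) (s + 3)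
  have h5 : 5 ≤ Fintype.card (Fin (s + 3) ⊕ Fin (s + 3)) := by simp; omega
  have hG := (minRep_plus (F := F) h3 s _ _ B C (by simp; omega) (isT_plus (s + 3))).of_surjective
    (omegaEquiv C h5).symm.toMonoidHom (omegaEquiv C h5).symm.surjective
  have hne : ∃ g, ρ g ≠ 1 := by
    by_contra hall
    push Not at hall
    haveI := hρ
    haveI : Nonempty (Fin k) := ⟨⟨0, by omega⟩⟩
    obtain ⟨v, hv⟩ : ∃ v : Fin k → ℂ, v ≠ 0 := exists_ne 0
    rcases ((Cfsg.Lib.Char.isIrreducible_iff_submodule ρ).mp hρ).2 (ℂ ∙ v)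
      (fun g x hx => by rw [hall g]; exact hx) with h | h
    · exact hv (Submodule.span_singleton_eq_bot.mp h)
    · have h2 := finrank_span_singleton (K := ℂ) hv
      rw [h, finrank_top, Module.finrank_fin_fun] at h2
      omega
  refine le_trans (le_of_eq ?_) (hG k ρ hne)
  have hq1 : 1 ≤ Fintype.card F := Fintype.card_pos
  rw [show s + 3 - 1 = s + 2 by omega, Nat.card_eq_fintype_card]
  have hsq : 4 ≤ Fintype.card F ^ 2 := by nlinarith
  refine Nat.div_eq_of_eq_mul_left (by omega) ?_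
  have h := DPlus_eq hq1 s
  zify [Nat.one_le_pow (s + 3) _ hq1, Nat.one_le_pow 2 _ hq1]
  linear_combination -h

end Cfsg.Lib.Linear.OrthDeg
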