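import Cfsg.Agent.Lib.Linear.MinDegree.Proj
import Cfsg.Agent.Lib.Char.Orthogonality

/-!
# Traces against weight projections, and bounds for non-trivial representations
-/

set_option autoImplicit false

namespace Cfsg.Lib.Linear.OrthDeg

open Module Cfsg.Lib.Linear.MinDegree

section Proj

variable {V : Type*} [AddCommGroup V] [Module ℂ V] {W : Type*} [AddCommGroup W] [Fintype W]
  (R : Multiplicative W →* Module.End ℂ V)

theorem proj_ortho {θ θ' : AddChar W ℂ} (h : θ ≠ θ') : proj R θ * proj R θ' = 0 := by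
  obtain ⟨b, hb⟩ : ∃ b, θ b ≠ θ' b := by
    by_contra h'
    push Not at h'
    exact h (DFunLike.ext _ _ h')
  have h1 : θ b • (proj R θ * proj R θ') = θ' b • (proj R θ * proj R θ') := by
    rw [← smul_mul_assoc, ← proj_mul_R, mul_assoc, R_mul_proj, mul_smul_comm]
  rw [← sub_eq_zero, ← sub_smul] at h1
  exact (smul_eq_zero.mp h1).resolve_left (sub_ne_zero.mpr hb)

theorem trace_eq_sum (A : Module.End ℂ V) :
    LinearMap.trace ℂ V A = ∑ θ : AddChar W ℂ, LinearMap.trace ℂ V (A * proj R θ) := by
  rw [← map_sum, ← Finset.mul_sum, sum_proj, mul_one]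

/-- An operator moving a weight has no trace on it. -/
theorem trace_moved [FiniteDimensional ℂ V] {A : Module.End ℂ V} {θ θ' : AddChar W ℂ}
    (h : A * proj R θ = proj R θ' * A) (hne : θ ≠ θ') :
    LinearMap.trace ℂ V (A * proj R θ) = 0 := by
  have h1 : proj R θ * (A * proj R θ) = 0 := by rw [h, ← mul_assoc, proj_ortho R hne, zero_mul]
  rw [← proj_mul_self R θ, ← mul_assoc, LinearMap.trace_mul_comm, h1, map_zero]

end Proj

section RankOne

variable {V : Type*} [AddCommGroup V] [Module ℂ V] [FiniteDimensional ℂ V]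

theorem rank_one {P : Module.End ℂ V} (hP : P * P = P) (ht : LinearMap.trace ℂ V P = 1)
    (A : Module.End ℂ V) : P * A * P = LinearMap.trace ℂ V (A * P) • P := by
  have hproj := (LinearMap.isProj_range_iff_isIdempotentElem P).2 hP
  have hfin : finrank ℂ (LinearMap.range P) = 1 := by
    have := hproj.trace
    rw [ht] at this
    exact_mod_cast this.symm
  obtain ⟨x, -, hx⟩ := finrank_eq_one_iff'.mp hfin
  obtain ⟨c, hc⟩ := hx ⟨P (A x.1), LinearMap.mem_range_self P _⟩
  have hc' : P (A x.1) = c • x.1 := (congrArg Subtype.val hc).symm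
  have key : P * A * P = c • P := by
    refine LinearMap.ext fun v => ?_
    obtain ⟨a, ha⟩ := hx ⟨P v, LinearMap.mem_range_self P v⟩
    have ha' : P v = a • x.1 := (congrArg Subtype.val ha).symm
    show P (A (P v)) = c • P v
    rw [ha', map_smul, map_smul, hc', smul_comm]
  have h2 : LinearMap.trace ℂ V (P * A * P) = LinearMap.trace ℂ V (A * P) := by
    rw [LinearMap.trace_mul_comm, ← mul_assoc, hP, LinearMap.trace_mul_comm]
  rw [key, map_smul, ht, smul_eq_mul, mul_one] at h2
  rw [key, h2]

/-- An operator commuting with a projection of rank one is a scalar on it. -/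
theorem mul_rank_one {P : Module.End ℂ V} (hP : P * P = P) (ht : LinearMap.trace ℂ V P = 1)
    {A : Module.End ℂ V} (hA : A * P = P * A) : A * P = LinearMap.trace ℂ V (A * P) • P := by
  rw [← rank_one hP ht A, ← hA, mul_assoc, hP]

theorem trace_rank_one {P : Module.End ℂ V} (hP : P * P = P) (ht : LinearMap.trace ℂ V P = 1)
    (A : Module.End ℂ V) {B : Module.End ℂ V} (hB : B * P = P * B) :
    LinearMap.trace ℂ V (A * B * P) = LinearMap.trace ℂ V (A * P) * LinearMap.trace ℂ V (B * P) := by
  rw [mul_assoc, mul_rank_one hP ht hB, mul_smul_comm, map_smul, smul_eq_mul, mul_comm,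
    ← mul_rank_one hP ht hB]

end RankOne

section MinRep

universe u v

/-- Every non-trivial complex representation has dimension at least `L`. -/
def MinRep (G : Type u) [Group G] (L : ℕ) : Prop :=
  ∀ (k : ℕ) (ρ : Representation ℂ G (Fin k → ℂ)), (∃ g, ρ g ≠ 1) → L ≤ k

/-- Every non-trivial irreducible complex representation has dimension at least `L`. -/
def MinIrr (G : Type u) [Group G] (L : ℕ) : Prop :=
  ∀ (k : ℕ) (ρ : Representation ℂ G (Fin k → ℂ)), ρ.IsIrreducible → (∃ g, ρ g ≠ 1) → L ≤ k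

variable {G : Type u} [Group G]

theorem MinRep.le_finrank {L : ℕ} (h : MinRep G L) {V : Type v} [AddCommGroup V] [Module ℂ V]
    [FiniteDimensional ℂ V] (ρ : Representation ℂ G V) (hne : ∃ g, ρ g ≠ 1) : L ≤ finrank ℂ V := by
  let e : V ≃ₗ[ℂ] (Fin (finrank ℂ V) → ℂ) := LinearEquiv.ofFinrankEq _ _ (Module.finrank_fin_fun ℂ).symm
  obtain ⟨g, hg⟩ := hne
  refine h _ (Cfsg.Lib.Char.transportRep e ρ) ⟨g, fun h1 => hg (LinearMap.ext fun x => e.injective ?_)⟩
  have := LinearMap.congr_fun h1 (e x)
  rwa [Cfsg.Lib.Char.transportRep_apply, e.symm_apply_apply] at this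

theorem MinIrr.le_finrank {L : ℕ} (h : MinIrr G L) {V : Type v} [AddCommGroup V] [Module ℂ V]
    [FiniteDimensional ℂ V] (ρ : Representation ℂ G V) (hirr : ρ.IsIrreducible) (hne : ∃ g, ρ g ≠ 1) :
    L ≤ finrank ℂ V := by
  let e : V ≃ₗ[ℂ] (Fin (finrank ℂ V) → ℂ) := LinearEquiv.ofFinrankEq _ _ (Module.finrank_fin_fun ℂ).symm
  obtain ⟨g, hg⟩ := hne
  refine h _ (Cfsg.Lib.Char.transportRep e ρ)
    (Cfsg.Lib.Char.isIrreducible_of_equiv (Cfsg.Lib.Char.transportEquiv e ρ) hirr)
    ⟨g, fun h1 => hg (LinearMap.ext fun x => e.injective ?_)⟩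
  have := LinearMap.congr_fun h1 (e x)
  rwa [Cfsg.Lib.Char.transportRep_apply, e.symm_apply_apply] at this

theorem MinRep.of_surjective {H : Type v} [Group H] {L : ℕ} (h : MinRep G L) (φ : G →* H)
    (hφ : Function.Surjective φ) : MinRep H L := by
  intro k ρ ⟨x, hx⟩
  obtain ⟨g, rfl⟩ := hφ x
  exact h k (ρ.comp φ) ⟨g, hx⟩

/-- A non-trivial representation has a non-trivial irreducible constituent. -/
theorem MinRep.of_irr [Finite G] {L : ℕ} (h : MinIrr G L) : MinRep G L := by
  intro k ρ ⟨g₀, hg₀⟩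
  have := Fintype.ofFinite G
  have : Invertible (Fintype.card G : ℂ) := invertibleOfNonzero (Nat.cast_ne_zero.2 Fintype.card_ne_zero)
  have : Invertible (Nat.card G : ℂ) := invertibleOfNonzero (Nat.cast_ne_zero.2 Nat.card_pos.ne')
  have hcomm : ∀ g x, ρ.averageMap (ρ g x) = ρ g (ρ.averageMap x) := fun g x => by
    have h1 : ρ.averageMap (ρ g x) = ρ.averageMap x := by
      simp only [Representation.averageMap, GroupAlgebra.average, map_sum, map_smul, LinearMap.smul_apply,
        LinearMap.sum_apply, MonoidAlgebra.of_apply, Representation.asAlgebraHom_single_one]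
      congr 1
      exact Fintype.sum_equiv (Equiv.mulRight g) _ _ fun a => by
        rw [Equiv.coe_mulRight, map_mul, Module.End.mul_apply]
    rw [h1]
    exact ((Representation.isProj_averageMap ρ).map_mem x g).symm
  let U : Subrepresentation ρ := ⟨LinearMap.ker ρ.averageMap, fun g x hx => by
    rw [LinearMap.mem_ker, hcomm, LinearMap.mem_ker.mp hx, map_zero]⟩
  have hmem : ∀ x, x - ρ.averageMap x ∈ U.toSubmodule := fun x => by
    show _ ∈ LinearMap.ker _
    rw [LinearMap.mem_ker, map_sub, (Representation.isProj_averageMap ρ).map_id _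
      ((Representation.isProj_averageMap ρ).map_mem x), sub_self]
  have hU : Nontrivial U.toSubmodule := by
    rw [Submodule.nontrivial_iff_ne_bot]
    intro h0
    refine hg₀ (LinearMap.ext fun x => ?_)
    have := hmem x
    rw [h0, Submodule.mem_bot, sub_eq_zero] at this
    rw [this]
    exact (Representation.isProj_averageMap ρ).map_mem x g₀
  obtain ⟨p, hp⟩ := Cfsg.Lib.Char.exists_irreducible_subrep U.toRepresentation
  have hne : ∃ g, p.toRepresentation g ≠ 1 := by
    by_contra hall
    push Not at hall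
    obtain ⟨w, hw⟩ := @exists_ne _ ((Cfsg.Lib.Char.isIrreducible_iff_submodule _).mp hp).1 (0 : p.toSubmodule)
    have hfix : ((w : U.toSubmodule) : Fin k → ℂ) ∈ ρ.invariants := fun g =>
      congrArg Subtype.val (congrArg Subtype.val (LinearMap.congr_fun (hall g) w))
    have h3 := (Representation.isProj_averageMap ρ).map_id _ hfix
    rw [LinearMap.mem_ker.mp (w : U.toSubmodule).2] at h3
    exact hw (Subtype.ext (Subtype.ext h3.symm))
  have h1 : L ≤ finrank ℂ p.toSubmodule :=
    MinIrr.le_finrank (V := ↥p.toSubmodule) h p.toRepresentation hp hne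
  have h2 : finrank ℂ p.toSubmodule ≤ finrank ℂ U.toSubmodule := Submodule.finrank_le p.toSubmodule
  have h3 : finrank ℂ U.toSubmodule ≤ finrank ℂ (Fin k → ℂ) := Submodule.finrank_le U.toSubmodule
  rw [Module.finrank_fin_fun] at h3
  exact h1.trans (h2.trans h3)

end MinRep

end Cfsg.Lib.Linear.OrthDeg
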