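import Cfsg.Agent.Lib.Linear.OrthDegree.Trace

/-!
# A representation with a single orbit of weights of multiplicity one
-/

set_option autoImplicit false

namespace Cfsg.Lib.Linear.OrthDeg

open Module Cfsg.Lib.Linear.Orth Cfsg.Lib.Linear.MinIndexOrth Cfsg.Lib.Linear.MinDegree
open scoped Matrix Classical

variable {ι : Type} [Fintype ι] [DecidableEq ι] {F : Type*} [Field F] [Fintype F]
  {Q : (ι → F) → F} {B : LinearMap.BilinForm F (ι → F)}
  (C : Space Q B) (h7 : 7 ≤ Fintype.card ι) {e f : ι → F} (H : Hyp Q B ⊤ e f)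
  {V : Type*} [AddCommGroup V] [Module ℂ V] [FiniteDimensional ℂ V]
  (ρ : Representation ℂ ↥(Root Q B ⊤) V)

include h7 in
theorem orb_mul_le {c : F} {v : X B e f} (hv : v ∈ orb Q B e f c) :
    (orb Q B e f c).card * mult C H ρ v ≤ finrank ℂ V := by
  rw [← sum_mult C H ρ, ← smul_eq_mul, ← Finset.sum_const]
  refine le_trans (le_of_eq (Finset.sum_congr rfl fun w hw => ?_))
    (Finset.sum_le_sum_of_subset (Finset.subset_univ (orb Q B e f c)))
  exact mult_trans C H ρ h7 (mem_orb.mp hv).1 (mem_orb.mp hw).1 (by rw [(mem_orb.mp hv).2, (mem_orb.mp hw).2])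

include h7 in
theorem orb_le {c : F} {v : X B e f} (hv : v ∈ orb Q B e f c) (hm : mult C H ρ v ≠ 0) :
    (orb Q B e f c).card ≤ finrank ℂ V :=
  le_trans (Nat.le_mul_of_pos_right _ (Nat.pos_of_ne_zero hm)) (orb_mul_le C h7 H ρ hv)

include h7 in
theorem two_orb_le {c c' : F} (hc : c ≠ c') {v v' : X B e f} (hv : v ∈ orb Q B e f c)
    (hv' : v' ∈ orb Q B e f c') (hm : mult C H ρ v ≠ 0) (hm' : mult C H ρ v' ≠ 0) :
    (orb Q B e f c).card + (orb Q B e f c').card ≤ finrank ℂ V := by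
  have hd : Disjoint (orb Q B e f c) (orb Q B e f c') := Finset.disjoint_left.mpr fun w hw hw' =>
    hc ((mem_orb.mp hw).2.symm.trans (mem_orb.mp hw').2)
  rw [← sum_mult C H ρ, ← Finset.card_union_of_disjoint hd, Finset.card_eq_sum_ones]
  refine le_trans (Finset.sum_le_sum fun w hw => ?_) (Finset.sum_le_sum_of_subset (Finset.subset_univ _))
  refine Nat.pos_of_ne_zero ?_
  rcases Finset.mem_union.mp hw with h | h
  · rw [mult_trans C H ρ h7 (mem_orb.mp h).1 (mem_orb.mp hv).1 (by rw [(mem_orb.mp h).2, (mem_orb.mp hv).2])]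
    exact hm
  · rw [mult_trans C H ρ h7 (mem_orb.mp h).1 (mem_orb.mp hv').1 (by rw [(mem_orb.mp h).2, (mem_orb.mp hv').2])]
    exact hm'

/-- The fixed space of the Siegel elements with centre `e` as a module for `Root Q B (X B e f)`. -/
noncomputable def fixRep :
    Representation ℂ ↥(Root Q B (X B e f)) (LinearMap.range (wproj C H ρ 0)) where
  toFun h := (ρ ⟨h.1, root_mono le_top h.2⟩).restrict (p := LinearMap.range (wproj C H ρ 0))
    (q := LinearMap.range (wproj C H ρ 0)) fun x hx => by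
      obtain ⟨y, rfl⟩ := hx
      have hfix : Fixes e f (0 : ι → F) (⟨h.1, root_mono le_top h.2⟩ : ↥(Root Q B ⊤)) :=
        ⟨(root_fix C H h.2).1, (root_fix C H h.2).2, Matrix.mulVec_zero _⟩
      refine ⟨ρ ⟨h.1, root_mono le_top h.2⟩ y, ?_⟩
      rw [← Module.End.mul_apply, ← fixes_comm C H ρ hfix, Module.End.mul_apply]
  map_one' := LinearMap.ext fun x => Subtype.ext (by
    show ρ ⟨1, _⟩ x.1 = x.1
    rw [show (⟨1, root_mono le_top (one_mem (Root Q B (X B e f)))⟩ : ↥(Root Q B ⊤)) = 1 from rfl, map_one]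
    rfl)
  map_mul' a b := LinearMap.ext fun x => Subtype.ext (by
    show ρ ⟨a.1 * b.1, _⟩ x.1 = ρ ⟨a.1, _⟩ (ρ ⟨b.1, _⟩ x.1)
    rw [← Module.End.mul_apply, ← map_mul]
    rfl)

theorem fixRep_coe (h : ↥(Root Q B (X B e f))) (x : LinearMap.range (wproj C H ρ 0)) :
    ((fixRep C H ρ h x : LinearMap.range (wproj C H ρ 0)) : V) = ρ ⟨h.1, root_mono le_top h.2⟩ x.1 := rfl

include h7 in
/-- The main step. -/
theorem single {s : ℕ} {ε : ℤ} (hT : IsT Q (X B e f) (s + 2) ε) (hs : 1 ≤ s) {c : F} {v₀ : X B e f}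
    (hv₀ : v₀ ∈ orb Q B e f c) (hm₀ : mult C H ρ v₀ ≠ 0)
    (honly : ∀ v : X B e f, v ≠ 0 → mult C H ρ v ≠ 0 → Q v.1 = c)
    (hlt : finrank ℂ V < 2 * (orb Q B e f c).card)
    (hlam : ∀ (v : X B e f) (p q : ι → F) (hpq : TS Q B p q), p ∈ X B e f → q ∈ X B e f → Q v.1 = c →
      mult C H ρ v = 1 → B p v.1 = 0 → B q v.1 = 0 →
      lam C H ρ v ⟨sGL Q B p q, sGL_mem_root trivial trivial hpq.singP hpq.perp⟩ = 1) :
    (∃ (u : ι → F) (hu : u ∈ X B e f), Q u = 0 ∧ u ≠ 0 ∧
      ρ.character ⟨sGL Q B e u, sGL_mem_root trivial trivial H.singE (X.left hu)⟩ =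
        (finrank ℂ V : ℂ) - (Nat.card F : ℂ) ^ (2 * s + 3)) ∧
    finrank ℂ V = mult C H ρ 0 + (orb Q B e f c).card ∧ (∃ h, fixRep C H ρ h ≠ 1) ∧
    ∀ L, MinRep ↥(Root Q B (X B e f)) L → L + (orb Q B e f c).card ≤ finrank ℂ V := by
  set k := finrank ℂ V with hk
  set O := orb Q B e f c with hO
  -- multiplicity one on the orbit
  have hone : ∀ v ∈ O, mult C H ρ v = 1 := fun v hv => by
    have h1 : mult C H ρ v ≠ 0 := by
      rw [mult_trans C H ρ h7 (mem_orb.mp hv).1 (mem_orb.mp hv₀).1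
        (by rw [(mem_orb.mp hv).2, (mem_orb.mp hv₀).2])]
      exact hm₀
    have h2 : O.card * mult C H ρ v ≤ k := orb_mul_le C h7 H ρ hv
    have h3 : mult C H ρ v < 2 := by
      by_contra h4
      have := Nat.mul_le_mul_left O.card (not_lt.mp h4)
      omega
    omega
  have h0O : (0 : X B e f) ∉ O := fun h => (mem_orb.mp h).1 rfl
  have hout : ∀ v : X B e f, v ∉ insert 0 O → mult C H ρ v = 0 := fun v hv => by
    rw [Finset.mem_insert, not_or] at hv
    by_contra hm
    exact hv.2 (mem_orb.mpr ⟨hv.1, honly v hv.1 hm⟩)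
  have hksum : k = mult C H ρ 0 + O.card := by
    rw [hk, ← sum_mult C H ρ, ← Finset.sum_subset (Finset.subset_univ (insert 0 O)) fun v _ hv => hout v hv,
      Finset.sum_insert h0O, Finset.sum_congr rfl hone, Finset.sum_const, smul_eq_mul, mul_one]
  -- a totally singular plane in the space of parameters
  have hnd := X_ndeg C H
  obtain ⟨p, g, Hp⟩ := exists_hyp' C hnd (by have := hT.1; omega)
  have hd1 := finrank_step C Hp
  obtain ⟨q, g', Hq⟩ := exists_hyp' C (Hp.ndeg C hnd) (by have := hT.1; omega)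
  obtain ⟨hqX, hpq, hgq⟩ := mem_perp2.mp Hq.memE
  have hts : TS Q B p q := ⟨Hp.singE, Hq.singE, hpq, (Hyp.ne_zero C Hp).1, fun hm => by
    obtain ⟨t, ht⟩ := Submodule.mem_span_singleton.mp hm
    rw [← ht, map_smul, Hp.pair' C, smul_eq_mul, mul_one] at hgq
    exact (Hyp.ne_zero C Hq).1 (by rw [← ht, hgq, zero_smul])⟩
  have hT1 : IsT Q (perp2 B (X B e f) p g) (s + 1) ε := hT.down C Hp
  have hT2 : IsT Q (perp2 B (perp2 B (X B e f) p g) q g') s ε := hT1.down C Hq
  set qc : ℂ := (Nat.card F : ℂ) with hqc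
  set δ : ℂ := ((del c : ℤ) : ℂ) with hδ
  -- the sum over the orbit
  have hT' : ∑ v ∈ O, psi F (B v.1 p) =
      (ε : ℂ) * qc ^ (s + 1) * (qc * δ - 1) - δ := by
    have h1 := sum_orb C (e := e) (f := f) (M := ℂ) c fun x => psi F (B p x)
    rw [sum_char C Hp c psi_ne_one] at h1
    have h2 : ((Nat.card F : ℂ) * level Q (perp2 B (X B e f) p g) c) =
        qc ^ (2 * (s + 1)) + (ε : ℂ) * qc ^ (s + 1) * (qc * δ - 1) := by
      rw [hqc, hδ]
      exact_mod_cast hT1.2 c
    have h3 : (Nat.card ↥(perp2 B (X B e f) p g) : ℂ) = qc ^ (2 * (s + 1)) := by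
      rw [card_submodule, hT1.1, Nat.cast_pow]
    rw [Finset.sum_congr rfl fun v _ => by rw [C.symm v.1 p], h1, h2, h3]
    simp only [hδ, del]
    split_ifs <;> simp
  have hcard : (O.card : ℂ) = qc ^ (2 * s + 3) + (ε : ℂ) * qc ^ (s + 1) * (qc * δ - 1) - δ := by
    have h1 : (O.card : ℤ) = (Nat.card F : ℤ) ^ (2 * (s + 1) + 1) +
        ε * (Nat.card F : ℤ) ^ (s + 1) * ((Nat.card F : ℤ) * del c - 1) - del c := by
      rw [hO, card_orb C c, hT.level_eq c]
    rw [hqc, hδ, show 2 * s + 3 = 2 * (s + 1) + 1 by ring]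
    exact_mod_cast h1
  -- the first element
  set x : ↥(Root Q B ⊤) := qhom C H (Multiplicative.ofAdd ⟨p, Hp.memE⟩) with hx
  have hchix : ρ.character x = (mult C H ρ 0 : ℂ) + ∑ v ∈ O, psi F (B v.1 p) := by
    rw [hx, character_qhom C H ρ, ← Finset.sum_subset (Finset.subset_univ (insert 0 O))
      fun v _ hv => by rw [hout v hv, Nat.cast_zero, mul_zero],
      Finset.sum_insert h0O, Finset.sum_congr rfl fun v hv => by rw [hone v hv, Nat.cast_one, mul_one]]
    simp
  -- the second element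
  have hyX : sGL Q B p q ∈ Root Q B (X B e f) := sGL_mem_root Hp.memE hqX Hp.singE hpq
  set y : ↥(Root Q B ⊤) := ⟨sGL Q B p q, sGL_mem_root trivial trivial Hp.singE hpq⟩ with hy
  obtain ⟨gc, hgc, hgcx⟩ := conj_pair C h7 H hts Hp.memE Hp.singE (Hyp.ne_zero C Hp).1
  have hxy : ρ.character x = ρ.character y := by
    have e1 : x = ⟨gc, hgc⟩ * y * (⟨gc, hgc⟩)⁻¹ := Subtype.ext hgcx.symm
    rw [e1, Representation.char_conj]
  have hy0 : (sGL Q B p q).val *ᵥ e = e ∧ (sGL Q B p q).val *ᵥ f = f := root_fix C H hyX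
  have hact : ∀ v : X B e f, (sGL Q B p q).val *ᵥ v.1 = v.1 ↔ B p v.1 = 0 ∧ B q v.1 = 0 := fun v => by
    rw [TS.act C hts.singP hts.singQ hts.perp]
    constructor
    · intro h
      have h' : B p v.1 • q = B q v.1 • p := by rwa [add_sub_assoc, add_eq_left, sub_eq_zero] at h
      have h1 : B p v.1 = 0 := by
        by_contra hne
        exact hts.indep (Submodule.mem_span_singleton.mpr ⟨(B p v.1)⁻¹ * B q v.1, by
          rw [mul_smul, ← h', smul_smul, inv_mul_cancel₀ hne, one_smul]⟩)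
      rw [h1, zero_smul, eq_comm, smul_eq_zero] at h'
      exact ⟨h1, h'.resolve_right hts.neP⟩
    · rintro ⟨h1, h2⟩
      rw [h1, h2]
      simp
  have hterm : ∀ v ∈ O, LinearMap.trace ℂ V (ρ y * wproj C H ρ v) =
      if B p v.1 = 0 ∧ B q v.1 = 0 then 1 else 0 := fun v hv => by
    split_ifs with hfix
    · exact hlam v p q hts Hp.memE hqX (mem_orb.mp hv).2 (hone v hv) hfix.1 hfix.2
    · have hmem : (sGL Q B p q).val *ᵥ v.1 ∈ X B e f :=
        act_mem_X C H (root_le_iso C _ y.2) one_ne_zero (by rw [one_smul]; exact hy0.1)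
          (by rw [inv_one, one_smul]; exact hy0.2) v.2
      set v' : X B e f := ⟨_, hmem⟩ with hv'
      have hne : th B v ≠ th B v' := fun h =>
        hfix ((hact v).mp (congrArg Subtype.val ((th_bijective C H).1 h)).symm)
      refine trace_moved _ (conj_wproj C H ρ (g := y) (c := 1) one_ne_zero ?_ ?_ ?_) hne
      · rw [one_smul]; exact hy0.1
      · rw [inv_one, one_smul]; exact hy0.2
      · rw [inv_one, one_smul]
  have hchiy : ρ.character y = LinearMap.trace ℂ V (ρ y * wproj C H ρ 0) +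
      (((O.filter fun v => B p v.1 = 0 ∧ B q v.1 = 0).card : ℕ) : ℂ) := by
    rw [character_eq_sum C H ρ, ← Finset.sum_subset (Finset.subset_univ (insert 0 O))
      fun v _ hv => by rw [wproj_eq_zero C H ρ (hout v hv), mul_zero, map_zero],
      Finset.sum_insert h0O, Finset.sum_congr rfl hterm, Finset.sum_boole]
  have hF : (((O.filter fun v => B p v.1 = 0 ∧ B q v.1 = 0).card : ℕ) : ℂ) =
      qc ^ (2 * s + 1) + (ε : ℂ) * qc ^ (s + 1) * (qc * δ - 1) - δ := by
    have h1 := card_perp_pair C Hp Hq.memE Hq c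
    set S : Finset (ι → F) := (Set.toFinite {x | x ∈ X B e f ∧ Q x = c}).toFinset with hS
    have h2 : ((S.filter fun x => B p x = 0 ∧ B q x = 0).card : ℕ) =
        Nat.card F * (Nat.card F * level Q (perp2 B (perp2 B (X B e f) p g) q g') c) := by
      rw [← h1, ← Set.ncard_coe_finset, ← Nat.card_coe_set_eq]
      refine Nat.card_congr (Equiv.subtypeEquivRight fun x => ?_)
      simp [hS, and_assoc]
    have h3 := sum_orb C (e := e) (f := f) (M := ℂ) c
      fun x => if B p x = 0 ∧ B q x = 0 then (1 : ℂ) else 0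
    rw [Finset.sum_boole, Finset.sum_boole, ← hS, h2] at h3
    have h4 : ((Nat.card F : ℂ) * level Q (perp2 B (perp2 B (X B e f) p g) q g') c) =
        qc ^ (2 * s) + (ε : ℂ) * qc ^ s * (qc * δ - 1) := by
      rw [hqc, hδ]
      exact_mod_cast hT2.2 c
    rw [hO, h3, Nat.cast_mul, Nat.cast_mul, h4]
    simp only [hδ, del, hqc]
    split_ifs <;> simp_all <;> ring
  have hkey : LinearMap.trace ℂ V (ρ y * wproj C H ρ 0) = (mult C H ρ 0 : ℂ) - qc ^ (2 * s + 1) := by
    have h := hchiy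
    rw [← hxy, hchix, hT', hF] at h
    linear_combination -h
  have hnt : ∃ h, fixRep C H ρ h ≠ 1 := by
    refine ⟨⟨sGL Q B p q, hyX⟩, fun h1 => ?_⟩
    have h2 : ρ y * wproj C H ρ 0 = wproj C H ρ 0 := LinearMap.ext fun z => by
      have := congrArg Subtype.val (LinearMap.congr_fun h1 ⟨_, LinearMap.mem_range_self (wproj C H ρ 0) z⟩)
      rw [fixRep_coe] at this
      exact this
    rw [h2, trace_wproj] at hkey
    have h3 : qc ^ (2 * s + 1) = 0 := by linear_combination hkey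
    exact (pow_ne_zero _ (Nat.cast_ne_zero.mpr Nat.card_pos.ne')) h3
  refine ⟨⟨p, Hp.memE, Hp.singE, (Hyp.ne_zero C Hp).1, ?_⟩, hksum, hnt, fun L hL => ?_⟩
  · show ρ.character x = _
    rw [hchix, hT', hksum, Nat.cast_add, hcard, hqc]
    ring
  · have h1 : L ≤ mult C H ρ 0 := hL.le_finrank (fixRep C H ρ) hnt
    omega

end Cfsg.Lib.Linear.OrthDeg
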