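import Cfsg.Agent.Lib.Linear.OrthDegree.Weights

/-!
# Two conjugate elements and the fixed space of the Siegel elements with a given centre
-/

set_option autoImplicit false

namespace Cfsg.Lib.Linear.OrthDeg

open Module Cfsg.Lib.Linear.Orth Cfsg.Lib.Linear.MinIndexOrth Cfsg.Lib.Linear.MinDegree
open scoped Matrix commutatorElement Classical

variable {ι : Type} [Fintype ι] [DecidableEq ι] {F : Type*} [Field F] [Fintype F]
  {Q : (ι → F) → F} {B : LinearMap.BilinForm F (ι → F)}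
  (C : Space Q B) (h7 : 7 ≤ Fintype.card ι) {e f : ι → F} (H : Hyp Q B ⊤ e f)

/-- The non-zero vectors of a given value in the space of parameters. -/
noncomputable def orb (Q : (ι → F) → F) (B : LinearMap.BilinForm F (ι → F)) (e f : ι → F) (c : F) :
    Finset (X B e f) := Finset.univ.filter fun v => v ≠ 0 ∧ Q v.1 = c

theorem mem_orb {c : F} {v : X B e f} : v ∈ orb Q B e f c ↔ v ≠ 0 ∧ Q v.1 = c := by simp [orb]

include C in
theorem image_orb (c : F) :
    (orb Q B e f c).map (Function.Embedding.subtype _) =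
      (Set.toFinite {x | x ∈ X B e f ∧ Q x = c}).toFinset.erase 0 := by
  ext x
  simp only [Finset.mem_map, mem_orb, Function.Embedding.coe_subtype, Finset.mem_erase,
    Set.Finite.mem_toFinset, Set.mem_setOf_eq]
  constructor
  · rintro ⟨v, ⟨hv, hc⟩, rfl⟩
    exact ⟨fun h => hv (Subtype.ext h), v.2, hc⟩
  · rintro ⟨hx, hxX, hc⟩
    exact ⟨⟨x, hxX⟩, ⟨fun h => hx (congrArg Subtype.val h), hc⟩, rfl⟩

include C in
theorem sum_orb {M : Type*} [AddCommGroup M] (c : F) (g : (ι → F) → M) :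
    ∑ v ∈ orb Q B e f c, g v.1 = (∑ x ∈ (Set.toFinite {x | x ∈ X B e f ∧ Q x = c}).toFinset, g x) -
      if c = 0 then g 0 else 0 := by
  have h : ∑ v ∈ orb Q B e f c, g v.1 = ∑ x ∈ (orb Q B e f c).map (Function.Embedding.subtype _), g x := by
    rw [Finset.sum_map]
    rfl
  rw [h, image_orb C]
  by_cases hc : c = 0
  · subst hc
    rw [if_pos rfl, Finset.sum_erase_eq_sub (by simp [C.zero])]
  · rw [if_neg hc, sub_zero, Finset.erase_eq_of_notMem (by simp [C.zero, Ne.symm hc])]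

include C in
theorem card_orb (c : F) : ((orb Q B e f c).card : ℤ) = (level Q (X B e f) c : ℤ) - del c := by
  have h := sum_orb C (e := e) (f := f) (M := ℤ) c fun _ => 1
  have h1 : ((Set.toFinite {x | x ∈ X B e f ∧ Q x = c}).toFinset.card : ℤ) = level Q (X B e f) c := by
    rw [← Set.ncard_eq_toFinset_card _ (Set.toFinite _), ← Nat.card_coe_set_eq]
    rfl
  rw [Finset.sum_const, Finset.sum_const, nsmul_one, nsmul_one, h1] at h
  rw [h, del]

variable {V : Type*} [AddCommGroup V] [Module ℂ V] [FiniteDimensional ℂ V]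
  (ρ : Representation ℂ ↥(Root Q B ⊤) V)

/-- The scalar of an element on a weight space of dimension one. -/
noncomputable def lam (v : X B e f) (g : ↥(Root Q B ⊤)) : ℂ :=
  LinearMap.trace ℂ V (ρ g * wproj C H ρ v)

/-- The elements which fix the centre, its partner and a weight. -/
def Fixes (e f : ι → F) (v : ι → F) (g : ↥(Root Q B ⊤)) : Prop :=
  (g : GL ι F).val *ᵥ e = e ∧ (g : GL ι F).val *ᵥ f = f ∧ (g : GL ι F).val *ᵥ v = v

omit [FiniteDimensional ℂ V] in
theorem fixes_comm {v : X B e f} {g : ↥(Root Q B ⊤)} (hg : Fixes e f v.1 g) :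
    ρ g * wproj C H ρ v = wproj C H ρ v * ρ g := by
  refine conj_wproj C H ρ one_ne_zero (by rw [one_smul]; exact hg.1) (by rw [inv_one, one_smul]; exact hg.2.1) ?_
  rw [inv_one, one_smul, hg.2.2]

theorem lam_mul {v : X B e f} (hv : mult C H ρ v = 1) (g : ↥(Root Q B ⊤)) {g' : ↥(Root Q B ⊤)}
    (hg' : Fixes e f v.1 g') : lam C H ρ v (g * g') = lam C H ρ v g * lam C H ρ v g' := by
  rw [lam, map_mul ρ]
  exact trace_rank_one (wproj_idem C H ρ v) (by rw [trace_wproj, hv, Nat.cast_one]) _ (fixes_comm C H ρ hg')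

theorem lam_one {v : X B e f} (hv : mult C H ρ v = 1) : lam C H ρ v 1 = 1 := by
  rw [lam, map_one, one_mul, trace_wproj, hv, Nat.cast_one]

omit [Fintype F] in
theorem Fixes.inv {v : ι → F} {g : ↥(Root Q B ⊤)} (h : Fixes e f v g) : Fixes e f v g⁻¹ := by
  refine ⟨?_, ?_, ?_⟩ <;> rw [Subgroup.coe_inv]
  · conv_lhs => rw [← h.1]
    exact inv_act _ _
  · conv_lhs => rw [← h.2.1]
    exact inv_act _ _
  · conv_lhs => rw [← h.2.2]
    exact inv_act _ _

theorem lam_conj {v : X B e f} (hv : mult C H ρ v = 1) {g h : ↥(Root Q B ⊤)} (hg : Fixes e f v.1 g)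
    (hh : Fixes e f v.1 h) : lam C H ρ v (g * h * g⁻¹) = lam C H ρ v h := by
  rw [lam_mul C H ρ hv _ hg.inv, lam_mul C H ρ hv _ hh, mul_right_comm, ← lam_mul C H ρ hv _ hg.inv,
    mul_inv_cancel, lam_one C H ρ hv, one_mul]

include h7 in
/-- Scaling the centre of a Siegel element. -/
theorem lam_torus (hq : 4 ≤ Fintype.card F) {v : X B e f} (hv : mult C H ρ v = 1) {p q : ι → F}
    (hp : p ∈ X B e f) (hq' : q ∈ X B e f) (hQp : Q p = 0) (hpq : B p q = 0) (hpv : B p v.1 = 0)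
    (hqv : B q v.1 = 0) (hsep : p ∉ Submodule.span F {v.1, q}) :
    lam C H ρ v ⟨sGL Q B p q, sGL_mem_root trivial trivial hQp hpq⟩ = 1 := by
  obtain ⟨μ, hμ0, hμ⟩ : ∃ μ : F, μ ≠ 0 ∧ μ ^ 2 ≠ 1 := by
    by_contra hall
    push Not at hall
    have h : (Finset.univ : Finset F) ⊆ {0, 1, -1} := fun x _ => by
      by_cases hx : x = 0
      · simp [hx]
      · rcases sq_eq_one_iff.mp (hall x hx) with h | h <;> simp [h]
    have h1 := (Finset.card_le_card h).trans Finset.card_le_three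
    rw [Finset.card_univ] at h1
    omega
  obtain ⟨g, Hg, hvg, hqg⟩ := exists_partner C (X_ndeg C H) hp v.2 hq' hQp hpv hpq hsep
  have Hg' : Hyp Q B ⊤ p g := ⟨trivial, trivial, Hg.singE, Hg.singF, Hg.pair⟩
  obtain ⟨h, hh, hhp, -, hhx⟩ := exists_scale C (by omega) Hg' hμ0
  have hhI := root_le_iso C _ hh
  have hfix : Fixes e f v.1 (⟨h, hh⟩ : ↥(Root Q B ⊤)) :=
    ⟨hhx e (mem_X.mpr ⟨by rw [C.symm]; exact X.left hp, by rw [C.symm]; exact X.left Hg.memF⟩),
      hhx f (mem_X.mpr ⟨by rw [C.symm]; exact X.right hp, by rw [C.symm]; exact X.right Hg.memF⟩),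
      hhx v.1 (mem_X.mpr ⟨hpv, by rw [C.symm]; exact hvg⟩)⟩
  have hhq : h.val *ᵥ q = q := hhx q (mem_X.mpr ⟨hpq, by rw [C.symm]; exact hqg⟩)
  have hperp : ∀ c : F, B p (c • q) = 0 := fun c => by rw [map_smul, hpq, smul_zero]
  let y : F → ↥(Root Q B ⊤) := fun c =>
    ⟨sGL Q B p (c • q), sGL_mem_root trivial trivial hQp (hperp c)⟩
  have hy : ∀ c, Fixes e f v.1 (y c) := fun c => by
    refine ⟨?_, ?_, ?_⟩ <;> show (sGL Q B p (c • q)).val *ᵥ _ = _ <;> rw [sGL_act C hQp (hperp c)]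
    · rw [map_smul, LinearMap.smul_apply, C.symm p e, C.symm q e, X.left hp, X.left hq']; simp
    · rw [map_smul, LinearMap.smul_apply, C.symm p f, C.symm q f, X.right hp, X.right hq']; simp
    · rw [map_smul, LinearMap.smul_apply, hpv, hqv]; simp
  have hmul : ∀ a b, y (a + b) = y a * y b := fun a b => Subtype.ext (by
    show sGL Q B p ((a + b) • q) = sGL Q B p (a • q) * sGL Q B p (b • q)
    rw [sGL_mul C hQp (hperp a) (hperp b), add_smul])
  have hsc : ∀ c, lam C H ρ v (y (μ ^ 2 * c)) = lam C H ρ v (y c) := fun c => by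
    refine Eq.trans (congrArg _ (Subtype.ext ?_)) (lam_conj C H ρ hv hfix (hy c))
    show sGL Q B p ((μ ^ 2 * c) • q) = h * sGL Q B p (c • q) * h⁻¹
    rw [sGL_conj C hQp (hperp c) hhI, hhp, Matrix.mulVec_smul, hhq, sGL_smul C hQp (hperp c), smul_smul]
  have hne : ∀ c, lam C H ρ v (y c) ≠ 0 := fun c h0 => by
    have h1 := lam_mul C H ρ hv (y c) (hy (-c))
    rw [← hmul, add_neg_cancel, h0, zero_mul] at h1
    have : y 0 = 1 := Subtype.ext (by show sGL Q B p ((0 : F) • q) = 1; rw [zero_smul]; exact sGL_one C hQp)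
    rw [this, lam_one C H ρ hv] at h1
    exact one_ne_zero h1
  set c := (μ ^ 2 - 1)⁻¹ with hc
  have h1 := lam_mul C H ρ hv (y ((μ ^ 2 - 1) * c)) (hy c)
  rw [← hmul, show (μ ^ 2 - 1) * c + c = μ ^ 2 * c by ring, hsc] at h1
  have h2 : lam C H ρ v (y ((μ ^ 2 - 1) * c)) = 1 :=
    mul_right_cancel₀ (hne c) (by rw [one_mul]; exact h1.symm)
  rw [hc, mul_inv_cancel₀ (sub_ne_zero.mpr hμ)] at h2
  refine Eq.trans (congrArg _ (Subtype.ext ?_)) h2
  show sGL Q B p q = sGL Q B p ((1 : F) • q)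
  rw [one_smul]

include h7 in
/-- Over a field with at least four elements the scalar of a totally singular line is one. -/
theorem lam_line_large (hq : 4 ≤ Fintype.card F) {v : X B e f} (hv : mult C H ρ v = 1) {p q : ι → F}
    (hp : p ∈ X B e f) (hq' : q ∈ X B e f) (hpq : TS Q B p q) (hpv : B p v.1 = 0) (hqv : B q v.1 = 0) :
    lam C H ρ v ⟨sGL Q B p q, sGL_mem_root trivial trivial hpq.singP hpq.perp⟩ = 1 := by
  by_cases hsep : p ∈ Submodule.span F {v.1, q}
  swap
  · exact lam_torus C h7 H ρ hq hv hp hq' hpq.singP hpq.perp hpv hqv hsep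
  obtain ⟨a, b, hab⟩ := Submodule.mem_span_pair.mp hsep
  have hq0 : q ≠ 0 := fun h => hpq.indep (h ▸ Submodule.zero_mem _)
  have ha : a ≠ 0 := fun ha => by
    rw [ha, zero_smul, zero_add] at hab
    have hb : b ≠ 0 := fun hb => hpq.neP (by rw [← hab, hb, zero_smul])
    exact hpq.indep (Submodule.mem_span_singleton.mpr ⟨b⁻¹, by
      rw [← hab, smul_smul, inv_mul_cancel₀ hb, one_smul]⟩)
  have hQv : Q v.1 = 0 := by
    have e1 : v.1 = a⁻¹ • (p + (-b) • q) := by
      rw [← hab, neg_smul, add_neg_cancel_right, smul_smul, inv_mul_cancel₀ ha, one_smul]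
    rw [e1, C.smul, C.add, C.smul, hpq.singP, hpq.singQ, map_smul, hpq.perp]
    simp
  have hperp : B q (-a • v.1) = 0 := by rw [map_smul, hqv, smul_zero]
  have hqsep : q ∉ Submodule.span F {v.1, -a • v.1} := fun hm => by
    obtain ⟨s, t, hst⟩ := Submodule.mem_span_pair.mp hm
    rw [smul_smul, ← add_smul] at hst
    have hs0 : s + t * -a ≠ 0 := fun h0 => hq0 (by rw [← hst, h0, zero_smul])
    refine hpq.indep (Submodule.mem_span_singleton.mpr ⟨(a / (s + t * -a) + b)⁻¹, ?_⟩)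
    have e2 : p = (a / (s + t * -a) + b) • q := by
      conv_lhs => rw [← hab]
      rw [add_smul]
      congr 1
      rw [← hst, smul_smul, div_mul_cancel₀ _ hs0]
    have hc0 : a / (s + t * -a) + b ≠ 0 := fun h0 => hpq.neP (by rw [e2, h0, zero_smul])
    rw [e2, smul_smul, inv_mul_cancel₀ hc0, one_smul]
  refine Eq.trans (congrArg _ (Subtype.ext ?_))
    (lam_torus C h7 H ρ hq hv hq' (Submodule.smul_mem _ (-a) v.2) hpq.singQ hperp hqv
      (by rw [map_smul, LinearMap.smul_apply, C.self_zero hQv, smul_zero]) hqsep)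
  show sGL Q B p q = sGL Q B q (-a • v.1)
  have e3 := TS.exists_smul_left C hpq.singP hpq.singQ hpq.perp (1 : F)
  rw [one_smul, neg_one_smul] at e3
  rw [e3, show -p = -a • v.1 + (-b) • q by rw [← hab]; module]
  exact sGL_add_self C hpq.singQ hperp _

include C in
/-- Two vectors perpendicular to a totally singular line and a fixed vector, but not to each other. -/
theorem exists_noncommuting {r : ℕ} {ε : ℤ} (hT : IsT Q (X B e f) r ε) (hnd : NDeg B (X B e f)) {p q v : ι → F}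
    (hp : p ∈ X B e f) (hq : q ∈ X B e f) (hv : v ∈ X B e f) (hpq : TS Q B p q) (hpv : B p v = 0)
    (hqv : B q v = 0) (hr : 4 ≤ r ∨ (r = 3 ∧ ε = -1 ∧ Q v = 0)) :
    ∃ a ∈ X B e f, ∃ b ∈ X B e f, B p a = 0 ∧ B q a = 0 ∧ B v a = 0 ∧
      B p b = 0 ∧ B q b = 0 ∧ B v b = 0 ∧ B b a ≠ 0 := by
  by_contra hne
  push Not at hne
  set U := X B e f with hU
  set A := U ⊓ LinearMap.ker (B p) ⊓ LinearMap.ker (B q) ⊓ LinearMap.ker (B v) with hA
  have hAmem : ∀ {x}, x ∈ A ↔ x ∈ U ∧ B p x = 0 ∧ B q x = 0 ∧ B v x = 0 := fun {x} => by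
    simp [hA, and_assoc]
  set S := Submodule.span F (Set.range ![p, q, v]) with hS
  have hle : A ≤ S := by
    intro x hx
    obtain ⟨hxU, h1, h2, h3⟩ := hAmem.mp hx
    let φ : (ι → F) → Module.Dual F U := fun y => (B y).comp U.subtype
    have hker : ⨅ i, LinearMap.ker (![φ p, φ q, φ v] i) ≤ LinearMap.ker (φ x) := by
      intro y hy
      rw [Submodule.mem_iInf] at hy
      have e1 : B p y.1 = 0 := hy 0
      have e2 : B q y.1 = 0 := hy 1
      have e3 : B v y.1 = 0 := hy 2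
      exact hne y.1 y.2 x hxU e1 e2 e3 h1 h2 h3
    have hm := mem_span_of_iInf_ker_le_ker hker
    rw [Submodule.mem_span_range_iff_exists_fun] at hm
    obtain ⟨c, hc⟩ := hm
    simp only [Fin.sum_univ_three, Matrix.cons_val_zero, Matrix.cons_val_one, Matrix.cons_val] at hc
    have h0 : x - (c 0 • p + c 1 • q + c 2 • v) = 0 := hnd _
      (U.sub_mem hxU (U.add_mem (U.add_mem (U.smul_mem _ hp) (U.smul_mem _ hq)) (U.smul_mem _ hv)))
      fun y hy => by
        have := LinearMap.congr_fun hc ⟨y, hy⟩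
        simp only [φ, LinearMap.add_apply, LinearMap.smul_apply, LinearMap.comp_apply,
          Submodule.subtype_apply, smul_eq_mul] at this
        simp only [map_sub, map_add, map_smul, LinearMap.sub_apply, LinearMap.add_apply,
          LinearMap.smul_apply, smul_eq_mul]
        linear_combination -this
    rw [sub_eq_zero] at h0
    rw [h0, hS, Submodule.mem_span_range_iff_exists_fun]
    exact ⟨c, by simp [Fin.sum_univ_three]⟩
  have hdA : 2 * r ≤ finrank F A + 3 := by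
    have h1 := finrank_inf_ker_ge C U p
    have h2 := finrank_inf_ker_ge C (U ⊓ LinearMap.ker (B p)) q
    have h3 := finrank_inf_ker_ge C (U ⊓ LinearMap.ker (B p) ⊓ LinearMap.ker (B q)) v
    rw [← hA] at h3
    have := hT.1
    omega
  have hdS : finrank F S ≤ 3 := by
    have := finrank_range_le_card (R := F) ![p, q, v]
    simpa [hS, Set.finrank] using this
  have h1 := Submodule.finrank_mono hle
  rcases hr with hr | ⟨rfl, rfl, hQv⟩
  · omega
  have h3 : 3 ≤ finrank F S := by omega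
  have hSU : S ≤ U := Submodule.span_le.mpr (by
    rintro _ ⟨i, rfl⟩
    fin_cases i
    · exact hp
    · exact hq
    · exact hv)
  have hsing : ∀ x ∈ S, Q x = 0 := fun x hx => by
    rw [hS, Submodule.mem_span_range_iff_exists_fun] at hx
    obtain ⟨c, rfl⟩ := hx
    simp only [Fin.sum_univ_three, Matrix.cons_val_zero, Matrix.cons_val_one, Matrix.cons_val]
    simp [C.add, C.smul, hpq.singP, hpq.singQ, hQv, hpq.perp, hpv, hqv]
  have h4 := level_zero_six C hnd hT.1 hSU hsing h3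
  have h5 := hT.level_eq (r := 2) (0 : F)
  rw [del_zero] at h5
  have h6 : (2 : ℤ) ≤ Nat.card F := two_le_qq (F := F)
  zify at h4
  rw [h5] at h4
  have h7 := mul_le_mul_of_nonneg_left h6 (sq_nonneg (Nat.card F : ℤ))
  have h8 : 0 < (Nat.card F : ℤ) ^ 2 := by positivity
  ring_nf at h4 h7
  linarith

include C in
theorem fixes_sGL {p a : ι → F} (hp : p ∈ X B e f) (ha : a ∈ X B e f) (hQp : Q p = 0) (hpa : B p a = 0)
    {v : ι → F} (hpv : B p v = 0) (hav : B a v = 0) :
    Fixes e f v (⟨sGL Q B p a, sGL_mem_root trivial trivial hQp hpa⟩ : ↥(Root Q B ⊤)) := by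
  refine ⟨?_, ?_, ?_⟩ <;> show (sGL Q B p a).val *ᵥ _ = _ <;> rw [sGL_act C hQp hpa]
  · rw [C.symm p e, C.symm a e, X.left hp, X.left ha]; simp
  · rw [C.symm p f, C.symm a f, X.right hp, X.right ha]; simp
  · rw [hpv, hav]; simp

/-- The scalar of a totally singular line is one where it is a commutator. -/
theorem lam_line_comm {r : ℕ} {ε : ℤ} (hT : IsT Q (X B e f) r ε) {v : X B e f} (hv : mult C H ρ v = 1)
    {p q : ι → F} (hp : p ∈ X B e f) (hq : q ∈ X B e f) (hpq : TS Q B p q) (hpv : B p v.1 = 0)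
    (hqv : B q v.1 = 0) (hr : 4 ≤ r ∨ (r = 3 ∧ ε = -1 ∧ Q v.1 = 0)) :
    lam C H ρ v ⟨sGL Q B p q, sGL_mem_root trivial trivial hpq.singP hpq.perp⟩ = 1 := by
  obtain ⟨a, ha, b, hb, hpa, hqa, hva, hpb, hqb, hvb, hba⟩ :=
    exists_noncommuting C hT (X_ndeg C H) hp hq v.2 hpq hpv hqv hr
  set a' := (-(B b a)⁻¹) • a with ha'
  have hpa' : B p a' = 0 := by rw [ha', map_smul, hpa, smul_zero]
  have hqa' : B q a' = 0 := by rw [ha', map_smul, hqa, smul_zero]
  have hav' : B a' v.1 = 0 := by rw [C.symm, ha', map_smul, hva, smul_zero]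
  have f1 := fixes_sGL C hp (Submodule.smul_mem _ _ ha : a' ∈ X B e f) hpq.singP hpa' hpv hav'
  have f2 := fixes_sGL C hq hb hpq.singQ hqb hqv (show B b v.1 = 0 by rw [C.symm]; exact hvb)
  set g1 : ↥(Root Q B ⊤) := ⟨sGL Q B p a', sGL_mem_root trivial trivial hpq.singP hpa'⟩
  set g2 : ↥(Root Q B ⊤) := ⟨sGL Q B q b, sGL_mem_root trivial trivial hpq.singQ hqb⟩
  have h : lam C H ρ v (g2 * g1 * g2⁻¹ * g1⁻¹) = 1 := by
    rw [lam_mul C H ρ hv _ f1.inv, lam_conj C H ρ hv f2 f1, ← lam_mul C H ρ hv _ f1.inv, mul_inv_cancel,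
      lam_one C H ρ hv]
  refine Eq.trans (congrArg _ (Subtype.ext ?_)) h
  show sGL Q B p q = ⁅sGL Q B q b, sGL Q B p a'⁆
  rw [comm_sGL C hpq.singP hpq.singQ hpq.perp hpa' hqa' hpb hqb, ha', map_smul, smul_eq_mul, neg_mul,
    inv_mul_cancel₀ hba, neg_neg, one_smul]

end Cfsg.Lib.Linear.OrthDeg
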