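import Cfsg.Agent.Lib.Linear.OrthDegree.MinusBase

/-!
# No five-dimensional representation of `Ω⁻` in dimension six over two elements is stable under a reflection
-/

set_option autoImplicit false

namespace Cfsg.Lib.Linear.OrthDeg

open Module Cfsg.Lib.Linear.Orth Cfsg.Lib.Linear.MinIndexOrth
open scoped Matrix Classical

variable {ι : Type} [Fintype ι] [DecidableEq ι] {F : Type*} [Field F] [Fintype F]
  {Q : (ι → F) → F} {B : LinearMap.BilinForm F (ι → F)}

theorem eq_zero_or_one (hq : Nat.card F = 2) (x : F) : x = 0 ∨ x = 1 := by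
  rw [Nat.card_eq_fintype_card] at hq
  by_contra h
  push Not at h
  have h1 : ({0, 1, x} : Finset F).card = 3 :=
    Finset.card_eq_three.mpr ⟨0, 1, x, zero_ne_one, h.1.symm, h.2.symm, rfl⟩
  have := Finset.card_le_univ ({0, 1, x} : Finset F)
  omega

theorem two_eq_zero (hq : Nat.card F = 2) : (2 : F) = 0 := by
  rcases eq_zero_or_one hq (2 : F) with h | h
  · exact h
  · exact absurd (show (1 : F) = 0 by linear_combination h) one_ne_zero

theorem charP_two (hq : Nat.card F = 2) : CharP F 2 :=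
  CharTwo.of_one_ne_zero_of_two_eq_zero one_ne_zero (two_eq_zero hq)

theorem psi_one (hq : Nat.card F = 2) : psi F (1 : F) = -1 := by
  have h1 : psi F (1 : F) * psi F (1 : F) = 1 := by
    rw [← AddChar.map_add_eq_mul, show (1 : F) + 1 = 0 by rw [one_add_one_eq_two]; exact two_eq_zero hq,
      AddChar.map_zero_eq_one]
  refine (mul_self_eq_one_iff.mp h1).resolve_left fun h => psi_ne_one (F := F) (DFunLike.ext _ _ fun x => ?_)
  rcases eq_zero_or_one hq x with rfl | rfl
  · simp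
  · simpa using h

theorem ofNat_two (hq : Nat.card F = 2) (n : ℕ) [n.AtLeastTwo] :
    (OfNat.ofNat n : F) = ((n % 2 : ℕ) : F) := by
  rw [← Nat.cast_ofNat (R := F)]
  show ((n : ℕ) : F) = ((n % 2 : ℕ) : F)
  conv_lhs => rw [← Nat.mod_add_div n 2]
  push_cast
  rw [two_eq_zero hq, zero_mul, add_zero]

/-- A hyperbolic pair and two vectors spanning its perpendicular in the space of parameters. -/
structure Frame (Q : (ι → F) → F) (B : LinearMap.BilinForm F (ι → F)) (e f vi vj b c : ι → F) : Prop where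
  hyp : Hyp Q B (X B e f) vi vj
  memB : b ∈ X B e f
  memC : c ∈ X B e f
  ib : B vi b = 0
  jb : B vj b = 0
  ic : B vi c = 0
  jc : B vj c = 0
  valB : Q b = 1
  valC : Q c = 1
  bc : B b c = 1

section

variable (C : Space Q B) (h5 : 5 ≤ Fintype.card ι) (hq : Nat.card F = 2)

include C hq

theorem rGL_act_two {b : ι → F} (hb : Q b = 1) (x : ι → F) : (rGL Q b).val *ᵥ x = x + B b x • b := by
  haveI := charP_two hq
  rw [rGL_act C (by rw [hb]; exact one_ne_zero), hb, inv_one, one_mul, sub_eq_add_neg, ← neg_smul,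
    CharTwo.neg_eq]

theorem self_two (x : ι → F) : B x x = 0 := by rw [C.self, two_eq_zero hq, zero_mul]

theorem vec_add_self (x : ι → F) : x + x = 0 := by
  rw [← two_smul F, two_eq_zero hq, zero_smul]

variable {e f : ι → F} (H : Hyp Q B ⊤ e f) {vi vj b c : ι → F} (fr : Frame Q B e f vi vj b c)

include fr

theorem Frame.g3_act (x : ι → F) :
    (rGL Q b * rGL Q c).val *ᵥ x = x + B c x • c + (B b x + B c x) • b := by
  rw [mul_act, rGL_act_two C hq fr.valC, rGL_act_two C hq fr.valB]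
  simp [fr.bc, map_add, map_smul]

theorem Frame.g3_cube : (rGL Q b * rGL Q c) * (rGL Q b * rGL Q c) * (rGL Q b * rGL Q c) = 1 := by
  haveI := charP_two hq
  refine gl_ext fun x => ?_
  simp only [mul_act (rGL Q b * rGL Q c * (rGL Q b * rGL Q c)), mul_act (rGL Q b * rGL Q c) (rGL Q b * rGL Q c),
    fr.g3_act C hq, Units.val_one, Matrix.one_mulVec, map_add, map_smul, LinearMap.add_apply, smul_eq_mul,
    self_two C hq, fr.bc, C.symm c b, mul_zero, mul_one, add_zero]
  match_scalars <;> ring_nf <;> simp [ofNat_two hq]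

/-- The five singular vectors. -/
theorem Frame.kmem : vi + vj + b ∈ X B e f ∧ vi + vj + c ∈ X B e f ∧ vi + vj + (b + c) ∈ X B e f :=
  ⟨Submodule.add_mem _ (Submodule.add_mem _ fr.hyp.memE fr.hyp.memF) fr.memB,
    Submodule.add_mem _ (Submodule.add_mem _ fr.hyp.memE fr.hyp.memF) fr.memC,
    Submodule.add_mem _ (Submodule.add_mem _ fr.hyp.memE fr.hyp.memF) (Submodule.add_mem _ fr.memB fr.memC)⟩

theorem Frame.valA : Q (vi + vj) = 1 := by
  rw [C.add, fr.hyp.singE, fr.hyp.singF, fr.hyp.pair]; simp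

theorem Frame.ksing : Q (vi + vj + b) = 0 ∧ Q (vi + vj + c) = 0 ∧ Q (vi + vj + (b + c)) = 0 := by
  have h2 := two_eq_zero hq
  refine ⟨?_, ?_, ?_⟩ <;>
  · rw [C.add, fr.valA C hq]
    simp [C.add, fr.valB, fr.valC, fr.bc, fr.ib, fr.jb, fr.ic, fr.jc, one_add_one_eq_two, h2]

/-- The frame at the third singular vector. -/
theorem Frame.next : Frame Q B e f (vi + vj + b) vi b (c + vi) := by
  have h2 := two_eq_zero hq
  refine ⟨⟨(fr.kmem C hq).1, fr.hyp.memE, (fr.ksing C hq).1, fr.hyp.singE, ?_⟩, fr.memB,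
    Submodule.add_mem _ fr.memC fr.hyp.memE, ?_, fr.ib, ?_, ?_, fr.valB, ?_, ?_⟩
  · simp [self_two C hq, C.symm vj vi, fr.hyp.pair, C.symm b vi, fr.ib]
  · simp [fr.ib, fr.jb, self_two C hq]
  · simp [fr.ic, fr.jc, fr.bc, self_two C hq, C.symm vj vi, fr.hyp.pair, C.symm b vi, fr.ib,
      one_add_one_eq_two, h2]
  · simp [fr.ic, self_two C hq]
  · rw [C.add, fr.valC, fr.hyp.singE, C.symm c vi, fr.ic]; simp
  · simp [fr.bc, C.symm b vi, fr.ib]

end

/-- The hypothesis of stability under a reflection, on the elements where it is used. -/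
def Stable (Q : (ι → F) → F) (B : LinearMap.BilinForm F (ι → F)) {V : Type*} [AddCommGroup V] [Module ℂ V]
    [FiniteDimensional ℂ V] (ρ : Representation ℂ ↥(Root Q B ⊤) V) : Prop :=
  ∀ e f vi vj b c : ι → F, Hyp Q B ⊤ e f → Frame Q B e f vi vj b c → ∀ h h' : ↥(Root Q B ⊤),
    (h : GL ι F) = sGL Q B e vj * (rGL Q b * rGL Q c) →
    (h' : GL ι F) = sGL Q B e vi * (rGL Q b * rGL Q c) → ρ.character h = ρ.character h'

set_option maxHeartbeats 1000000 in
/-- The scalars of the elements of order three and two at a singular vector of a frame. -/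
theorem frame_scalars (C : Space Q B) (h5 : 5 ≤ Fintype.card ι) (hq : Nat.card F = 2) {V : Type*}
    [AddCommGroup V] [Module ℂ V] [FiniteDimensional ℂ V] {ρ : Representation ℂ ↥(Root Q B ⊤) V}
    {e f : ι → F} (H : Hyp Q B ⊤ e f) (hTX : IsT Q (X B e f) 2 (-1))
    (hone : ∀ v : X B e f, v ≠ 0 → Q v.1 = 0 → mult C H ρ v = 1)
    (hout : ∀ v : X B e f, v ∉ orb Q B e f (0 : F) → mult C H ρ v = 0) (hst : Stable Q B ρ)
    {vi vj b c : ι → F} (fr : Frame Q B e f vi vj b c) (hi : vi ∈ X B e f) :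
    (∀ h : ↥(Root Q B ⊤), (h : GL ι F) = rGL Q b * rGL Q c → lam C H ρ ⟨vi, hi⟩ h = 1) ∧
      (∀ n : ↥(Root Q B ⊤), (n : GL ι F) = sGL Q B vi b → lam C H ρ ⟨vi, hi⟩ n = 1) := by
  haveI := charP_two hq
  have h2 := two_eq_zero hq
  have hdist : ∀ {v w : X B e f}, B v.1 w.1 = 1 → v ≠ w := fun {v w} h1 h3 => by
    rw [h3, self_two C hq] at h1
    exact zero_ne_one h1
  have hnz : ∀ {v w : X B e f}, B v.1 w.1 = 1 → v ≠ 0 ∧ w ≠ 0 := fun {v w} h1 => by
    constructor <;> rintro rfl <;> simp at h1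
  set v : X B e f := ⟨vi, hi⟩ with hvdef
  set v' : X B e f := ⟨vj, fr.hyp.memF⟩ with hv'def
  have hv : mult C H ρ v = 1 := hone v (hnz (v := v) (w := v') fr.hyp.pair).1 fr.hyp.singE
  have hv' : mult C H ρ v' = 1 := hone v' (hnz (v := v) (w := v') fr.hyp.pair).2 fr.hyp.singF
  set g3 : ↥(Root Q B ⊤) := ⟨rGL Q b * rGL Q c, rGL_mul_rGL_root C h5 (by rw [fr.valB]; exact one_ne_zero)
    (by rw [fr.valB, fr.valC])⟩ with hg3
  have hfixg : ∀ x, B b x = 0 → B c x = 0 → (g3 : GL ι F).val *ᵥ x = x := fun x h1 h3 => by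
    show (rGL Q b * rGL Q c).val *ᵥ x = x
    rw [fr.g3_act C hq, h1, h3]; simp
  have hF3 : ∀ x, B b x = 0 → B c x = 0 → Fixes e f x g3 := fun x h1 h3 =>
    ⟨hfixg e (by rw [C.symm]; exact X.left fr.memB) (by rw [C.symm]; exact X.left fr.memC),
      hfixg f (by rw [C.symm]; exact X.right fr.memB) (by rw [C.symm]; exact X.right fr.memC), hfixg x h1 h3⟩
  have hF3i : Fixes e f vi g3 := hF3 vi (by rw [C.symm]; exact fr.ib) (by rw [C.symm]; exact fr.ic)
  have hF3j : Fixes e f vj g3 := hF3 vj (by rw [C.symm]; exact fr.jb) (by rw [C.symm]; exact fr.jc)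
  have hcube : g3 * g3 * g3 = 1 := Subtype.ext (fr.g3_cube C hq)
  -- the reflection turning the frame over
  have hQa := fr.valA C hq
  set h : ↥(Root Q B ⊤) := ⟨rGL Q (vi + vj) * rGL Q b, rGL_mul_rGL_root C h5 (by rw [hQa]; exact one_ne_zero)
    (by rw [hQa, fr.valB])⟩ with hh
  have haX : vi + vj ∈ X B e f := Submodule.add_mem _ hi fr.hyp.memF
  have hab : B (vi + vj) b = 0 := by simp [fr.ib, fr.jb]
  have hac : B (vi + vj) c = 0 := by simp [fr.ic, fr.jc]
  have hact : ∀ x, (h : GL ι F).val *ᵥ x = x + B b x • b + B (vi + vj) x • (vi + vj) := fun x => by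
    show (rGL Q (vi + vj) * rGL Q b).val *ᵥ x = _
    rw [mul_act, rGL_act_two C hq fr.valB, rGL_act_two C hq hQa, map_add (B (vi + vj)), map_smul (B (vi + vj)),
      hab, smul_zero, add_zero]
  have he : (h : GL ι F).val *ᵥ e = e := by
    rw [hact, C.symm b e, C.symm (vi + vj) e, X.left fr.memB, X.left haX]; simp
  have hf : (h : GL ι F).val *ᵥ f = f := by
    rw [hact, C.symm b f, C.symm (vi + vj) f, X.right fr.memB, X.right haX]; simp
  have hhi : (h : GL ι F).val *ᵥ vi = vj := by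
    rw [hact, C.symm b vi, fr.ib, map_add, LinearMap.add_apply, self_two C hq, C.symm vj vi, fr.hyp.pair,
      zero_smul, add_zero, zero_add, one_smul, ← add_assoc, vec_add_self C hq, zero_add]
  have hconj : (h : GL ι F) * (rGL Q b * rGL Q c) * (h : GL ι F)⁻¹ = rGL Q c * rGL Q b := by
    have hI := root_le_iso C _ h.2
    have hbne : Q b ≠ 0 := by rw [fr.valB]; exact one_ne_zero
    have hcne : Q c ≠ 0 := by rw [fr.valC]; exact one_ne_zero
    have hh_b : (h : GL ι F).val *ᵥ b = b := by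
      rw [hact, self_two C hq, hab]; simp
    have hh_c : (h : GL ι F).val *ᵥ c = (rGL Q b).val *ᵥ c := by
      rw [hact, hac, rGL_act_two C hq fr.valB]; simp
    rw [show (h : GL ι F) * (rGL Q b * rGL Q c) * (h : GL ι F)⁻¹ =
        ((h : GL ι F) * rGL Q b * (h : GL ι F)⁻¹) * ((h : GL ι F) * rGL Q c * (h : GL ι F)⁻¹) by group,
      rGL_conj C hbne hI, rGL_conj C hcne hI, hh_b, hh_c, ← rGL_conj C hcne (rGL_mem C hbne),
      rGL_inv C hbne, ← mul_assoc, ← mul_assoc, rGL_sq C hbne, one_mul]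
  have hinv : (rGL Q b * rGL Q c)⁻¹ = rGL Q c * rGL Q b := by
    have hb0 : Q b ≠ 0 := by rw [fr.valB]; exact one_ne_zero
    have hc0 : Q c ≠ 0 := by rw [fr.valC]; exact one_ne_zero
    rw [mul_inv_rev, rGL_inv C hb0, rGL_inv C hc0]
  have hlam : lam C H ρ v' g3⁻¹ = lam C H ρ v g3 := by
    have e1 : g3⁻¹ = h * g3 * h⁻¹ := Subtype.ext (hinv.trans hconj.symm)
    have e2 : ρ h * wproj C H ρ v = wproj C H ρ v' * ρ h :=
      conj_wproj C H ρ one_ne_zero (by rw [one_smul]; exact he) (by rw [inv_one, one_smul]; exact hf)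
        (by rw [inv_one, one_smul]; exact hhi.symm)
    rw [lam, lam, e1, map_mul ρ, map_mul ρ,
      show ρ h * ρ g3 * ρ h⁻¹ * wproj C H ρ v' = ρ h * ρ g3 * (ρ h⁻¹ * wproj C H ρ v') by rw [mul_assoc],
      show ρ h⁻¹ * wproj C H ρ v' = wproj C H ρ v * ρ h⁻¹ by
        calc ρ h⁻¹ * wproj C H ρ v' = ρ h⁻¹ * (wproj C H ρ v' * ρ h) * ρ h⁻¹ := by
              rw [mul_assoc, mul_assoc, ← map_mul, mul_inv_cancel, map_one, mul_one]
          _ = wproj C H ρ v * ρ h⁻¹ := by rw [← e2, ← mul_assoc, ← map_mul, inv_mul_cancel, map_one, one_mul],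
      ← mul_assoc, mul_assoc (ρ h), LinearMap.trace_mul_cycle, ← map_mul, inv_mul_cancel, map_one, one_mul]
  -- the two elements compared by stability
  have hx : ∀ w : X B e f, Q w.1 = 0 → (qhom C H (Multiplicative.ofAdd w) : GL ι F) = sGL Q B e w.1 :=
    fun w _ => rfl
  have hval : ∀ w : X B e f, ρ.character (qhom C H (Multiplicative.ofAdd w) * g3) =
      psi F (B vi w.1) * lam C H ρ v g3 + psi F (B vj w.1) * lam C H ρ v' g3 := by
    intro w
    rw [character_eq_sum C H ρ]
    have hterm : ∀ u : X B e f, LinearMap.trace ℂ V (ρ (qhom C H (Multiplicative.ofAdd w) * g3) * wproj C H ρ u) =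
        if u = v ∨ u = v' then psi F (B u.1 w.1) * lam C H ρ u g3 else 0 := by
      intro u
      have hmem : (g3 : GL ι F).val *ᵥ u.1 ∈ X B e f :=
        act_mem_X C H (root_le_iso C _ g3.2) one_ne_zero (by rw [one_smul]; exact hF3i.1)
          (by rw [inv_one, one_smul]; exact hF3i.2.1) u.2
      by_cases hu : (g3 : GL ι F).val *ᵥ u.1 = u.1
      · have hcomm : ρ g3 * wproj C H ρ u = wproj C H ρ u * ρ g3 :=
          fixes_comm C H ρ ⟨hF3i.1, hF3i.2.1, hu⟩
        have e3 : ρ (qhom C H (Multiplicative.ofAdd w) * g3) * wproj C H ρ u =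
            psi F (B u.1 w.1) • (ρ g3 * wproj C H ρ u) := by
          rw [map_mul, mul_assoc, hcomm, ← mul_assoc, rho_mul_wproj, smul_mul_assoc, ← hcomm]
        rw [e3, map_smul, smul_eq_mul]
        split_ifs with hu'
        · rfl
        · rw [show wproj C H ρ u = 0 from wproj_eq_zero C H ρ ?_, mul_zero, map_zero, mul_zero]
          refine hout u fun hmem' => hu' ?_
          have hu1 : B b u.1 = 0 ∧ B c u.1 = 0 := by
            have e4 : (rGL Q b * rGL Q c).val *ᵥ u.1 = u.1 := hu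
            rw [fr.g3_act C hq, add_assoc, add_eq_left] at e4
            have e5 := congrArg (B b) e4
            have e6 := congrArg (B c) e4
            simp [self_two C hq, fr.bc, C.symm c b] at e5 e6
            exact ⟨by rw [e5] at e6; simpa using e6, e5⟩
          obtain ⟨hu0, hQu⟩ := mem_orb.mp hmem'
          set r := u.1 - B vj u.1 • vi - B vi u.1 • vj with hr
          have hrX : r ∈ perp2 B (X B e f) vi vj := fr.hyp.proj C u.2
          have hrb : B b r = 0 := by simp [hr, hu1.1, C.symm b vi, C.symm b vj, fr.ib, fr.jb]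
          have hrc : B c r = 0 := by simp [hr, hu1.2, C.symm c vi, C.symm c vj, fr.ic, fr.jc]
          have hr0 : r = 0 := by
            have hTP' := hTX.down C fr.hyp
            have hspan : perp2 B (X B e f) vi vj = Submodule.span F {b, c} := by
              refine (Submodule.eq_of_le_of_finrank_eq (Submodule.span_le.mpr ?_) ?_).symm
              · rintro z (rfl | rfl)
                · exact mem_perp2.mpr ⟨fr.memB, fr.ib, fr.jb⟩
                · exact mem_perp2.mpr ⟨fr.memC, fr.ic, fr.jc⟩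
              · have hli : LinearIndependent F ![b, c] := by
                  rw [LinearIndependent.pair_iff]
                  intro s t hst
                  have a1 := congrArg (B b) hst
                  have a2 := congrArg (B c) hst
                  simp [self_two C hq, fr.bc, C.symm c b] at a1 a2
                  exact ⟨a2, a1⟩
                have := finrank_span_eq_card hli
                rw [Matrix.range_cons_cons_empty, Fintype.card_fin] at this
                rw [hTP'.1]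
                exact this
            obtain ⟨s, t, hst⟩ := Submodule.mem_span_pair.mp (hspan ▸ hrX)
            rw [← hst] at hrb hrc ⊢
            simp [self_two C hq, fr.bc, C.symm c b] at hrb hrc
            rw [hrb, hrc]; simp
          have hu2 : u.1 = B vj u.1 • vi + B vi u.1 • vj := by
            rw [hr, sub_sub, sub_eq_zero] at hr0
            exact hr0
          rcases eq_zero_or_one hq (B vj u.1) with e7 | e7 <;>
            rcases eq_zero_or_one hq (B vi u.1) with e8 | e8 <;>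
            rw [e7, e8] at hu2 <;> simp at hu2
          · exact absurd hu2 hu0
          · exact Or.inr (Subtype.ext hu2)
          · exact Or.inl (Subtype.ext hu2)
          · exfalso
            rw [hu2, fr.valA C hq] at hQu
            exact one_ne_zero hQu
      · rw [if_neg (fun h' => hu (by
          rcases h' with rfl | rfl
          · exact hF3i.2.2
          · exact hF3j.2.2))]
        set u' : X B e f := ⟨_, hmem⟩ with hu'def
        have hne3 : th B u ≠ th B u' := fun h' =>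
          hu (congrArg Subtype.val ((th_bijective C H).1 h')).symm
        refine trace_moved _ ?_ hne3
        have e9 : ρ g3 * wproj C H ρ u = wproj C H ρ u' * ρ g3 :=
          conj_wproj C H ρ one_ne_zero (by rw [one_smul]; exact hF3i.1)
            (by rw [inv_one, one_smul]; exact hF3i.2.1) (by rw [inv_one, one_smul])
        show ρ (qhom C H (Multiplicative.ofAdd w) * g3) * wproj C H ρ u =
          wproj C H ρ u' * ρ (qhom C H (Multiplicative.ofAdd w) * g3)
        rw [map_mul, mul_assoc, e9, ← mul_assoc, rho_mul_wproj, ← mul_assoc,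
          show wproj C H ρ u' * ρ (qhom C H (Multiplicative.ofAdd w)) = psi F (B u'.1 w.1) • wproj C H ρ u' from
            Cfsg.Lib.Linear.MinDegree.proj_mul_R (ρ.comp (qhom C H)) _ w]
    rw [Finset.sum_congr rfl fun u _ => hterm u, ← Finset.sum_filter,
      show (Finset.univ.filter fun u : X B e f => u = v ∨ u = v') = {v, v'} by ext u; simp,
      Finset.sum_pair (hdist (v := v) (w := v') fr.hyp.pair)]
  have hst' := hst e f vi vj b c H fr (qhom C H (Multiplicative.ofAdd v') * g3)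
    (qhom C H (Multiplicative.ofAdd v) * g3) rfl rfl
  rw [hval, hval] at hst'
  simp only [hvdef, hv'def, self_two C hq, fr.hyp.pair, C.symm vj vi, psi_one hq, AddChar.map_zero_eq_one] at hst'
  set L := lam C H ρ v g3 with hL
  set L' := lam C H ρ v' g3 with hL'
  have hLL : L' = L := by
    linear_combination hst' / 2
  have hinv' : L' * L = 1 := by
    rw [← hlam, hL', ← lam_mul C H ρ hv' _ (Fixes.inv hF3j), mul_inv_cancel, lam_one C H ρ hv']
  have hcube' : L * L * L = 1 := by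
    rw [hL, ← lam_mul C H ρ hv _ hF3i, ← lam_mul C H ρ hv _ hF3i, hcube, lam_one C H ρ hv]
  have hL1 : L = 1 := by
    rw [hLL] at hinv'
    rwa [hinv', one_mul] at hcube'
  have hg3eq : ∀ g : ↥(Root Q B ⊤), (g : GL ι F) = rGL Q b * rGL Q c → g = g3 := fun g hg => Subtype.ext hg
  refine ⟨fun g hg => by rw [hg3eq g hg]; exact hL1, fun n hn => ?_⟩
  have hcb' : B vi (b + c) = 0 := by simp [fr.ib, fr.ic]
  have Fn : ∀ w ∈ X B e f, B vi w = 0 → ∀ g : ↥(Root Q B ⊤), (g : GL ι F) = sGL Q B vi w → Fixes e f vi g := by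
    intro w hw hiw g hg
    have h1 := fixes_sGL C hi hw fr.hyp.singE hiw (v := vi) (self_two C hq vi) (by rw [C.symm]; exact hiw)
    have e1 : g = ⟨sGL Q B vi w, sGL_mem_root trivial trivial fr.hyp.singE hiw⟩ := Subtype.ext hg
    rw [e1]; exact h1
  obtain ⟨n1, hn1⟩ : ∃ n1 : ↥(Root Q B ⊤), n1 = g3 * n * g3⁻¹ := ⟨_, rfl⟩
  have hgI := root_le_iso C _ g3.2
  have hg3b : (g3 : GL ι F).val *ᵥ b = c := by
    show (rGL Q b * rGL Q c).val *ᵥ b = c
    rw [fr.g3_act C hq, C.symm c b, fr.bc, self_two C hq]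
    simp only [one_smul, zero_add]
    rw [add_comm b c, add_assoc, vec_add_self C hq, add_zero]
  have hg3c : (g3 : GL ι F).val *ᵥ c = b + c := by
    show (rGL Q b * rGL Q c).val *ᵥ c = b + c
    rw [fr.g3_act C hq, fr.bc, self_two C hq]
    simp [add_comm]
  have en1 : (n1 : GL ι F) = sGL Q B vi c := by
    rw [hn1, Subgroup.coe_mul, Subgroup.coe_mul, Subgroup.coe_inv, hn, sGL_conj C fr.hyp.singE fr.ib hgI,
      hF3i.2.2, hg3b]
  have hprod : g3 * n1 * g3⁻¹ = n * n1 := Subtype.ext (by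
    rw [Subgroup.coe_mul, Subgroup.coe_mul, Subgroup.coe_mul, Subgroup.coe_inv, en1, hn,
      sGL_conj C fr.hyp.singE fr.ic hgI, hF3i.2.2, hg3c, sGL_mul C fr.hyp.singE fr.ib fr.ic])
  have f1 := Fn b fr.memB fr.ib n hn
  have f2 := Fn c fr.memC fr.ic n1 en1
  have h1 := lam_conj C H ρ hv hF3i f2
  rw [hprod, lam_mul C H ρ hv _ f2, show lam C H ρ v n1 = lam C H ρ v n by rw [hn1]; exact lam_conj C H ρ hv hF3i f1] at h1
  have hne0 : lam C H ρ v n ≠ 0 := fun h0 => by
    have h3 := lam_mul C H ρ hv n⁻¹ f1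
    rw [inv_mul_cancel, h0, mul_zero, lam_one C H ρ hv] at h3
    exact one_ne_zero h3
  exact mul_right_cancel₀ hne0 (by rw [one_mul]; exact h1)

set_option maxHeartbeats 2000000 in
/-- There is no such representation. -/
theorem six_contra (C : Space Q B) (hd : Fintype.card ι = 6) (hq : Nat.card F = 2)
    (hT : IsT Q (⊤ : Submodule F (ι → F)) 3 (-1)) {V : Type*} [AddCommGroup V] [Module ℂ V]
    [FiniteDimensional ℂ V] (hV : finrank ℂ V = 5) (ρ : Representation ℂ ↥(Root Q B ⊤) V)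
    (hne : ∃ g, ρ g ≠ 1) (hst : Stable Q B ρ) : False := by
  haveI := charP_two hq
  have h5 : 5 ≤ Fintype.card ι := by omega
  have h2 := two_eq_zero hq
  obtain ⟨e, f, H⟩ := exists_hyp' C C.ndeg_top (by rw [hT.1]; norm_num)
  have hTX : IsT Q (X B e f) 2 (-1) := hT.down C H
  obtain ⟨vi, vj, Hij⟩ := exists_hyp' C (X_ndeg C H) (by rw [hTX.1]; norm_num)
  have hTP := hTX.down C Hij
  obtain ⟨b, hb, hQb⟩ := exists_value C H hTX Hij (one_ne_zero (α := F))
  obtain ⟨c, hc, hQc, hbc⟩ : ∃ c ∈ perp2 B (X B e f) vi vj, Q c = 1 ∧ c ≠ b := by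
    by_contra hne'
    push Not at hne'
    have h1 : level Q (perp2 B (X B e f) vi vj) 1 ≤ 1 :=
      Finite.card_le_one_iff_subsingleton.mpr ⟨fun x y => Subtype.ext
        ((hne' _ x.2.1 x.2.2).trans (hne' _ y.2.1 y.2.2).symm)⟩
    have h3 := hTP.level_eq (r := 0) (1 : F)
    rw [del_ne one_ne_zero, hq] at h3
    have h4 : (level Q (perp2 B (X B e f) vi vj) 1 : ℤ) ≤ 1 := by exact_mod_cast h1
    rw [h3] at h4
    norm_num at h4
  obtain ⟨hbX, hib, hjb⟩ := mem_perp2.mp hb
  obtain ⟨hcX, hic, hjc⟩ := mem_perp2.mp hc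
  have hBbc : B b c = 1 := by
    refine (eq_zero_or_one hq _).resolve_left fun h0 => hbc ?_
    have hsing : Q (b + c) = 0 := by rw [C.add, hQb, hQc, h0, add_zero, one_add_one_eq_two, h2]
    have h3 := hTP.level_eq (r := 0) (0 : F)
    rw [del_zero, hq] at h3
    have h4 : level Q (perp2 B (X B e f) vi vj) 0 = 1 := by
      have : (level Q (perp2 B (X B e f) vi vj) 0 : ℤ) = 1 := by rw [h3]; norm_num
      exact_mod_cast this
    obtain ⟨⟨hs⟩, -⟩ := Nat.card_eq_one_iff_unique.mp h4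
    have h5' : b + c = 0 := congrArg Subtype.val (hs ⟨_, Submodule.add_mem _ hb hc, hsing⟩ ⟨0, zero_mem _, C.zero⟩)
    rw [eq_neg_of_add_eq_zero_right h5', ← neg_one_smul F b, CharTwo.neg_eq, one_smul]
  have fr : Frame Q B e f vi vj b c := ⟨Hij, hbX, hcX, hib, hjb, hic, hjc, hQb, hQc, hBbc⟩
  -- the weights
  have hcardO : ∀ t : F, ((orb Q B e f t).card : ℤ) = if t = 0 then 5 else 10 := fun t => by
    rw [card_orb C, hTX.level_eq (r := 1), hq]
    by_cases ht : t = 0
    · rw [if_pos ht, ht, del_zero]; norm_num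
    · rw [if_neg ht, del_ne ht]; norm_num
  obtain ⟨w₀, hw₀, hm₀⟩ := exists_weight C H ρ h5 hne
  have hmult : ∀ v v' : X B e f, v ≠ 0 → v' ≠ 0 → Q v.1 = Q v'.1 → mult C H ρ v' = mult C H ρ v := by
    intro v v' hv hv' hQ
    obtain ⟨g, hg, g1, g2, g3⟩ := moves_all C H h5 hTX v.2 (fun h => hv (Subtype.ext h)) v'.2
      (fun h => hv' (Subtype.ext h)) hQ
    exact mult_act C H ρ (g := ⟨g, hg⟩) (c := 1) one_ne_zero (by rw [one_smul]; exact g1)
      (by rw [inv_one, one_smul]; exact g2) (by rw [inv_one, one_smul, g3])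
  have hsum : ∑ v ∈ orb Q B e f (Q w₀.1), mult C H ρ v ≤ 5 := by
    rw [← hV, ← sum_mult C H ρ]
    exact Finset.sum_le_sum_of_subset (Finset.subset_univ _)
  rw [Finset.sum_congr rfl fun v hv => hmult w₀ v hw₀ (mem_orb.mp hv).1 (mem_orb.mp hv).2.symm,
    Finset.sum_const, smul_eq_mul] at hsum
  have hQw : Q w₀.1 = 0 := by
    by_contra hne'
    have h1 := hcardO (Q w₀.1)
    rw [if_neg hne'] at h1
    have : (orb Q B e f (Q w₀.1)).card = 10 := by exact_mod_cast h1
    rw [this] at hsum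
    omega
  have hO5 : (orb Q B e f (0 : F)).card = 5 := by
    have h1 := hcardO 0
    rw [if_pos rfl] at h1
    exact_mod_cast h1
  have hone : ∀ v : X B e f, v ≠ 0 → Q v.1 = 0 → mult C H ρ v = 1 := fun v hv hQv => by
    rw [hmult w₀ v hw₀ hv (hQw.trans hQv.symm)]
    rw [hQw, hO5] at hsum
    omega
  have hout : ∀ v : X B e f, v ∉ orb Q B e f (0 : F) → mult C H ρ v = 0 := fun v hv => by
    by_contra hm
    have h1 : ∑ w ∈ insert v (orb Q B e f (0 : F)), mult C H ρ w ≤ 5 := by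
      rw [← hV, ← sum_mult C H ρ]
      exact Finset.sum_le_sum_of_subset (Finset.subset_univ _)
    rw [Finset.sum_insert hv, Finset.sum_congr rfl fun w hw => hone w (mem_orb.mp hw).1 (mem_orb.mp hw).2,
      Finset.sum_const, hO5, smul_eq_mul, mul_one] at h1
    omega
  obtain ⟨hkX, hlX, hmX⟩ := fr.kmem C hq
  obtain ⟨hkQ, hlQ, hmQ⟩ := fr.ksing C hq
  set Wi : X B e f := ⟨vi, Hij.memE⟩ with hWi
  set Wj : X B e f := ⟨vj, Hij.memF⟩ with hWj
  set Wk : X B e f := ⟨vi + vj + b, hkX⟩ with hWk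
  set Wl : X B e f := ⟨vi + vj + c, hlX⟩ with hWl
  set Wm : X B e f := ⟨vi + vj + (b + c), hmX⟩ with hWm
  have hji : B vj vi = 1 := Hij.pair' C
  have hbi : B b vi = 0 := by rw [C.symm]; exact hib
  have hbj : B b vj = 0 := by rw [C.symm]; exact hjb
  have hci : B c vi = 0 := by rw [C.symm]; exact hic
  have hcj : B c vj = 0 := by rw [C.symm]; exact hjc
  have hcb : B c b = 1 := by rw [C.symm]; exact hBbc
  have hpair : B vi (vi + vj + b) = 1 ∧ B vi (vi + vj + c) = 1 ∧ B vi (vi + vj + (b + c)) = 1 ∧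
      B vj (vi + vj + b) = 1 ∧ B vj (vi + vj + c) = 1 ∧ B vj (vi + vj + (b + c)) = 1 ∧
      B (vi + vj + b) (vi + vj + c) = 1 ∧ B (vi + vj + b) (vi + vj + (b + c)) = 1 ∧
      B (vi + vj + c) (vi + vj + (b + c)) = 1 := by
    refine ⟨?_, ?_, ?_, ?_, ?_, ?_, ?_, ?_, ?_⟩ <;>
      simp [self_two C hq, Hij.pair, hji, hib, hjb, hic, hjc, hbi, hbj, hci, hcj, hBbc, hcb,
        one_add_one_eq_two, h2]
  obtain ⟨pik, pil, pim, pjk, pjl, pjm, pkl, pkm, plm⟩ := hpair
  have hdist : ∀ {v w : X B e f}, B v.1 w.1 = 1 → v ≠ w := fun {v w} h1 h3 => by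
    rw [h3, self_two C hq] at h1
    exact zero_ne_one h1
  have hnz : ∀ {v w : X B e f}, B v.1 w.1 = 1 → v ≠ 0 ∧ w ≠ 0 := fun {v w} h1 => by
    constructor <;> rintro rfl <;> simp at h1
  have horb : orb Q B e f (0 : F) = {Wi, Wj, Wk, Wl, Wm} := by
    refine (Finset.eq_of_subset_of_card_le ?_ ?_).symm
    · intro v hv
      simp only [Finset.mem_insert, Finset.mem_singleton] at hv
      rcases hv with rfl | rfl | rfl | rfl | rfl
      · exact mem_orb.mpr ⟨(hnz (v := Wi) (w := Wj) Hij.pair).1, Hij.singE⟩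
      · exact mem_orb.mpr ⟨(hnz (v := Wi) (w := Wj) Hij.pair).2, Hij.singF⟩
      · exact mem_orb.mpr ⟨(hnz (v := Wi) (w := Wk) pik).2, hkQ⟩
      · exact mem_orb.mpr ⟨(hnz (v := Wi) (w := Wl) pil).2, hlQ⟩
      · exact mem_orb.mpr ⟨(hnz (v := Wi) (w := Wm) pim).2, hmQ⟩
    · rw [hO5, Finset.card_insert_of_notMem, Finset.card_insert_of_notMem, Finset.card_insert_of_notMem,
        Finset.card_insert_of_notMem, Finset.card_singleton]
      · simpa using hdist (v := Wl) (w := Wm) plm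
      · simpa using ⟨hdist (v := Wk) (w := Wl) pkl, hdist (v := Wk) (w := Wm) pkm⟩
      · simpa using ⟨hdist (v := Wj) (w := Wk) pjk, hdist (v := Wj) (w := Wl) pjl, hdist (v := Wj) (w := Wm) pjm⟩
      · simpa using ⟨hdist (v := Wi) (w := Wj) Hij.pair, hdist (v := Wi) (w := Wk) pik,
          hdist (v := Wi) (w := Wl) pil, hdist (v := Wi) (w := Wm) pim⟩
  have hsum5 : ∀ {M : Type} [AddCommMonoid M] (g : X B e f → M),
      ∑ v ∈ orb Q B e f (0 : F), g v = g Wi + g Wj + g Wk + g Wl + g Wm := fun {M} _ g => by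
    rw [horb, Finset.sum_insert, Finset.sum_insert, Finset.sum_insert, Finset.sum_insert, Finset.sum_singleton]
    · abel
    · simpa using hdist (v := Wl) (w := Wm) plm
    · simpa using ⟨hdist (v := Wk) (w := Wl) pkl, hdist (v := Wk) (w := Wm) pkm⟩
    · simpa using ⟨hdist (v := Wj) (w := Wk) pjk, hdist (v := Wj) (w := Wl) pjl, hdist (v := Wj) (w := Wm) pjm⟩
    · simpa using ⟨hdist (v := Wi) (w := Wj) Hij.pair, hdist (v := Wi) (w := Wk) pik,
        hdist (v := Wi) (w := Wl) pil, hdist (v := Wi) (w := Wm) pim⟩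
  have hsumP : wproj C H ρ Wi + wproj C H ρ Wj + wproj C H ρ Wk + wproj C H ρ Wl + wproj C H ρ Wm = 1 := by
    rw [← sum_wproj C H ρ, ← Finset.sum_subset (Finset.subset_univ (orb Q B e f (0 : F)))
      fun v _ hv => wproj_eq_zero C H ρ (hout v hv)]
    rw [horb, Finset.sum_insert, Finset.sum_insert, Finset.sum_insert, Finset.sum_insert, Finset.sum_singleton]
    · abel
    · simpa using hdist (v := Wl) (w := Wm) plm
    · simpa using ⟨hdist (v := Wk) (w := Wl) pkl, hdist (v := Wk) (w := Wm) pkm⟩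
    · simpa using ⟨hdist (v := Wj) (w := Wk) pjk, hdist (v := Wj) (w := Wl) pjl, hdist (v := Wj) (w := Wm) pjm⟩
    · simpa using ⟨hdist (v := Wi) (w := Wj) Hij.pair, hdist (v := Wi) (w := Wk) pik,
        hdist (v := Wi) (w := Wl) pil, hdist (v := Wi) (w := Wm) pim⟩
  have hchar : ∀ g : ↥(Root Q B ⊤), ρ.character g =
      lam C H ρ Wi g + lam C H ρ Wj g + lam C H ρ Wk g + lam C H ρ Wl g + lam C H ρ Wm g := fun g => by
    rw [character_eq_sum C H ρ, ← Finset.sum_subset (Finset.subset_univ (orb Q B e f (0 : F)))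
      fun v _ hv => by rw [wproj_eq_zero C H ρ (hout v hv), mul_zero, map_zero]]
    exact hsum5 fun v => LinearMap.trace ℂ V (ρ g * wproj C H ρ v)
  have hframe : ∀ {vi vj b c : ι → F} (fr : Frame Q B e f vi vj b c) (hi : vi ∈ X B e f),
      (∀ h : ↥(Root Q B ⊤), (h : GL ι F) = rGL Q b * rGL Q c → lam C H ρ ⟨vi, hi⟩ h = 1) ∧
      (∀ n : ↥(Root Q B ⊤), (n : GL ι F) = sGL Q B vi b → lam C H ρ ⟨vi, hi⟩ n = 1) :=
    fun fr hi => frame_scalars C h5 hq H hTX hone hout hst fr hi
  -- the operators on the five lines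
  set a := vi + vj with ha
  have hQa : Q a = 1 := fr.valA C hq
  have hne' : ∀ {x : ι → F}, Q x = 1 → Q x ≠ 0 := fun {x} h => by rw [h]; exact one_ne_zero
  have haX : a ∈ X B e f := Submodule.add_mem _ Hij.memE Hij.memF
  have hab : B a b = 0 := by simp [ha, hib, hjb]
  have hac : B a c = 0 := by simp [ha, hic, hjc]
  have hai : B a vi = 1 := by simp [ha, self_two C hq, hji]
  have haj : B a vj = 1 := by simp [ha, self_two C hq, Hij.pair]
  have hba : B b a = 0 := by rw [C.symm]; exact hab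
  set g : ↥(Root Q B ⊤) := ⟨rGL Q b * rGL Q c, rGL_mul_rGL_root C h5 (hne' hQb) (by rw [hQb, hQc])⟩ with hg
  set h : ↥(Root Q B ⊤) := ⟨rGL Q a * rGL Q b, rGL_mul_rGL_root C h5 (hne' hQa) (by rw [hQa, hQb])⟩ with hh
  set n : ↥(Root Q B ⊤) := ⟨sGL Q B vi b, sGL_mem_root trivial trivial Hij.singE hib⟩ with hn
  have ag : ∀ x, (g : GL ι F).val *ᵥ x = x + B c x • c + (B b x + B c x) • b := fun x => fr.g3_act C hq x
  have ah : ∀ x, (h : GL ι F).val *ᵥ x = x + B b x • b + B a x • a := fun x => by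
    show (rGL Q a * rGL Q b).val *ᵥ x = _
    rw [mul_act, rGL_act_two C hq hQb, rGL_act_two C hq hQa, map_add (B a), map_smul (B a), hab,
      smul_zero, add_zero]
  have an : ∀ x, (n : GL ι F).val *ᵥ x = x + B vi x • b + (B b x + B vi x) • vi := fun x => by
    show (sGL Q B vi b).val *ᵥ x = _
    rw [sGL_act C Hij.singE hib, hQb, one_mul, sub_eq_add_neg, ← neg_smul, CharTwo.neg_eq]
  have hfix : ∀ x, x = e ∨ x = f → (g : GL ι F).val *ᵥ x = x ∧ (h : GL ι F).val *ᵥ x = x ∧
      (n : GL ι F).val *ᵥ x = x := fun x hx => by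
    have h0 : ∀ z ∈ X B e f, B z x = 0 := fun z hz => by
      rcases hx with rfl | rfl
      · rw [C.symm]; exact X.left hz
      · rw [C.symm]; exact X.right hz
    rw [ag, ah, an, h0 c hcX, h0 b hbX, h0 a haX, h0 vi Hij.memE]
    simp
  have ge := hfix e (Or.inl rfl)
  have gf := hfix f (Or.inr rfl)
  have mv : ∀ {A : ↥(Root Q B ⊤)}, (A : GL ι F).val *ᵥ e = e → (A : GL ι F).val *ᵥ f = f →
      ∀ {v v' : X B e f}, (A : GL ι F).val *ᵥ v.1 = v'.1 → ∀ x : V,
        ρ A (wproj C H ρ v x) = wproj C H ρ v' (ρ A x) := fun {A} hAe hAf {v v'} hv x => by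
    have e1 := conj_wproj C H ρ (g := A) (c := 1) one_ne_zero (by rw [one_smul]; exact hAe)
      (by rw [inv_one, one_smul]; exact hAf) (v := v) (v' := v') (by rw [inv_one, one_smul]; exact hv.symm)
    exact LinearMap.congr_fun e1 x
  have cube := fr.g3_cube C hq
  have e1 : ∀ v : X B e f, v ∈ orb Q B e f (0 : F) → ∀ A : ↥(Root Q B ⊤), Fixes e f v.1 A → lam C H ρ v A = 1 →
      ∀ x, ρ A (wproj C H ρ v x) = wproj C H ρ v x := fun v hv A hA hl x => by
    have hm := hone v (mem_orb.mp hv).1 (mem_orb.mp hv).2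
    have h1 := mul_rank_one (wproj_idem C H ρ v) (by rw [trace_wproj, hm, Nat.cast_one]) (fixes_comm C H ρ hA)
    have h3 : ρ A * wproj C H ρ v = wproj C H ρ v := by
      rw [h1, show LinearMap.trace ℂ V (ρ A * wproj C H ρ v) = 1 from hl, one_smul]
    exact LinearMap.congr_fun h3 x
  have mi : Wi ∈ orb Q B e f (0 : F) := by rw [horb]; simp
  have mj : Wj ∈ orb Q B e f (0 : F) := by rw [horb]; simp
  have mk' : Wk ∈ orb Q B e f (0 : F) := by rw [horb]; simp
  have mone : ∀ {v : X B e f}, v ∈ orb Q B e f (0 : F) → LinearMap.trace ℂ V (wproj C H ρ v) = 1 :=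
    fun {v} hv => by rw [trace_wproj, hone v (mem_orb.mp hv).1 (mem_orb.mp hv).2, Nat.cast_one]
  -- actions on the five vectors
  have gi : (g : GL ι F).val *ᵥ vi = vi := by rw [ag, hci, hbi]; simp
  have gj : (g : GL ι F).val *ᵥ vj = vj := by rw [ag, hcj, hbj]; simp
  have gb : (g : GL ι F).val *ᵥ b = c := by
    rw [ag, hcb, self_two C hq]
    simp only [one_smul, zero_add]
    rw [add_comm b c, add_assoc, vec_add_self C hq, add_zero]
  have gc : (g : GL ι F).val *ᵥ c = b + c := by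
    rw [ag, self_two C hq, hBbc]; simp [add_comm]
  have gk : (g : GL ι F).val *ᵥ Wk.1 = Wl.1 := by
    show (g : GL ι F).val *ᵥ (vi + vj + b) = vi + vj + c
    rw [Matrix.mulVec_add, Matrix.mulVec_add, gi, gj, gb]
  have gl : (g : GL ι F).val *ᵥ Wl.1 = Wm.1 := by
    show (g : GL ι F).val *ᵥ (vi + vj + c) = vi + vj + (b + c)
    rw [Matrix.mulVec_add, Matrix.mulVec_add, gi, gj, gc]
  have hi : (h : GL ι F).val *ᵥ vi = vj := by
    rw [ah, hbi, hai, zero_smul, add_zero, one_smul, ha, ← add_assoc, vec_add_self C hq, zero_add]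
  have hj : (h : GL ι F).val *ᵥ vj = vi := by
    rw [ah, hbj, haj, zero_smul, add_zero, one_smul, ha, add_comm vi vj, ← add_assoc, vec_add_self C hq,
      zero_add]
  have hb' : (h : GL ι F).val *ᵥ b = b := by rw [ah, self_two C hq, hab]; simp
  have hk : (h : GL ι F).val *ᵥ Wk.1 = Wk.1 := by
    show (h : GL ι F).val *ᵥ (vi + vj + b) = vi + vj + b
    rw [Matrix.mulVec_add, Matrix.mulVec_add, hi, hj, hb', add_comm vj vi]
  have ni : (n : GL ι F).val *ᵥ vi = vi := by rw [an, self_two C hq, hbi]; simp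
  have nj : (n : GL ι F).val *ᵥ vj = Wk.1 := by
    show (n : GL ι F).val *ᵥ vj = vi + vj + b
    rw [an, Hij.pair, hbj]; simp; abel
  -- scalars are trivial
  obtain ⟨fr_g, fr_n⟩ := hframe fr Hij.memE
  obtain ⟨-, frk_n⟩ := hframe (fr.next C hq) hkX
  have lgi : lam C H ρ Wi g = 1 := fr_g g rfl
  have lni : lam C H ρ Wi n = 1 := fr_n n rfl
  have hsgl : (h : GL ι F) = sGL Q B (vi + vj + b) b := by
    refine gl_ext fun x => ?_
    rw [ah, sGL_act C hkQ (by simp [hab, hib, hjb, self_two C hq]), hQb, one_mul, sub_eq_add_neg, ← neg_smul,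
      CharTwo.neg_eq]
    simp only [map_add, LinearMap.add_apply]
    match_scalars <;> ring_nf <;> simp [ofNat_two hq]
  have lhk : lam C H ρ Wk h = 1 := frk_n h hsgl
  have Fg_i : Fixes e f vi g := ⟨ge.1, gf.1, gi⟩
  have Fn_i : Fixes e f vi n := ⟨ge.2.2, gf.2.2, ni⟩
  have Fh_k : Fixes e f Wk.1 h := ⟨ge.2.1, gf.2.1, hk⟩
  -- the basis
  obtain ⟨x0, hx0⟩ : ∃ x, wproj C H ρ Wi x ≠ 0 := by
    by_contra hall
    push Not at hall
    have := mone mi
    rw [show wproj C H ρ Wi = 0 from LinearMap.ext hall, map_zero] at this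
    exact zero_ne_one this
  set di := wproj C H ρ Wi x0 with hdi
  set dj := ρ h di with hdj
  set dk := ρ n dj with hdk
  set dl := ρ g dk with hdl
  set dm := ρ g dl with hdm
  have comb : ∀ {A A' : ↥(Root Q B ⊤)} (x : V), ρ A (ρ A' x) = ρ (A * A') x := fun {A A'} x => by
    rw [map_mul]; rfl
  have hsq : h * h = 1 := Subtype.ext (by
    refine gl_ext fun x => ?_
    rw [Subgroup.coe_mul, mul_act, ah ((h : GL ι F).val *ᵥ x), ah x, Subgroup.coe_one, Units.val_one,
      Matrix.one_mulVec]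
    simp only [map_add, map_smul, smul_eq_mul, self_two C hq, hab, hba, mul_zero, add_zero]
    match_scalars <;> ring_nf <;> simp [h2])
  have nsq : n * n = 1 := Subtype.ext (by
    show sGL Q B vi b * sGL Q B vi b = 1
    rw [sGL_mul C Hij.singE hib hib, vec_add_self C hq]
    exact sGL_one C Hij.singE)
  have gcube : g * g * g = 1 := Subtype.ext cube
  have hgh : h * g = g⁻¹ * h := Subtype.ext (by
    show rGL Q a * rGL Q b * (rGL Q b * rGL Q c) = (rGL Q b * rGL Q c)⁻¹ * (rGL Q a * rGL Q b)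
    have hcomm : rGL Q c * rGL Q a = rGL Q a * rGL Q c := by
      have h1 := rGL_conj C (hne' hQc) (rGL_mem C (hne' hQa))
      rw [rGL_fix C (hne' hQa) hac] at h1
      calc rGL Q c * rGL Q a = rGL Q a * rGL Q c * (rGL Q a)⁻¹ * rGL Q a := by rw [h1]
        _ = rGL Q a * rGL Q c := by rw [inv_mul_cancel_right]
    have hcomm' : rGL Q b * rGL Q a = rGL Q a * rGL Q b := by
      have h1 := rGL_conj C (hne' hQb) (rGL_mem C (hne' hQa))
      rw [rGL_fix C (hne' hQa) hab] at h1
      calc rGL Q b * rGL Q a = rGL Q a * rGL Q b * (rGL Q a)⁻¹ * rGL Q a := by rw [h1]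
        _ = rGL Q a * rGL Q b := by rw [inv_mul_cancel_right]
    rw [mul_inv_rev, rGL_inv C (hne' hQb), rGL_inv C (hne' hQc),
      show rGL Q a * rGL Q b * (rGL Q b * rGL Q c) = rGL Q a * (rGL Q b * rGL Q b) * rGL Q c by group,
      rGL_sq C (hne' hQb), mul_one,
      show rGL Q c * rGL Q b * (rGL Q a * rGL Q b) = rGL Q c * (rGL Q b * rGL Q a) * rGL Q b by group,
      hcomm', show rGL Q c * (rGL Q a * rGL Q b) * rGL Q b = rGL Q c * rGL Q a * (rGL Q b * rGL Q b) by group,
      rGL_sq C (hne' hQb), mul_one, hcomm])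
  have hgI := root_le_iso C _ g.2
  obtain ⟨n1, hn1⟩ : ∃ n1 : ↥(Root Q B ⊤), n1 = g * n * g⁻¹ := ⟨_, rfl⟩
  have hng : n * g * n = g * g * n * g⁻¹ := by
    have e2 : g * n1 * g⁻¹ = n * n1 := Subtype.ext (by
      have en1 : (n1 : GL ι F) = sGL Q B vi c := by
        rw [hn1]
        show (g : GL ι F) * sGL Q B vi b * (g : GL ι F)⁻¹ = _
        rw [sGL_conj C Hij.singE hib hgI, gi, gb]
      rw [Subgroup.coe_mul, Subgroup.coe_mul, Subgroup.coe_mul, Subgroup.coe_inv, en1,
        sGL_conj C Hij.singE hic hgI, gi, gc]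
      exact (sGL_mul C Hij.singE hib hic).symm)
    -- `g * n1 * g⁻¹` is the third involution
    have e3 : g * (g * n * g⁻¹) * g⁻¹ = n * (g * n * g⁻¹) := by rw [← hn1]; exact e2
    calc n * g * n = n * (g * n * g⁻¹) * g := by group
      _ = g * (g * n * g⁻¹) * g⁻¹ * g := by rw [e3]
      _ = g * g * n * g⁻¹ := by group
  have gdi : ρ g di = di := e1 Wi mi g Fg_i lgi x0
  have ndi : ρ n di = di := e1 Wi mi n Fn_i lni x0
  have pj : wproj C H ρ Wj dj = dj := by
    rw [hdj, ← mv ge.2.1 gf.2.1 (v := Wi) (v' := Wj) hi, hdi]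
    exact congrArg _ (LinearMap.congr_fun (wproj_idem C H ρ Wi) x0)
  have pk : wproj C H ρ Wk dk = dk := by rw [hdk, ← mv ge.2.2 gf.2.2 (v := Wj) (v' := Wk) nj, pj]
  have hdi' : ρ h dj = di := by rw [hdj, comb, hsq, map_one]; rfl
  have gdj : ρ g dj = dj := by
    rw [hdj, comb]
    have e4 : g * h = h * g⁻¹ := by
      rw [eq_mul_inv_iff_mul_eq, mul_assoc, hgh, ← mul_assoc, mul_inv_cancel, one_mul]
    have e5 : ρ g⁻¹ di = di := by
      conv_lhs => rw [← gdi, comb, inv_mul_cancel, map_one]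
      rfl
    rw [e4, ← comb, e5]
  have hdk' : ρ h dk = dk := by
    conv_lhs => rw [← pk]
    rw [e1 Wk mk' h Fh_k lhk, pk]
  have ndk : ρ n dk = dj := by rw [hdk, comb, nsq, map_one]; rfl
  have gdm : ρ g dm = dk := by rw [hdm, hdl, comb, comb, gcube, map_one]; rfl
  have ginv : g⁻¹ = g * g := inv_eq_of_mul_eq_one_right (by rw [← mul_assoc]; exact gcube)
  have hdl' : ρ h dl = dm := by
    rw [hdl, comb, hgh, ← comb, hdk', ginv, ← comb]
  have hdm' : ρ h dm = dl := by
    rw [← hdl', comb, hsq, map_one]; rfl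
  have ndl : ρ n dl = dm := by
    have e5 : ρ g⁻¹ dj = dj := by
      conv_lhs => rw [← gdj, comb, inv_mul_cancel, map_one]
      rfl
    calc ρ n dl = ρ (n * g * n) dj := by rw [hdl, hdk, map_mul, map_mul]; rfl
      _ = ρ (g * g * n) (ρ g⁻¹ dj) := by rw [hng, map_mul]; rfl
      _ = dm := by rw [e5, hdm, hdl, hdk, map_mul, map_mul]; rfl
  have ndm : ρ n dm = dl := by rw [← ndl, comb, nsq, map_one]; rfl
  set u := di + dj + dk + dl + dm with hu
  have ug : ρ g u = u := by
    rw [hu, map_add, map_add, map_add, map_add, gdi, gdj, show ρ g dk = dl from hdl.symm,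
      show ρ g dl = dm from hdm.symm, gdm]
    abel
  have uh : ρ h u = u := by
    rw [hu, map_add, map_add, map_add, map_add, show ρ h di = dj from hdj.symm, hdi', hdk', hdl', hdm']
    abel
  have un : ρ n u = u := by
    rw [hu, map_add, map_add, map_add, map_add, ndi, show ρ n dj = dk from hdk.symm, ndk, ndl, ndm]
    abel
  have pl : wproj C H ρ Wl dl = dl := by rw [hdl, ← mv ge.1 gf.1 gk, pk]
  have pm : wproj C H ρ Wm dm = dm := by rw [hdm, ← mv ge.1 gf.1 gl, pl]
  have pi' : wproj C H ρ Wi di = di := by rw [hdi]; exact LinearMap.congr_fun (wproj_idem C H ρ Wi) x0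
  have orth : ∀ {v w : X B e f} {d : V}, wproj C H ρ w d = d → v ≠ w → wproj C H ρ v d = 0 := fun {v w d} hd hvw => by
    rw [← hd, ← Module.End.mul_apply, wproj_ortho C H ρ hvw, LinearMap.zero_apply]
  have hPu : wproj C H ρ Wi u = di := by
    rw [hu, map_add, map_add, map_add, map_add, pi', orth pj (hdist (v := Wi) (w := Wj) Hij.pair),
      orth pk (hdist (v := Wi) (w := Wk) pik), orth pl (hdist (v := Wi) (w := Wl) pil),
      orth pm (hdist (v := Wi) (w := Wm) pim)]
    simp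
  -- a fixed vector is a multiple of `u`
  have hfixed : ∀ z : V, ρ g z = z → ρ h z = z → ρ n z = z → ∃ t : ℂ, z = t • u := by
    intro z zg zh zn
    obtain ⟨t, ht⟩ : ∃ t : ℂ, wproj C H ρ Wi z = t • di := by
      have hfin : finrank ℂ (LinearMap.range (wproj C H ρ Wi)) = 1 := hone Wi (mem_orb.mp mi).1 (mem_orb.mp mi).2
      obtain ⟨t, ht⟩ := exists_smul_eq_of_finrank_eq_one hfin
        (x := ⟨di, LinearMap.mem_range_self _ x0⟩) (fun h0 => hx0 (congrArg Subtype.val h0))
        ⟨_, LinearMap.mem_range_self (wproj C H ρ Wi) z⟩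
      exact ⟨t, (congrArg Subtype.val ht).symm⟩
    refine ⟨t, ?_⟩
    have cj : wproj C H ρ Wj z = t • dj := by
      conv_lhs => rw [← zh]
      rw [← mv ge.2.1 gf.2.1 (v := Wi) (v' := Wj) hi, ht, map_smul, hdj]
    have ck : wproj C H ρ Wk z = t • dk := by
      conv_lhs => rw [← zn]
      rw [← mv ge.2.2 gf.2.2 (v := Wj) (v' := Wk) nj, cj, map_smul, hdk]
    have cl : wproj C H ρ Wl z = t • dl := by
      conv_lhs => rw [← zg]
      rw [← mv ge.1 gf.1 gk, ck, map_smul, hdl]
    have cm : wproj C H ρ Wm z = t • dm := by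
      conv_lhs => rw [← zg]
      rw [← mv ge.1 gf.1 gl, cl, map_smul, hdm]
    conv_lhs => rw [show z = (1 : Module.End ℂ V) z from rfl, ← hsumP]
    simp only [LinearMap.add_apply, ht, cj, ck, cl, cm, hu, smul_add]
  -- the element exchanging `e` and `f`
  have hQef : Q (e - f) = 1 := by
    have := Q_sub_smul C H (1 : F)
    rw [one_smul, CharTwo.neg_eq] at this
    exact this
  set w : ↥(Root Q B ⊤) := ⟨rGL Q (e - f) * rGL Q a, rGL_mul_rGL_root C h5 (hne' hQef) (by rw [hQef, hQa])⟩ with hw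
  have hefX : ∀ z ∈ X B e f, B (e - f) z = 0 := fun z hz => by simp [X.left hz, X.right hz]
  have hwX : ∀ z ∈ X B e f, (w : GL ι F).val *ᵥ z = (rGL Q a).val *ᵥ z := fun z hz => by
    show (rGL Q (e - f) * rGL Q a).val *ᵥ z = _
    rw [mul_act, rGL_fix C (hne' hQef)]
    rw [rGL_act_two C hq hQa, map_add, map_smul, hefX z hz, hefX a haX]; simp
  have hae : B a e = 0 := by rw [C.symm]; exact X.left haX
  have haf : B a f = 0 := by rw [C.symm]; exact X.right haX
  have we : (w : GL ι F).val *ᵥ e = f ∧ (w : GL ι F).val *ᵥ f = e := by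
    have h1 := rGL_hyp C H (one_ne_zero (α := F))
    simp only [one_smul, inv_one] at h1
    constructor <;> show (rGL Q (e - f) * rGL Q a).val *ᵥ _ = _ <;> rw [mul_act, rGL_fix C (hne' hQa)]
    · exact h1.1
    · exact hae
    · exact h1.2
    · exact haf
  have hrcomm : rGL Q (e - f) * rGL Q a = rGL Q a * rGL Q (e - f) := by
    have h1 := rGL_conj C (hne' hQa) (rGL_mem C (hne' hQef))
    rw [rGL_fix C (hne' hQef) (hefX a haX)] at h1
    calc rGL Q (e - f) * rGL Q a = rGL Q (e - f) * rGL Q a * (rGL Q (e - f))⁻¹ * rGL Q (e - f) := by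
          rw [inv_mul_cancel_right]
      _ = rGL Q a * rGL Q (e - f) := by rw [h1]
  have wsq : w * w = 1 := Subtype.ext (by
    show rGL Q (e - f) * rGL Q a * (rGL Q (e - f) * rGL Q a) = 1
    conv_lhs => arg 2; rw [hrcomm]
    rw [show rGL Q (e - f) * rGL Q a * (rGL Q a * rGL Q (e - f)) =
      rGL Q (e - f) * (rGL Q a * rGL Q a) * rGL Q (e - f) by group, rGL_sq C (hne' hQa), mul_one,
      rGL_sq C (hne' hQef)])
  have winv : w⁻¹ = w := inv_eq_of_mul_eq_one_right wsq
  have hwI := root_le_iso C _ w.2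
  have rb : (rGL Q a).val *ᵥ b = b := rGL_fix C (hne' hQa) hab
  have rc : (rGL Q a).val *ᵥ c = c := rGL_fix C (hne' hQa) hac
  have ri : (rGL Q a).val *ᵥ vi = vj := by
    rw [rGL_act_two C hq hQa, hai, one_smul, ha, ← add_assoc, vec_add_self C hq, zero_add]
  have rj : (rGL Q a).val *ᵥ vj = vi := by
    rw [rGL_act_two C hq hQa, haj, one_smul, ha, add_comm vi vj, ← add_assoc, vec_add_self C hq, zero_add]
  have wconj_g : w * g * w⁻¹ = g := Subtype.ext (by
    show (w : GL ι F) * (rGL Q b * rGL Q c) * (w : GL ι F)⁻¹ = rGL Q b * rGL Q c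
    rw [show (w : GL ι F) * (rGL Q b * rGL Q c) * (w : GL ι F)⁻¹ =
        ((w : GL ι F) * rGL Q b * (w : GL ι F)⁻¹) * ((w : GL ι F) * rGL Q c * (w : GL ι F)⁻¹) by group,
      rGL_conj C (hne' hQb) hwI, rGL_conj C (hne' hQc) hwI, hwX b hbX, hwX c hcX, rb, rc])
  have wconj_h : w * h * w⁻¹ = h := Subtype.ext (by
    show (w : GL ι F) * (rGL Q a * rGL Q b) * (w : GL ι F)⁻¹ = rGL Q a * rGL Q b
    rw [show (w : GL ι F) * (rGL Q a * rGL Q b) * (w : GL ι F)⁻¹ =
        ((w : GL ι F) * rGL Q a * (w : GL ι F)⁻¹) * ((w : GL ι F) * rGL Q b * (w : GL ι F)⁻¹) by group,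
      rGL_conj C (hne' hQa) hwI, rGL_conj C (hne' hQb) hwI, hwX a haX, hwX b hbX, rb,
      rGL_fix C (hne' hQa) (self_two C hq a)])
  have wconj_n : w * n * w⁻¹ = h * n * h⁻¹ := Subtype.ext (by
    show (w : GL ι F) * sGL Q B vi b * (w : GL ι F)⁻¹ = (h : GL ι F) * sGL Q B vi b * (h : GL ι F)⁻¹
    rw [sGL_conj C Hij.singE hib hwI, sGL_conj C Hij.singE hib (root_le_iso C _ h.2), hwX vi Hij.memE,
      hwX b hbX, ri, rb, hi, hb'])
  have wmove : ∀ {A A' : ↥(Root Q B ⊤)}, w * A * w⁻¹ = A' → ∀ x, ρ A' (ρ w x) = ρ w (ρ A x) :=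
    fun {A A'} hA x => by
      rw [comb, comb, ← hA, inv_mul_cancel_right]
  set T := ρ w with hT'
  have hinv' : ∀ {A : ↥(Root Q B ⊤)} {x : V}, ρ A x = x → ρ A⁻¹ x = x := fun {A x} hA => by
    conv_lhs => rw [← hA]
    rw [comb, inv_mul_cancel, map_one]; rfl
  obtain ⟨α, hα⟩ := hfixed (T u) (by rw [hT', wmove wconj_g, ug]) (by rw [hT', wmove wconj_h, uh]) (by
    have e6 : n = h * (w * n * w⁻¹) * h⁻¹ := by
      rw [wconj_n, show h * (h * n * h⁻¹) * h⁻¹ = (h * h) * n * (h * h)⁻¹ by group, hsq]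
      group
    have e7 : ρ h (T u) = T u := by rw [hT', wmove wconj_h, uh]
    have e8 : ρ (w * n * w⁻¹) (T u) = T u := by rw [hT', wmove rfl, un]
    calc ρ n (T u) = ρ (h * (w * n * w⁻¹) * h⁻¹) (T u) := by rw [← e6]
      _ = ρ h (ρ (w * n * w⁻¹) (ρ h⁻¹ (T u))) := by rw [map_mul ρ (h * (w * n * w⁻¹)), map_mul ρ h]; rfl
      _ = T u := by rw [hinv' e7, e8, e7])
  have hu0 : u ≠ 0 := fun h0 => hx0 (by rw [← hPu, h0, map_zero])
  have hTT : ∀ x, T (T x) = x := fun x => by rw [hT', comb, wsq, map_one]; rfl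
  -- the two projections
  set Pi := wproj C H ρ Wi with hPi
  set Ei := T * wproj C H ρ Wj * T with hEi
  have hTsq : T * T = 1 := LinearMap.ext hTT
  have hEidem : Ei * Ei = Ei := by
    rw [hEi, show T * wproj C H ρ Wj * T * (T * wproj C H ρ Wj * T) =
      T * (wproj C H ρ Wj * (T * T) * wproj C H ρ Wj) * T by simp only [mul_assoc], hTsq, mul_one,
      wproj_idem]
  have hEtr : LinearMap.trace ℂ V Ei = 1 := by
    rw [hEi, LinearMap.trace_mul_cycle, hTsq, one_mul, mone mj]
  have hxeq : ∀ v : X B e f, v = Wi ∨ v = Wj →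
      ρ (qhom C H (Multiplicative.ofAdd v)) = (2 : ℂ) • wproj C H ρ v - 1 := by
    intro v hv
    have hkv : ∀ u' : X B e f, u' ∈ orb Q B e f (0 : F) →
        psi F (B u'.1 v.1) = if u' = v then 1 else -1 := by
      intro u' hu'
      rw [horb] at hu'
      simp only [Finset.mem_insert, Finset.mem_singleton] at hu'
      rcases hv with rfl | rfl <;> rcases hu' with rfl | rfl | rfl | rfl | rfl
      · rw [if_pos rfl, self_two C hq, AddChar.map_zero_eq_one]
      · rw [if_neg (hdist (v := Wj) (w := Wi) hji), show B Wj.1 Wi.1 = 1 from hji, psi_one hq]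
      · rw [if_neg (hdist (v := Wk) (w := Wi) (by rw [C.symm]; exact pik)),
          show B Wk.1 Wi.1 = 1 by rw [C.symm]; exact pik, psi_one hq]
      · rw [if_neg (hdist (v := Wl) (w := Wi) (by rw [C.symm]; exact pil)),
          show B Wl.1 Wi.1 = 1 by rw [C.symm]; exact pil, psi_one hq]
      · rw [if_neg (hdist (v := Wm) (w := Wi) (by rw [C.symm]; exact pim)),
          show B Wm.1 Wi.1 = 1 by rw [C.symm]; exact pim, psi_one hq]
      · rw [if_neg (hdist (v := Wi) (w := Wj) Hij.pair), show B Wi.1 Wj.1 = 1 from Hij.pair, psi_one hq]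
      · rw [if_pos rfl, self_two C hq, AddChar.map_zero_eq_one]
      · rw [if_neg (hdist (v := Wk) (w := Wj) (by rw [C.symm]; exact pjk)),
          show B Wk.1 Wj.1 = 1 by rw [C.symm]; exact pjk, psi_one hq]
      · rw [if_neg (hdist (v := Wl) (w := Wj) (by rw [C.symm]; exact pjl)),
          show B Wl.1 Wj.1 = 1 by rw [C.symm]; exact pjl, psi_one hq]
      · rw [if_neg (hdist (v := Wm) (w := Wj) (by rw [C.symm]; exact pjm)),
          show B Wm.1 Wj.1 = 1 by rw [C.symm]; exact pjm, psi_one hq]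
    have hvmem : v ∈ orb Q B e f (0 : F) := by rcases hv with rfl | rfl <;> assumption
    have hs : ∑ u' ∈ orb Q B e f (0 : F), wproj C H ρ u' = 1 := by
      rw [← sum_wproj C H ρ]
      exact Finset.sum_subset (Finset.subset_univ _) fun v _ hv => wproj_eq_zero C H ρ (hout v hv)
    calc ρ (qhom C H (Multiplicative.ofAdd v))
        = ∑ u' ∈ orb Q B e f (0 : F), ρ (qhom C H (Multiplicative.ofAdd v)) * wproj C H ρ u' := by
          rw [← Finset.mul_sum, hs, mul_one]
      _ = ∑ u' ∈ orb Q B e f (0 : F),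
          ((if u' = v then (2 : ℂ) • wproj C H ρ u' else 0) - wproj C H ρ u') := by
          refine Finset.sum_congr rfl fun u' hu' => ?_
          rw [rho_mul_wproj, hkv u' hu']
          split_ifs <;> module
      _ = (2 : ℂ) • wproj C H ρ v - 1 := by rw [Finset.sum_sub_distrib, Finset.sum_ite_eq', if_pos hvmem, hs]
  set xe : ↥(Root Q B ⊤) := qhom C H (Multiplicative.ofAdd Wi) with hxe
  set xf : ↥(Root Q B ⊤) := w * qhom C H (Multiplicative.ofAdd Wj) * w⁻¹ with hxf
  have hxfv : (xf : GL ι F) = sGL Q B f vi := by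
    show (w : GL ι F) * sGL Q B e vj * (w : GL ι F)⁻¹ = _
    rw [sGL_conj C H.singE (X.left Hij.memF) hwI, we.1, hwX vj Hij.memF, rj]
  have hei : B e vi = 0 := X.left Hij.memE
  have hfi : B f vi = 0 := X.right Hij.memE
  have hcommx : xe * xf = xf * xe := by
    rw [← mul_inv_eq_iff_eq_mul]
    refine Subtype.ext ?_
    rw [Subgroup.coe_mul, Subgroup.coe_mul, Subgroup.coe_inv, hxfv]
    have hxeI := root_le_iso C _ xe.2
    rw [sGL_conj C H.singF hfi hxeI]
    have a1 : (xe : GL ι F).val *ᵥ f = f + vi := by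
      show (sGL Q B e vi).val *ᵥ f = _
      rw [TS.act C H.singE Hij.singE hei, H.pair, C.symm vi f, hfi]; simp
    have a2 : (xe : GL ι F).val *ᵥ vi = vi := by
      show (sGL Q B e vi).val *ᵥ vi = _
      rw [TS.act C H.singE Hij.singE hei, hei, self_two C hq]; simp
    rw [a1, a2]
    refine gl_ext fun x => ?_
    have hfvQ : Q (f + vi) = 0 := by rw [C.add, H.singF, Hij.singE, hfi]; simp
    rw [TS.act C hfvQ Hij.singE (by simp [hfi, self_two C hq]), TS.act C H.singF Hij.singE hfi]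
    simp only [map_add, LinearMap.add_apply]
    module
  have hXE : ρ xe = (2 : ℂ) • Pi - 1 := hxeq Wi (Or.inl rfl)
  have hXF : ρ xf = (2 : ℂ) • Ei - 1 := by
    rw [hxf, map_mul, map_mul, hxeq Wj (Or.inr rfl), winv, ← hT', mul_sub, mul_one, sub_mul, mul_smul_comm,
      smul_mul_assoc, hTsq, hEi]
  have hPE : Pi * Ei = Ei * Pi := by
    have h1 : ρ xe * ρ xf = ρ xf * ρ xe := by rw [← map_mul, ← map_mul, hcommx]
    rw [hXE, hXF] at h1
    simp only [sub_mul, mul_sub, smul_mul_assoc, mul_smul_comm, mul_one, one_mul, smul_smul, sub_sub] at h1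
    have h4 : ((2 : ℂ) * 2) • (Pi * Ei - Ei * Pi) = 0 := by
      rw [smul_sub, sub_eq_zero]
      linear_combination (norm := module) h1
    exact sub_eq_zero.mp ((smul_eq_zero.mp h4).resolve_left (by norm_num))
  have hprod : Pi * Ei = 0 := by
    set t := LinearMap.trace ℂ V (Ei * Pi) with ht
    have h1 : Pi * Ei * Pi = t • Pi := rank_one (wproj_idem C H ρ Wi) (mone mi) Ei
    have h1' : Pi * Ei = t • Pi := by
      calc Pi * Ei = (Pi * Pi) * Ei := by rw [show Pi * Pi = Pi from wproj_idem C H ρ Wi]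
        _ = Pi * (Pi * Ei) := mul_assoc Pi Pi Ei
        _ = Pi * (Ei * Pi) := by rw [hPE]
        _ = Pi * Ei * Pi := (mul_assoc Pi Ei Pi).symm
        _ = t • Pi := h1
    have h3 : Ei * Pi * Ei = LinearMap.trace ℂ V (Pi * Ei) • Ei := rank_one hEidem hEtr Pi
    have h3' : Pi * Ei = t • Ei := by
      calc Pi * Ei = Pi * (Ei * Ei) := by rw [hEidem]
        _ = Pi * Ei * Ei := (mul_assoc Pi Ei Ei).symm
        _ = Ei * Pi * Ei := by rw [hPE]
        _ = LinearMap.trace ℂ V (Pi * Ei) • Ei := h3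
        _ = t • Ei := by rw [ht, LinearMap.trace_mul_comm]
    by_cases ht0 : t = 0
    · rw [h1', ht0, zero_smul]
    exfalso
    have heq : Pi = Ei := smul_right_injective _ ht0 (h1'.symm.trans h3')
    have hxx : ρ xe = ρ xf := by rw [hXE, hXF, heq]
    -- an element exchanging two hyperbolic pairs
    have hej : B e vj = 0 := X.left Hij.memF
    have hfj : B f vj = 0 := X.right Hij.memF
    set p1 : ↥(Root Q B ⊤) := ⟨sGL Q B e vj, sGL_mem_root trivial trivial H.singE hej⟩
    set p2 : ↥(Root Q B ⊤) := ⟨sGL Q B vi f,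
      sGL_mem_root trivial trivial Hij.singE (show B vi f = 0 by rw [C.symm]; exact hfi)⟩
    set gg := p1 * p2 * p1 with hgg
    have aP : ∀ x, (p1 : GL ι F).val *ᵥ x = x + B e x • vj + B vj x • e := fun x => by
      show (sGL Q B e vj).val *ᵥ x = _
      rw [TS.act C H.singE Hij.singF hej, sub_eq_add_neg, ← neg_smul, CharTwo.neg_eq]
    have aQ : ∀ x, (p2 : GL ι F).val *ᵥ x = x + B vi x • f + B f x • vi := fun x => by
      show (sGL Q B vi f).val *ᵥ x = _
      rw [TS.act C Hij.singE H.singF (by rw [C.symm]; exact hfi), sub_eq_add_neg, ← neg_smul, CharTwo.neg_eq]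
    have hfe : B f e = 1 := H.pair' C
    have hie : B vi e = 0 := by rw [C.symm]; exact hei
    have hif : B vi f = 0 := by rw [C.symm]; exact hfi
    have hje : B vj e = 0 := by rw [C.symm]; exact hej
    have hjf : B vj f = 0 := by rw [C.symm]; exact hfj
    have act : ∀ x, (gg : GL ι F).val *ᵥ x =
        (p1 : GL ι F).val *ᵥ ((p2 : GL ι F).val *ᵥ ((p1 : GL ι F).val *ᵥ x)) := fun x => by
      rw [hgg, Subgroup.coe_mul, Subgroup.coe_mul, mul_act, mul_act]
    have h2n : ∀ x : ι → F, (2 : ℕ) • x = 0 := fun x => by rw [two_nsmul, vec_add_self C hq]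
    have h3n : ∀ x : ι → F, (3 : ℕ) • x = x := fun x => by rw [succ_nsmul, h2n, zero_add]
    have h2m : ∀ x : ι → F, (2 : ι → F) * x = 0 := fun x => by rw [two_mul, vec_add_self C hq]
    have ggi : (gg : GL ι F).val *ᵥ vi = e := by
      rw [act]
      simp only [aP, aQ, map_add, map_smul, smul_eq_mul, self_two C hq, H.pair, hfe, hej, hei, hfj, hfi, hie,
        hif, hje, hjf, hji, Hij.pair, mul_zero, mul_one, add_zero, zero_add, zero_smul, one_smul]
      abel_nf
      simp only [two_smul, two_mul, two_zsmul, h2n, h3n, h2m, add_smul, one_smul, vec_add_self C hq, add_zero, zero_add]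
    have gge : (gg : GL ι F).val *ᵥ e = vi := by
      rw [act]
      simp only [aP, aQ, map_add, map_smul, smul_eq_mul, self_two C hq, H.pair, hfe, hej, hei, hfj, hfi, hie,
        hif, hje, hjf, hji, Hij.pair, mul_zero, mul_one, add_zero, zero_add, zero_smul, one_smul]
      abel_nf
      simp only [two_smul, two_mul, two_zsmul, h2n, h3n, h2m, add_smul, one_smul, vec_add_self C hq, add_zero, zero_add]
    have ggf : (gg : GL ι F).val *ᵥ f = vj := by
      rw [act]
      simp only [aP, aQ, map_add, map_smul, smul_eq_mul, self_two C hq, H.pair, hfe, hej, hei, hfj, hfi, hie,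
        hif, hje, hjf, hji, Hij.pair, mul_zero, mul_one, add_zero, zero_add, zero_smul, one_smul]
      abel_nf
      simp only [two_smul, two_mul, two_zsmul, h2n, h3n, h2m, add_smul, one_smul, vec_add_self C hq, add_zero, zero_add]
    have hggI := root_le_iso C _ gg.2
    have swap : ∀ {p q : ι → F}, Q p = 0 → Q q = 0 → B p q = 0 → sGL Q B p q = sGL Q B q p := by
      intro p q hp hq' hpq
      refine gl_ext fun x => ?_
      rw [TS.act C hp hq' hpq, TS.act C hq' hp (by rw [C.symm]; exact hpq)]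
      match_scalars <;> simp [CharTwo.neg_eq]
    have c1 : gg * xe * gg⁻¹ = qhom C H (Multiplicative.ofAdd Wi) := Subtype.ext (by
      show (gg : GL ι F) * sGL Q B e vi * (gg : GL ι F)⁻¹ = sGL Q B e vi
      rw [sGL_conj C H.singE hei hggI, gge, ggi]
      exact swap Hij.singE H.singE (by rw [C.symm]; exact hei))
    have c2 : gg * xf * gg⁻¹ = qhom C H (Multiplicative.ofAdd Wj) := Subtype.ext (by
      show (gg : GL ι F) * (xf : GL ι F) * (gg : GL ι F)⁻¹ = sGL Q B e vj
      rw [hxfv, sGL_conj C H.singF hfi hggI, ggf, ggi]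
      exact swap Hij.singF H.singE (by rw [C.symm]; exact hej))
    have h4 : ρ (qhom C H (Multiplicative.ofAdd Wi)) = ρ (qhom C H (Multiplicative.ofAdd Wj)) := by
      have hcj : ∀ y, ρ (gg * y * gg⁻¹) = ρ gg * ρ y * ρ gg⁻¹ := fun y => by
        rw [map_mul ρ (gg * y), map_mul ρ gg]
      rw [← c1, ← c2, hcj, hcj, hxx]
    rw [hxeq Wi (Or.inl rfl), hxeq Wj (Or.inr rfl), sub_left_inj] at h4
    have h5' : wproj C H ρ Wi = wproj C H ρ Wj := smul_right_injective _ (two_ne_zero' ℂ) h4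
    have h6 := wproj_ortho C H ρ (hdist (v := Wi) (w := Wj) Hij.pair)
    rw [← h5', wproj_idem] at h6
    have := mone mi
    rw [h6, map_zero] at this
    exact zero_ne_one this
  -- the image of `u`
  set z := Ei u with hz
  have zfix : ∀ A A' : ↥(Root Q B ⊤), w * A' * w⁻¹ = A → Fixes e f vj A' → ρ A u = u → ρ A z = z := by
    intro A A' hAA hA' hAu
    have hA2 : w * A * w⁻¹ = A' := by
      rw [← hAA, winv, show w * (w * A' * w) * w = w * w * A' * (w * w) by group, wsq]
      group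
    calc ρ A z = ρ A (T (wproj C H ρ Wj (T u))) := rfl
      _ = T (ρ A' (wproj C H ρ Wj (T u))) := wmove hAA _
      _ = T (wproj C H ρ Wj (ρ A' (T u))) := congrArg _ (mv hA'.1 hA'.2.1 hA'.2.2 _)
      _ = T (wproj C H ρ Wj (T (ρ A u))) := congrArg (fun y => T (wproj C H ρ Wj y)) (wmove hA2 u)
      _ = z := by rw [hAu]; rfl
  have Fg_j : Fixes e f vj g := ⟨ge.1, gf.1, gj⟩
  set n' : ↥(Root Q B ⊤) := h * n * h⁻¹ with hn'
  have Fn'_j : Fixes e f vj n' := by
    have hx : ∀ x, (h : GL ι F).val *ᵥ x = x → (n : GL ι F).val *ᵥ x = x → (n' : GL ι F).val *ᵥ x = x := by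
      intro x h1 h3
      rw [hn', Subgroup.coe_mul, Subgroup.coe_mul, Subgroup.coe_inv, mul_act, mul_act]
      conv_lhs => rw [show ((h : GL ι F)⁻¹ : GL ι F).val *ᵥ x = x by
        conv_lhs => rw [← h1]
        exact inv_act _ _]
      rw [h3, h1]
    refine ⟨hx e ge.2.1 ge.2.2, hx f gf.2.1 gf.2.2, ?_⟩
    rw [hn', Subgroup.coe_mul, Subgroup.coe_mul, Subgroup.coe_inv, mul_act, mul_act]
    conv_lhs => rw [show ((h : GL ι F)⁻¹ : GL ι F).val *ᵥ vj = vi by
      conv_lhs => rw [← hi]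
      exact inv_act _ _]
    rw [ni, hi]
  have zg : ρ g z = z := zfix g g wconj_g Fg_j ug
  have zn : ρ n z = z := by
    refine zfix n n' ?_ Fn'_j un
    rw [← wconj_n, winv, show w * (w * n * w) * w = (w * w) * n * (w * w) by group, wsq]
    group
  -- coordinates of the image
  have hzi : wproj C H ρ Wi z = 0 := by
    show (Pi * Ei) u = 0
    rw [hprod]; rfl
  obtain ⟨t, ht⟩ : ∃ t : ℂ, wproj C H ρ Wj z = t • dj := by
    have hfin : finrank ℂ (LinearMap.range (wproj C H ρ Wj)) = 1 := hone Wj (mem_orb.mp mj).1 (mem_orb.mp mj).2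
    obtain ⟨t, ht⟩ := exists_smul_eq_of_finrank_eq_one hfin
      (x := ⟨dj, ⟨dj, pj⟩⟩) (fun h0 => hx0 (by
        have h0' : dj = 0 := congrArg Subtype.val h0
        rw [← hdi', h0', map_zero]))
      ⟨_, LinearMap.mem_range_self (wproj C H ρ Wj) z⟩
    exact ⟨t, (congrArg Subtype.val ht).symm⟩
  have zk : wproj C H ρ Wk z = t • dk := by
    conv_lhs => rw [← zn]
    rw [← mv ge.2.2 gf.2.2 (v := Wj) (v' := Wk) nj, ht, map_smul, hdk]
  have zl : wproj C H ρ Wl z = t • dl := by
    conv_lhs => rw [← zg]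
    rw [← mv ge.1 gf.1 gk, zk, map_smul, hdl]
  have zm : wproj C H ρ Wm z = t • dm := by
    conv_lhs => rw [← zg]
    rw [← mv ge.1 gf.1 gl, zl, map_smul, hdm]
  have zval : z = t • (u - di) := by
    conv_lhs => rw [show z = (1 : Module.End ℂ V) z from rfl, ← hsumP]
    simp only [LinearMap.add_apply, hPi, hzi, ht, zk, zl, zm, hu]
    module
  have hα0 : α ≠ 0 := fun h0 => hu0 (by
    have := hTT u
    rw [hα, h0, zero_smul, map_zero] at this
    exact this.symm)
  have hPju : wproj C H ρ Wj u = dj := by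
    conv_lhs => rw [← uh]
    rw [← mv ge.2.1 gf.2.1 (v := Wi) (v' := Wj) hi, hPu, hdj]
  have zT : z = α • T dj := by
    show T (wproj C H ρ Wj (T u)) = _
    rw [hα, map_smul, map_smul, hPju]
  have z0 : z ≠ 0 := fun h0 => by
    rw [zT, smul_eq_zero] at h0
    have h1 := hTT dj
    rw [h0.resolve_left hα0, map_zero] at h1
    exact hx0 (by rw [← hdi', ← h1, map_zero])
  have hEdi : Ei di = 0 := by
    rw [← pi']
    show (Ei * Pi) di = 0
    rw [← hPE, hprod]; rfl
  have ht1 : t = 1 := by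
    have h1 : Ei z = z := LinearMap.congr_fun hEidem u
    rw [zval, map_smul, map_sub, hEdi, sub_zero, ← hz, ← zval] at h1
    have h3 : (t - 1) • z = 0 := by rw [sub_smul, one_smul, h1, sub_self]
    exact sub_eq_zero.mp ((smul_eq_zero.mp h3).resolve_right z0)
  rw [ht1, one_smul] at zval
  have zj : ρ h z = u - dj := by rw [zval, map_sub, uh, ← hdj]
  have zk' : ρ n (ρ h z) = u - dk := by rw [zj, map_sub, un, ← hdk]
  have zl' : ρ g (ρ n (ρ h z)) = u - dl := by rw [zk', map_sub, ug, ← hdl]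
  have zm' : ρ g (ρ g (ρ n (ρ h z))) = u - dm := by rw [zl', map_sub, ug, ← hdm]
  have hn'T : ∀ x, ρ n (T x) = T (ρ (h * n * h⁻¹) x) := fun x =>
    wmove (by show w * n' * w⁻¹ = n; rw [← wconj_n, winv, show w * (w * n * w) * w = (w * w) * n * (w * w) by group, wsq]; group) x
  have q1 : ρ h z = α • T di := by
    rw [zT, map_smul, hT', wmove wconj_h, hdi']
  have q2 : ρ n (ρ h z) = α • T dk := by
    rw [q1, map_smul, hn'T, inv_eq_of_mul_eq_one_right hsq, ← comb, ← comb, ← hdj, ← hdk, hdk']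
  have q3 : ρ g (ρ n (ρ h z)) = α • T dl := by
    rw [q2, map_smul, hT', wmove wconj_g, ← hdl]
  have q4 : ρ g (ρ g (ρ n (ρ h z))) = α • T dm := by
    rw [q3, map_smul, hT', wmove wconj_g, ← hdm]
  have total : u = (u - di) + (u - dj) + (u - dk) + (u - dl) + (u - dm) := by
    calc u = α • T u := by
          rw [hα, smul_smul]
          have h1 := hTT u
          rw [hα, map_smul, hα, smul_smul] at h1
          exact h1.symm
      _ = α • T di + α • T dj + α • T dk + α • T dl + α • T dm := by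
          rw [hu]; simp only [map_add, smul_add]
      _ = (u - dj) + (u - di) + (u - dk) + (u - dl) + (u - dm) := by
          rw [← q1, ← zT, ← q2, ← q3, ← q4, zm', zl', zk', zj, zval]
      _ = _ := by abel
  have h3 : (3 : ℂ) • u = 0 := by
    rw [hu] at total ⊢
    linear_combination (norm := module) -total
  exact hu0 ((smul_eq_zero.mp h3).resolve_left (by norm_num))

end Cfsg.Lib.Linear.OrthDeg
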