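import Cfsg.Agent.Lib.Linear.OrthDegree.Minus
import Cfsg.Agent.Lib.Linear.OrthDegree.TwoSix

/-!
# No representation of degree 32 of `Ω⁻` in dimension eight over two elements
-/

set_option autoImplicit false

namespace Cfsg.Lib.Linear.OrthDeg

open Module Cfsg.Lib.Linear.Orth Cfsg.Lib.Linear.MinIndexOrth Cfsg.Lib.OrthMult
open scoped Matrix Classical

variable {ι : Type} [Fintype ι] [DecidableEq ι] {F : Type*} [Field F] [Fintype F]
  {Q : (ι → F) → F} {B : LinearMap.BilinForm F (ι → F)}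

section Fix

variable {V : Type*} [AddCommGroup V] [Module ℂ V] [FiniteDimensional ℂ V]
  (C : Space Q B) {e f : ι → F} (H : Hyp Q B ⊤ e f) (ρ : Representation ℂ ↥(Root Q B ⊤) V)

/-- The character on the fixed space is a trace against the projection. -/
theorem character_fixRep (h : ↥(Root Q B (X B e f))) :
    (fixRep C H ρ).character h =
      LinearMap.trace ℂ V (ρ ⟨h.1, root_mono le_top h.2⟩ * wproj C H ρ 0) := by
  set P := wproj C H ρ 0 with hP
  have e1 : ρ ⟨h.1, root_mono le_top h.2⟩ * P =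
      ((LinearMap.range P).subtype).comp ((fixRep C H ρ h).comp P.rangeRestrict) :=
    LinearMap.ext fun x => (fixRep_coe C H ρ h (P.rangeRestrict x)).symm
  have e2 : P.rangeRestrict.comp (LinearMap.range P).subtype = LinearMap.id := by
    refine LinearMap.ext fun x => Subtype.ext ?_
    obtain ⟨y, hy⟩ := x.2
    show P x.1 = x.1
    rw [← hy, ← Module.End.mul_apply, hP, wproj_idem]
  rw [e1, LinearMap.trace_comp_comm', LinearMap.comp_assoc, e2, LinearMap.comp_id]
  rfl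

end Fix

/-- The scalar of the element of order three is one. -/
theorem lam_three (C : Space Q B) (h5 : 5 ≤ Fintype.card ι) (hq : Nat.card F = 2) {e f : ι → F}
    (H : Hyp Q B ⊤ e f) (hTX : IsT Q (X B e f) 3 (-1)) {V : Type*} [AddCommGroup V] [Module ℂ V]
    [FiniteDimensional ℂ V] (ρ : Representation ℂ ↥(Root Q B ⊤) V) {vi vj b c : ι → F}
    (fr : Frame Q B e f vi vj b c) {v : X B e f} (hv : mult C H ρ v = 1)
    (hb : B b v.1 = 0) (hc : B c v.1 = 0) (g : ↥(Root Q B ⊤))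
    (hg : (g : GL ι F) = rGL Q b * rGL Q c) : lam C H ρ v g = 1 := by
  haveI := charP_two hq
  have hne' : ∀ {x : ι → F}, Q x = 1 → Q x ≠ 0 := fun {x} h => by rw [h]; exact one_ne_zero
  set U := X B e f ⊓ LinearMap.ker (B b) ⊓ LinearMap.ker (B c) ⊓ LinearMap.ker (B v.1) with hU
  obtain ⟨d, hd, hQd⟩ : ∃ d ∈ U, Q d = 1 := by
    by_contra hall
    push Not at hall
    have hsing : ∀ x ∈ U, Q x = 0 := fun x hx => (eq_zero_or_one hq _).resolve_right (hall x hx)
    have h1 := finrank_inf_ker_ge C (X B e f) b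
    have h2 := finrank_inf_ker_ge C (X B e f ⊓ LinearMap.ker (B b)) c
    have h3 := finrank_inf_ker_ge C (X B e f ⊓ LinearMap.ker (B b) ⊓ LinearMap.ker (B c)) v.1
    rw [← hU] at h3
    have hr := hTX.1
    have hUX : U ≤ X B e f := fun x hx => hx.1.1.1
    have h4 := level_zero_six C (X_ndeg C H) hTX.1 hUX hsing (by omega)
    have h5 := hTX.level_eq (r := 2) (0 : F)
    rw [del_zero, hq] at h5
    have h6 : level Q (X B e f) 0 = 28 := by
      have : (level Q (X B e f) 0 : ℤ) = 28 := by rw [h5]; norm_num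
      exact_mod_cast this
    rw [h6, hq] at h4
    norm_num at h4
  simp only [hU, Submodule.mem_inf, LinearMap.mem_ker] at hd
  obtain ⟨⟨⟨hdX, hbd⟩, hcd⟩, hvd⟩ := hd
  have hbf : ∀ x, x = e ∨ x = f ∨ x = v.1 → B b x = 0 ∧ B d x = 0 := fun x hx => by
    rcases hx with rfl | rfl | rfl
    · exact ⟨by rw [C.symm]; exact X.left fr.memB, by rw [C.symm]; exact X.left hdX⟩
    · exact ⟨by rw [C.symm]; exact X.right fr.memB, by rw [C.symm]; exact X.right hdX⟩
    · exact ⟨hb, by rw [C.symm]; exact hvd⟩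
  set sb : ↥(Root Q B ⊤) :=
    ⟨rGL Q b * rGL Q d, rGL_mul_rGL_root C h5 (hne' fr.valB) (by rw [fr.valB, hQd])⟩ with hsb
  have hFb : Fixes e f v.1 sb := by
    refine ⟨?_, ?_, ?_⟩ <;> show (rGL Q b * rGL Q d).val *ᵥ _ = _ <;>
      rw [mul_act, rGL_fix C (hne' hQd) (hbf _ (by simp)).2, rGL_fix C (hne' fr.valB) (hbf _ (by simp)).1]
  have hgact : ∀ x, (g : GL ι F).val *ᵥ x = x + B c x • c + (B b x + B c x) • b := fun x => by
    rw [hg]; exact fr.g3_act C hq x
  have hFg : Fixes e f v.1 g := by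
    refine ⟨?_, ?_, ?_⟩ <;> rw [hgact]
    · rw [C.symm b e, C.symm c e, X.left fr.memB, X.left fr.memC]; simp
    · rw [C.symm b f, C.symm c f, X.right fr.memB, X.right fr.memC]; simp
    · rw [hb, hc]; simp
  have hgb : (g : GL ι F).val *ᵥ b = c := by
    rw [hgact, C.symm c b, fr.bc, self_two C hq]
    simp only [one_smul, zero_add]
    rw [add_comm b c, add_assoc, vec_add_self C hq, add_zero]
  have hgd : (g : GL ι F).val *ᵥ d = d := by rw [hgact, hbd, hcd]; simp
  have hgI := root_le_iso C _ g.2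
  -- reflections in perpendicular vectors commute
  have hcom : ∀ {x y : ι → F}, Q x = 1 → Q y = 1 → B x y = 0 →
      rGL Q y * rGL Q x * rGL Q y = rGL Q x := fun {x y} hx hy hxy => by
    have h1 := rGL_conj C (hne' hx) (rGL_mem C (hne' hy))
    rwa [rGL_fix C (hne' hy) (by rw [C.symm]; exact hxy), rGL_inv C (hne' hy)] at h1
  have hprod : g = sb * (g * sb * g⁻¹) := Subtype.ext (by
    rw [Subgroup.coe_mul, Subgroup.coe_mul, Subgroup.coe_mul, Subgroup.coe_inv, hsb]
    show (g : GL ι F) = rGL Q b * rGL Q d * ((g : GL ι F) * (rGL Q b * rGL Q d) * (g : GL ι F)⁻¹)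
    rw [show (g : GL ι F) * (rGL Q b * rGL Q d) * (g : GL ι F)⁻¹ =
        ((g : GL ι F) * rGL Q b * (g : GL ι F)⁻¹) * ((g : GL ι F) * rGL Q d * (g : GL ι F)⁻¹) by group,
      rGL_conj C (hne' fr.valB) hgI, rGL_conj C (hne' hQd) hgI, hgb, hgd,
      show rGL Q b * rGL Q d * (rGL Q c * rGL Q d) = rGL Q b * (rGL Q d * rGL Q c * rGL Q d) by group,
      hcom fr.valC hQd hcd, hg])
  have hsq : sb * sb = 1 := Subtype.ext (by
    show rGL Q b * rGL Q d * (rGL Q b * rGL Q d) = 1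
    rw [show rGL Q b * rGL Q d * (rGL Q b * rGL Q d) = rGL Q b * (rGL Q d * rGL Q b * rGL Q d) by group,
      hcom fr.valB hQd hbd, rGL_sq C (hne' fr.valB)])
  have hFc : Fixes e f v.1 (g * sb * g⁻¹) := by
    refine ⟨?_, ?_, ?_⟩ <;> rw [Subgroup.coe_mul, Subgroup.coe_mul, mul_act, mul_act]
    · rw [hFg.inv.1, hFb.1, hFg.1]
    · rw [hFg.inv.2.1, hFb.2.1, hFg.2.1]
    · rw [hFg.inv.2.2, hFb.2.2, hFg.2.2]
  rw [hprod, lam_mul C H ρ hv _ hFc, lam_conj C H ρ hv hFg hFb, ← lam_mul C H ρ hv _ hFb, hsq,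
    lam_one C H ρ hv]

/-- The degree 32 does not occur. -/
theorem eight_contra (C : Space Q B) (hq : Nat.card F = 2) (hT : IsT Q (⊤ : Submodule F (ι → F)) 4 (-1))
    (ρ : Representation ℂ ↥(Root Q B ⊤) (Fin 32 → ℂ)) (hne : ∃ g, ρ g ≠ 1) : False := by
  haveI := charP_two hq
  have hι : Fintype.card ι = 8 := by
    have := hT.1; rwa [finrank_top, finrank_fintype_fun_eq_card] at this
  have h7 : 7 ≤ Fintype.card ι := by omega
  have h5 : 5 ≤ Fintype.card ι := by omega
  obtain ⟨e, f, H⟩ := exists_hyp' C C.ndeg_top (by rw [hT.1]; norm_num)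
  have hTX : IsT Q (X B e f) 3 (-1) := hT.down C H
  have hcardO : ∀ t : F, ((orb Q B e f t).card : ℤ) = if t = 0 then 27 else 36 := fun t => by
    rw [card_orb C, hTX.level_eq (r := 2), hq]
    by_cases ht : t = 0
    · rw [if_pos ht, ht, del_zero]; norm_num
    · rw [if_neg ht, del_ne ht]; norm_num
  have hfin : finrank ℂ (Fin 32 → ℂ) = 32 := Module.finrank_fin_fun ℂ
  have honly : ∀ v : X B e f, v ≠ 0 → mult C H ρ v ≠ 0 → Q v.1 = 0 := fun v hv hm => by
    by_contra hne'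
    have h1 := orb_le C h7 H ρ (c := Q v.1) (v := v) (mem_orb.mpr ⟨hv, rfl⟩) hm
    have h2 := hcardO (Q v.1)
    rw [if_neg hne'] at h2
    omega
  have hO : (orb Q B e f (0 : F)).card = 27 := by
    have h1 := hcardO 0
    rw [if_pos rfl] at h1
    exact_mod_cast h1
  obtain ⟨v₀, hv₀, hm₀⟩ := exists_weight C H ρ h5 hne
  have hv₀' : v₀ ∈ orb Q B e f (0 : F) := mem_orb.mpr ⟨hv₀, honly v₀ hv₀ hm₀⟩
  obtain ⟨-, hk, hnt, -⟩ := single C h7 H ρ (s := 1) (ε := -1) hTX le_rfl hv₀' hm₀ honly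
    (by rw [hfin, hO]; norm_num) fun v p q hpq hp hq' hQv hv hpv hqv =>
      lam_line_comm C H ρ hTX hv hp hq' hpq hpv hqv (Or.inr ⟨rfl, rfl, hQv⟩)
  rw [hfin, hO] at hk
  have hone : ∀ v ∈ orb Q B e f (0 : F), mult C H ρ v = 1 := fun v hv => by
    have h0 : mult C H ρ v ≠ 0 := by
      rw [mult_trans C H ρ h7 (mem_orb.mp hv).1 hv₀ (by rw [(mem_orb.mp hv).2, honly v₀ hv₀ hm₀])]
      exact hm₀
    have h1 : (orb Q B e f (0 : F)).card * mult C H ρ v ≤ 32 := by
      have := orb_mul_le C h7 H ρ hv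
      rwa [hfin] at this
    rw [hO] at h1
    omega
  have hout : ∀ v : X B e f, v ∉ insert 0 (orb Q B e f (0 : F)) → mult C H ρ v = 0 := fun v hv => by
    rw [Finset.mem_insert, not_or] at hv
    by_contra hm
    exact hv.2 (mem_orb.mpr ⟨hv.1, honly v hv.1 hm⟩)
  have S := split_orth C (A := orth B (X B e f)) (split_orth C (X_ndeg C H)).ndU
  have hU : orth B (orth B (X B e f)) = X B e f := by
    refine (Submodule.eq_of_le_of_finrank_eq (fun x hx => mem_orth.2 fun a ha => by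
      rw [C.symm]; exact mem_orth.1 ha x hx) ?_).symm
    have h1 := orth_finrank C (A := X B e f) (X_ndeg C H)
    have h2 := orth_finrank C (A := orth B (X B e f)) (split_orth C (X_ndeg C H)).ndU
    omega
  rw [hU] at S
  obtain ⟨Q', B', φ, K⟩ := exists_coord_sub C S
  set σ := (fixRep C H ρ).comp K.rootEquiv.toMonoidHom with hσ
  have hV : finrank ℂ (LinearMap.range (wproj C H ρ 0)) = 5 := by
    show mult C H ρ 0 = 5
    omega
  refine six_contra K.space' (by rw [Fintype.card_fin, hTX.1]) hq (hTX.coord K) hV σ ?_ ?_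
  · obtain ⟨h, hh⟩ := hnt
    exact ⟨K.rootEquiv.symm h, by
      show (fixRep C H ρ) (K.rootEquiv (K.rootEquiv.symm h)) ≠ 1
      rwa [MulEquiv.apply_symm_apply]⟩
  intro p₀ f₀ vi₀ vj₀ b₀ c₀ H₀ fr₀ h h' hh hh'
  -- the frame in the large space
  have fr : Frame Q B e f (φ vi₀) (φ vj₀) (φ b₀) (φ c₀) :=
    ⟨⟨K.memU _, K.memU _, by rw [K.map_q, fr₀.hyp.singE], by rw [K.map_q, fr₀.hyp.singF],
      by rw [K.map_b, fr₀.hyp.pair]⟩, K.memU _, K.memU _, by rw [K.map_b, fr₀.ib], by rw [K.map_b, fr₀.jb],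
      by rw [K.map_b, fr₀.ic], by rw [K.map_b, fr₀.jc], by rw [K.map_q, fr₀.valB], by rw [K.map_q, fr₀.valC],
      by rw [K.map_b, fr₀.bc]⟩
  set p := φ p₀ with hp
  set vi := φ vi₀ with hvi
  set vj := φ vj₀ with hvj
  set b := φ b₀ with hb
  set c := φ c₀ with hc
  have hne' : ∀ {x : ι → F}, Q x = 1 → Q x ≠ 0 := fun {x} h => by rw [h]; exact one_ne_zero
  have hperp : ∀ x, x ∈ X B' p₀ f₀ → B p (φ x) = 0 := fun x hx => by
    rw [hp, K.map_b]; exact X.left hx
  have hQp : Q p = 0 := by rw [hp, K.map_q, H₀.singE]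
  have hp0 : p ≠ 0 := fun h0 => (Hyp.ne_zero K.space' H₀).1 (K.inj (by rw [map_zero]; exact h0))
  have hpX : p ∈ X B e f := K.memU _
  have hpi : B p vi = 0 := hperp _ fr₀.hyp.memE
  have hpj : B p vj = 0 := hperp _ fr₀.hyp.memF
  have hpb : B p b = 0 := hperp _ fr₀.memB
  have hpc : B p c = 0 := hperp _ fr₀.memC
  set gH : ↥(Root Q B ⊤) := ⟨(K.rootEquiv h).1, root_mono le_top (K.rootEquiv h).2⟩ with hgH
  set gH' : ↥(Root Q B ⊤) := ⟨(K.rootEquiv h').1, root_mono le_top (K.rootEquiv h').2⟩ with hgH'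
  have hval : ∀ (w₀ : Fin (finrank F ↥(X B e f)) → F), B' p₀ w₀ = 0 →
      ∀ k : ↥(Root Q' B' ⊤), (k : GL _ F) = sGL Q' B' p₀ w₀ * (rGL Q' b₀ * rGL Q' c₀) →
        (((K.rootEquiv k : ↥(Root Q B (X B e f))) : GL ι F)) = sGL Q B p (φ w₀) * (rGL Q b * rGL Q c) := by
    intro w₀ hw k hk'
    show K.emb (k : GL _ F) = _
    rw [hk', map_mul, map_mul, K.emb_sGL H₀.singE hw, K.emb_rGL (by rw [fr₀.valB]; exact one_ne_zero),
      K.emb_rGL (by rw [fr₀.valC]; exact one_ne_zero)]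
  have eH : (gH : GL ι F) = sGL Q B p vj * (rGL Q b * rGL Q c) :=
    hval vj₀ (X.left fr₀.hyp.memF) h hh
  have eH' : (gH' : GL ι F) = sGL Q B p vi * (rGL Q b * rGL Q c) :=
    hval vi₀ (X.left fr₀.hyp.memE) h' hh'
  show (fixRep C H ρ).character (K.rootEquiv h) = (fixRep C H ρ).character (K.rootEquiv h')
  rw [character_fixRep, character_fixRep]
  show LinearMap.trace ℂ _ (ρ gH * wproj C H ρ 0) = LinearMap.trace ℂ _ (ρ gH' * wproj C H ρ 0)
  set g3 : ↥(Root Q B ⊤) := ⟨rGL Q b * rGL Q c, rGL_mul_rGL_root C h5 (hne' fr.valB) (by rw [fr.valB, fr.valC])⟩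
    with hg3
  -- fixed weights
  have hterm : ∀ (w : ι → F) (hw : w ∈ X B e f) (hQw : Q w = 0) (hpw : B p w = 0) (hwb : B b w = 0)
      (hwc : B c w = 0) (hwp : w ∉ Submodule.span F {p}) (g : ↥(Root Q B ⊤)),
      (g : GL ι F) = sGL Q B p w * (rGL Q b * rGL Q c) →
      ρ.character g = LinearMap.trace ℂ (Fin 32 → ℂ) (ρ g * wproj C H ρ 0) +
        (((orb Q B e f (0 : F)).filter fun v => (g : GL ι F).val *ᵥ v.1 = v.1).card : ℂ) := by
    intro w hw hQw hpw hwb hwc hwp g hg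
    have hts : TS Q B p w := ⟨hQp, hQw, hpw, hp0, hwp⟩
    set x : ↥(Root Q B ⊤) := ⟨sGL Q B p w, sGL_mem_root trivial trivial hQp hpw⟩ with hx
    have hgx : g = x * g3 := Subtype.ext hg
    have ge : ∀ z, z = e ∨ z = f → (g : GL ι F).val *ᵥ z = z := fun z hz => by
      have hzb : B b z = 0 ∧ B c z = 0 ∧ B p z = 0 ∧ B w z = 0 := by
        rcases hz with rfl | rfl
        · exact ⟨by rw [C.symm]; exact X.left fr.memB, by rw [C.symm]; exact X.left fr.memC,
            by rw [C.symm]; exact X.left hpX, by rw [C.symm]; exact X.left hw⟩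
        · exact ⟨by rw [C.symm]; exact X.right fr.memB, by rw [C.symm]; exact X.right fr.memC,
            by rw [C.symm]; exact X.right hpX, by rw [C.symm]; exact X.right hw⟩
      rw [hg, mul_act, fr.g3_act C hq, hzb.1, hzb.2.1]
      simp only [zero_smul, add_zero]
      rw [TS.act C hQp hQw hpw, hzb.2.2.1, hzb.2.2.2]
      simp
    rw [character_eq_sum C H ρ, ← Finset.sum_subset (Finset.subset_univ (insert 0 (orb Q B e f (0 : F))))
      fun v _ hv => by rw [wproj_eq_zero C H ρ (hout v hv), mul_zero, map_zero],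
      Finset.sum_insert (fun h => (mem_orb.mp h).1 rfl)]
    congr 1
    rw [← Finset.sum_boole]
    refine Finset.sum_congr rfl fun v hv => ?_
    by_cases hfix : (g : GL ι F).val *ᵥ v.1 = v.1
    · rw [if_pos hfix]
      have cube := fr.g3_cube C hq
      have hxx : sGL Q B p w * sGL Q B p w = 1 := by
        rw [sGL_mul C hQp hpw hpw, vec_add_self C hq]
        exact sGL_one C hQp
      have hG : rGL Q b * rGL Q c ∈ isometryGroup F Q := root_le_iso C _ g3.2
      have hGp : (rGL Q b * rGL Q c).val *ᵥ p = p := by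
        rw [fr.g3_act C hq, C.symm b p, C.symm c p, hpb, hpc]; simp
      have hGw : (rGL Q b * rGL Q c).val *ᵥ w = w := by rw [fr.g3_act C hq, hwb, hwc]; simp
      have hcom : rGL Q b * rGL Q c * sGL Q B p w = sGL Q B p w * (rGL Q b * rGL Q c) := by
        have h1 := sGL_conj C hQp hpw hG
        rw [hGp, hGw, mul_inv_eq_iff_eq_mul] at h1
        exact h1
      have hsq2 : (g : GL ι F) * (g : GL ι F) = (rGL Q b * rGL Q c) * (rGL Q b * rGL Q c) := by
        rw [hg, show sGL Q B p w * (rGL Q b * rGL Q c) * (sGL Q B p w * (rGL Q b * rGL Q c)) =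
          sGL Q B p w * ((rGL Q b * rGL Q c) * sGL Q B p w) * (rGL Q b * rGL Q c) by group, hcom,
          show sGL Q B p w * (sGL Q B p w * (rGL Q b * rGL Q c)) * (rGL Q b * rGL Q c) =
          sGL Q B p w * sGL Q B p w * ((rGL Q b * rGL Q c) * (rGL Q b * rGL Q c)) by group, hxx, one_mul]
      have h3 : (rGL Q b * rGL Q c).val *ᵥ v.1 = v.1 := by
        have e1 : ((rGL Q b * rGL Q c) * (rGL Q b * rGL Q c)).val *ᵥ v.1 = v.1 := by
          rw [← hsq2, mul_act, hfix, hfix]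
        have e2 : ((rGL Q b * rGL Q c) * ((rGL Q b * rGL Q c) * (rGL Q b * rGL Q c))).val *ᵥ v.1 = v.1 := by
          rw [← mul_assoc (rGL Q b * rGL Q c) (rGL Q b * rGL Q c), cube, Units.val_one, Matrix.one_mulVec]
        rw [mul_act, e1] at e2
        exact e2
      have hbc : B b v.1 = 0 ∧ B c v.1 = 0 := by
        rw [fr.g3_act C hq, add_assoc, add_eq_left] at h3
        have e5 := congrArg (B b) h3
        have e6 := congrArg (B c) h3
        simp [self_two C hq, fr.bc, C.symm c b] at e5 e6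
        exact ⟨by rw [e5] at e6; simpa using e6, e5⟩
      have hfx : (sGL Q B p w).val *ᵥ v.1 = v.1 := by
        have := hfix
        rwa [hg, mul_act, h3] at this
      have hpv : B p v.1 = 0 ∧ B w v.1 = 0 := by
        rw [TS.act C hQp hQw hpw, add_sub_assoc, add_eq_left, sub_eq_zero] at hfx
        have h1 : B p v.1 = 0 := by
          by_contra hn
          exact hwp (Submodule.mem_span_singleton.mpr ⟨(B p v.1)⁻¹ * B w v.1, by
            rw [mul_smul, ← hfx, smul_smul, inv_mul_cancel₀ hn, one_smul]⟩)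
        rw [h1, zero_smul, eq_comm, smul_eq_zero] at hfx
        exact ⟨h1, hfx.resolve_right hp0⟩
      have hm := hone v hv
      have hF3 : Fixes e f v.1 g3 := by
        refine ⟨?_, ?_, h3⟩ <;> show (rGL Q b * rGL Q c).val *ᵥ _ = _ <;> rw [fr.g3_act C hq]
        · rw [C.symm b e, C.symm c e, X.left fr.memB, X.left fr.memC]; simp
        · rw [C.symm b f, C.symm c f, X.right fr.memB, X.right fr.memC]; simp
      have l1 : lam C H ρ v x = 1 :=
        lam_line_comm C H ρ hTX hm hpX hw hts hpv.1 hpv.2 (Or.inr ⟨rfl, rfl, (mem_orb.mp hv).2⟩)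
      have l2 : lam C H ρ v g3 = 1 := lam_three C h5 hq H hTX ρ fr hm hbc.1 hbc.2 g3 rfl
      show lam C H ρ v g = 1
      rw [hgx, lam_mul C H ρ hm _ hF3, l1, l2, one_mul]
    · rw [if_neg hfix]
      have hmem : (g : GL ι F).val *ᵥ v.1 ∈ X B e f :=
        act_mem_X C H (root_le_iso C _ g.2) one_ne_zero (by rw [one_smul]; exact ge e (Or.inl rfl))
          (by rw [inv_one, one_smul]; exact ge f (Or.inr rfl)) v.2
      have hne2 : th B v ≠ th B (⟨_, hmem⟩ : X B e f) := fun h' =>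
        hfix (congrArg Subtype.val ((th_bijective C H).1 h')).symm
      refine trace_moved _ (conj_wproj C H ρ (c := 1) one_ne_zero ?_ ?_ ?_) hne2
      · rw [one_smul]; exact ge e (Or.inl rfl)
      · rw [inv_one, one_smul]; exact ge f (Or.inr rfl)
      · rw [inv_one, one_smul]
  have hij : B vi vj = 1 := fr.hyp.pair
  have hnp : vj ∉ Submodule.span F {p} := fun hm => by
    obtain ⟨t, ht⟩ := Submodule.mem_span_singleton.mp hm
    rw [← ht, map_smul, C.symm vi p, hpi, smul_zero] at hij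
    exact zero_ne_one hij
  have hnp' : vi ∉ Submodule.span F {p} := fun hm => by
    obtain ⟨t, ht⟩ := Submodule.mem_span_singleton.mp hm
    rw [← ht, LinearMap.map_smul₂, hpj, smul_zero] at hij
    exact zero_ne_one hij
  have hbi : B b vi = 0 := by rw [C.symm]; exact fr.ib
  have hbj : B b vj = 0 := by rw [C.symm]; exact fr.jb
  have hci : B c vi = 0 := by rw [C.symm]; exact fr.ic
  have hcj : B c vj = 0 := by rw [C.symm]; exact fr.jc
  have t1 := hterm vj fr.hyp.memF fr.hyp.singF hpj hbj hcj hnp gH eH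
  have t2 := hterm vi fr.hyp.memE fr.hyp.singE hpi hbi hci hnp' gH' eH'
  -- the conjugating element
  set a := vi + vj with ha
  have hQa : Q a = 1 := fr.valA C hq
  have haX : a ∈ X B e f := Submodule.add_mem _ fr.hyp.memE fr.hyp.memF
  have hQef : Q (e - f) = 1 := by
    have := Q_sub_smul C H (1 : F)
    rw [one_smul, CharTwo.neg_eq] at this
    exact this
  set w : ↥(Root Q B ⊤) :=
    ⟨rGL Q (e - f) * rGL Q a, rGL_mul_rGL_root C h5 (hne' hQef) (by rw [hQef, hQa])⟩ with hw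
  have hwI := root_le_iso C _ w.2
  have hwX : ∀ z ∈ X B e f, (w : GL ι F).val *ᵥ z = (rGL Q a).val *ᵥ z := fun z hz => by
    show (rGL Q (e - f) * rGL Q a).val *ᵥ z = _
    rw [mul_act, rGL_fix C (hne' hQef)]
    rw [rGL_act_two C hq hQa, map_add, map_smul]
    simp [X.left hz, X.right hz, X.left haX, X.right haX]
  have hra : ∀ x, B a x = 0 → (rGL Q a).val *ᵥ x = x := fun x hx => rGL_fix C (hne' hQa) hx
  have haj : B a vj = 1 := by simp [ha, self_two C hq, hij]
  have rp : (rGL Q a).val *ᵥ p = p := hra p (by simp [ha, C.symm vi p, C.symm vj p, hpi, hpj])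
  have rb : (rGL Q a).val *ᵥ b = b := hra b (by simp [ha, fr.ib, fr.jb])
  have rc : (rGL Q a).val *ᵥ c = c := hra c (by simp [ha, fr.ic, fr.jc])
  have rj : (rGL Q a).val *ᵥ vj = vi := by
    rw [rGL_act_two C hq hQa, haj, one_smul, ha, add_comm vi vj, ← add_assoc, vec_add_self C hq, zero_add]
  have hconj : w * gH * w⁻¹ = gH' := Subtype.ext (by
    rw [Subgroup.coe_mul, Subgroup.coe_mul, Subgroup.coe_inv, eH, eH',
      show (w : GL ι F) * (sGL Q B p vj * (rGL Q b * rGL Q c)) * (w : GL ι F)⁻¹ =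
        ((w : GL ι F) * sGL Q B p vj * (w : GL ι F)⁻¹) * (((w : GL ι F) * rGL Q b * (w : GL ι F)⁻¹) *
          ((w : GL ι F) * rGL Q c * (w : GL ι F)⁻¹)) by group,
      sGL_conj C hQp hpj hwI, rGL_conj C (hne' fr.valB) hwI, rGL_conj C (hne' fr.valC) hwI,
      hwX p hpX, hwX vj fr.hyp.memF, hwX b fr.memB, hwX c fr.memC, rp, rj, rb, rc])
  have hchi : ρ.character gH = ρ.character gH' := by rw [← hconj, Representation.char_conj]
  have hcount : ((orb Q B e f (0 : F)).filter fun v => (gH : GL ι F).val *ᵥ v.1 = v.1).card =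
      ((orb Q B e f (0 : F)).filter fun v => (gH' : GL ι F).val *ᵥ v.1 = v.1).card := by
    have hmap : ∀ v : X B e f, (rGL Q a).val *ᵥ v.1 ∈ X B e f := fun v => by
      rw [rGL_act_two C hq hQa]
      exact Submodule.add_mem _ v.2 (Submodule.smul_mem _ _ haX)
    let τ : X B e f → X B e f := fun v => ⟨_, hmap v⟩
    have hττ : ∀ v, τ (τ v) = v := fun v => Subtype.ext (by
      show (rGL Q a).val *ᵥ ((rGL Q a).val *ᵥ v.1) = v.1
      rw [← mul_act, rGL_sq C (hne' hQa), Units.val_one, Matrix.one_mulVec])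
    have horb : ∀ v, v ∈ orb Q B e f (0 : F) → τ v ∈ orb Q B e f (0 : F) := fun v hv => by
      refine mem_orb.mpr ⟨fun h0 => (mem_orb.mp hv).1 ?_, ?_⟩
      · rw [← hττ v, h0]
        exact Subtype.ext (Matrix.mulVec_zero _)
      · show Q ((rGL Q a).val *ᵥ v.1) = 0
        rw [mem_iso.mp (rGL_mem C (hne' hQa)), (mem_orb.mp hv).2]
    have hfwd : ∀ v : X B e f, (gH : GL ι F).val *ᵥ v.1 = v.1 → (gH' : GL ι F).val *ᵥ (τ v).1 = (τ v).1 := by
      intro v hv
      show (gH' : GL ι F).val *ᵥ ((rGL Q a).val *ᵥ v.1) = (rGL Q a).val *ᵥ v.1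
      rw [← hwX v.1 v.2, ← hconj, Subgroup.coe_mul, Subgroup.coe_mul, Subgroup.coe_inv, mul_act, mul_act,
        inv_act, hv]
    have hbwd : ∀ v : X B e f, (gH' : GL ι F).val *ᵥ v.1 = v.1 → (gH : GL ι F).val *ᵥ (τ v).1 = (τ v).1 := by
      intro v hv
      show (gH : GL ι F).val *ᵥ ((rGL Q a).val *ᵥ v.1) = (rGL Q a).val *ᵥ v.1
      have e1 : (w : GL ι F).val *ᵥ ((rGL Q a).val *ᵥ v.1) = v.1 := by
        rw [hwX _ (hmap v), ← mul_act, rGL_sq C (hne' hQa), Units.val_one, Matrix.one_mulVec]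
      refine act_injective (w : GL ι F) ?_
      show (w : GL ι F).val *ᵥ ((gH : GL ι F).val *ᵥ ((rGL Q a).val *ᵥ v.1)) =
        (w : GL ι F).val *ᵥ ((rGL Q a).val *ᵥ v.1)
      rw [e1]
      conv_rhs => rw [← hv, ← e1, ← hconj, Subgroup.coe_mul, Subgroup.coe_mul, Subgroup.coe_inv, mul_act,
        mul_act, inv_act]
    refine Finset.card_bij' (fun v _ => τ v) (fun v _ => τ v) ?_ ?_ (fun v _ => hττ v) (fun v _ => hττ v)
    · intro v hv
      rw [Finset.mem_filter] at hv ⊢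
      exact ⟨horb v hv.1, hfwd v hv.2⟩
    · intro v hv
      rw [Finset.mem_filter] at hv ⊢
      exact ⟨horb v hv.1, hbwd v hv.2⟩
  rw [hchi, t2, hcount] at t1
  exact (add_right_cancel t1).symm

end Cfsg.Lib.Linear.OrthDeg
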