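import Cfsg.Agent.Lib.Linear.OrthDegree.Geom
import Cfsg.Agent.Lib.Linear.OrthDegree.Rep
import Mathlib.NumberTheory.LegendreSymbol.Complex

/-!
# The weights of the abelian group of Siegel elements with a given centre
-/

set_option autoImplicit false

namespace Cfsg.Lib.Linear.OrthDeg

open Module Cfsg.Lib.Linear.Orth Cfsg.Lib.Linear.MinIndexOrth Cfsg.Lib.Linear.MinDegree
open scoped Matrix

variable {ι : Type} [Fintype ι] [DecidableEq ι] {F : Type*} [Field F] [Fintype F]
  {Q : (ι → F) → F} {B : LinearMap.BilinForm F (ι → F)}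

noncomputable instance (U : Submodule F (ι → F)) : Fintype U := Fintype.ofFinite U

/-- A character of `F` which is not trivial. -/
noncomputable def psi (F : Type*) [Field F] [Fintype F] : AddChar F ℂ :=
  AddChar.FiniteField.primitiveChar_to_Complex F

theorem psi_primitive : (psi F).IsPrimitive := AddChar.FiniteField.primitiveChar_to_Complex_isPrimitive F

theorem psi_ne_one : psi F ≠ 1 := fun h => psi_primitive (F := F) one_ne_zero (by rw [h]; ext; simp)

variable (C : Space Q B) {e f : ι → F} (H : Hyp Q B ⊤ e f)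

/-- The Siegel elements with centre `e`. -/
noncomputable def qhom : Multiplicative (X B e f) →* ↥(Root Q B ⊤) where
  toFun w := ⟨sGL Q B e w.toAdd.1, sGL_mem_root trivial trivial H.singE (X.left w.toAdd.2)⟩
  map_one' := Subtype.ext (sGL_one C H.singE)
  map_mul' a b := Subtype.ext (sGL_mul C H.singE (X.left a.toAdd.2) (X.left b.toAdd.2)).symm

theorem qhom_coe (w : X B e f) :
    (qhom C H (Multiplicative.ofAdd w) : GL ι F) = sGL Q B e w.1 := rfl

/-- The character attached to a vector. -/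
noncomputable def th (B : LinearMap.BilinForm F (ι → F)) {e f : ι → F} (v : X B e f) :
    AddChar (X B e f) ℂ where
  toFun w := psi F (B v.1 w.1)
  map_zero_eq_one' := by simp
  map_add_eq_mul' a b := by simp [AddChar.map_add_eq_mul]

theorem th_apply (v w : X B e f) : th B v w = psi F (B v.1 w.1) := rfl

include C H in
theorem th_bijective : Function.Bijective (th B : X B e f → AddChar (X B e f) ℂ) := by
  rw [Fintype.bijective_iff_injective_and_card, AddChar.card_eq]
  refine ⟨fun v v' h => ?_, rfl⟩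
  by_contra hne
  have h0 : v.1 - v'.1 ≠ 0 := fun h0 => hne (Subtype.ext (sub_eq_zero.mp h0))
  obtain ⟨w, hw, hvw⟩ : ∃ w ∈ X B e f, B (v.1 - v'.1) w ≠ 0 := by
    by_contra h1
    push Not at h1
    exact h0 (X_ndeg C H _ (Submodule.sub_mem _ v.2 v'.2) h1)
  refine psi_primitive (F := F) hvw (DFunLike.ext _ _ fun x => ?_)
  rw [AddChar.mulShift_apply, AddChar.one_apply]
  have h2 := DFunLike.congr_fun h (x • ⟨w, hw⟩ : X B e f)
  simp only [th_apply, Submodule.coe_smul, LinearMap.map_smul, smul_eq_mul] at h2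
  rw [map_sub, LinearMap.sub_apply, mul_comm, mul_sub, sub_eq_add_neg, AddChar.map_add_eq_mul, h2,
    ← AddChar.map_add_eq_mul, add_neg_cancel, AddChar.map_zero_eq_one]

variable {V : Type*} [AddCommGroup V] [Module ℂ V] (ρ : Representation ℂ ↥(Root Q B ⊤) V)

/-- The projection on the weight space of a vector. -/
noncomputable def wproj (v : X B e f) : Module.End ℂ V := proj (ρ.comp (qhom C H)) (th B v)

theorem wproj_idem (v : X B e f) : wproj C H ρ v * wproj C H ρ v = wproj C H ρ v :=
  proj_mul_self _ _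

theorem wproj_ortho {v v' : X B e f} (h : v ≠ v') : wproj C H ρ v * wproj C H ρ v' = 0 :=
  proj_ortho _ fun h' => h ((th_bijective C H).1 h')

theorem rho_mul_wproj (v w : X B e f) :
    ρ (qhom C H (Multiplicative.ofAdd w)) * wproj C H ρ v = psi F (B v.1 w.1) • wproj C H ρ v :=
  R_mul_proj (ρ.comp (qhom C H)) _ w

theorem sum_wproj : ∑ v, wproj C H ρ v = 1 := by
  rw [← sum_proj (ρ.comp (qhom C H))]
  exact (th_bijective C H).sum_comp (fun θ => proj (ρ.comp (qhom C H)) θ)

theorem wproj_zero_fix (w : X B e f) :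
    ρ (qhom C H (Multiplicative.ofAdd w)) * wproj C H ρ 0 = wproj C H ρ 0 := by
  rw [rho_mul_wproj]
  simp

/-- The dimension of a weight space. -/
noncomputable def mult (v : X B e f) : ℕ := finrank ℂ (LinearMap.range (wproj C H ρ v))

variable [FiniteDimensional ℂ V]

theorem trace_wproj (v : X B e f) : LinearMap.trace ℂ V (wproj C H ρ v) = mult C H ρ v :=
  ((LinearMap.isProj_range_iff_isIdempotentElem _).2 (wproj_idem C H ρ v)).trace

theorem wproj_eq_zero {v : X B e f} (h : mult C H ρ v = 0) : wproj C H ρ v = 0 := by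
  rw [mult, Submodule.finrank_eq_zero, LinearMap.range_eq_bot] at h
  exact h

theorem sum_mult : ∑ v, mult C H ρ v = finrank ℂ V := by
  have h := congrArg (LinearMap.trace ℂ V) (sum_wproj C H ρ)
  rw [map_sum, LinearMap.trace_one] at h
  simp only [trace_wproj] at h
  exact_mod_cast h

/-- The character in terms of the weight spaces. -/
theorem character_eq_sum (g : ↥(Root Q B ⊤)) :
    ρ.character g = ∑ v, LinearMap.trace ℂ V (ρ g * wproj C H ρ v) := by
  rw [← map_sum, ← Finset.mul_sum, sum_wproj, mul_one]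
  rfl

theorem character_qhom (w : X B e f) :
    ρ.character (qhom C H (Multiplicative.ofAdd w)) = ∑ v, psi F (B v.1 w.1) * mult C H ρ v := by
  rw [character_eq_sum C H ρ]
  refine Finset.sum_congr rfl fun v _ => ?_
  rw [rho_mul_wproj, map_smul, trace_wproj, smul_eq_mul]

section Act

variable {g : ↥(Root Q B ⊤)} {c : F} (hc : c ≠ 0) (hge : (g : GL ι F).val *ᵥ e = c • e)
  (hgf : (g : GL ι F).val *ᵥ f = c⁻¹ • f)

omit [FiniteDimensional ℂ V]

include C H hc hge hgf

theorem act_X {x : ι → F} (hx : x ∈ X B e f) : (g : GL ι F).val *ᵥ x ∈ X B e f :=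
  act_mem_X C H (root_le_iso C _ g.2) hc hge hgf hx

theorem conj_wproj {v v' : X B e f} (hv : v'.1 = c⁻¹ • (g : GL ι F).val *ᵥ v.1) :
    ρ g * wproj C H ρ v = wproj C H ρ v' * ρ g := by
  classical
  have hgI := root_le_iso C _ g.2
  let σ : X B e f → X B e f := fun a =>
    ⟨c • (g : GL ι F).val *ᵥ a.1, Submodule.smul_mem _ _ (act_X C H hc hge hgf a.2)⟩
  have hσ : Function.Injective σ := fun a b h => Subtype.ext (act_injective (g : GL ι F)
    (smul_right_injective _ hc (congrArg Subtype.val h)))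
  let σe : X B e f ≃ X B e f := Equiv.ofBijective σ (Finite.injective_iff_bijective.mp hσ)
  have h1 := conj_proj (ρ.comp (qhom C H)) (A := ρ g) (B := ρ g⁻¹) σe (fun a => ?_) (th B v) (th B v')
    (fun a => ?_)
  · conv_rhs => rw [show wproj C H ρ v' = ρ g * wproj C H ρ v * ρ g⁻¹ from h1.symm, mul_assoc, ← map_mul,
      inv_mul_cancel, map_one, mul_one]
  · show ρ g * ρ (qhom C H (Multiplicative.ofAdd a)) * ρ g⁻¹ = ρ (qhom C H (Multiplicative.ofAdd (σ a)))
    rw [← map_mul, ← map_mul]
    congr 1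
    refine Subtype.ext ?_
    rw [Subgroup.coe_mul, Subgroup.coe_mul, Subgroup.coe_inv, qhom_coe, qhom_coe,
      sGL_conj C H.singE (X.left a.2) hgI, hge,
      sGL_smul C H.singE (X.left (act_X C H hc hge hgf a.2))]
  · show psi F (B v'.1 (-σ a).1) = psi F (B v.1 (-a).1)
    congr 1
    rw [hv, Submodule.coe_neg, Submodule.coe_neg, map_neg, map_neg]
    simp only [σ, map_smul, LinearMap.smul_apply, C.B_act hgI, smul_eq_mul]
    field_simp

end Act

/-- The weight multiplicities are invariant. -/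
theorem mult_act {g : ↥(Root Q B ⊤)} {c : F} (hc : c ≠ 0) (hge : (g : GL ι F).val *ᵥ e = c • e)
    (hgf : (g : GL ι F).val *ᵥ f = c⁻¹ • f) {v v' : X B e f}
    (hv : v'.1 = c⁻¹ • (g : GL ι F).val *ᵥ v.1) : mult C H ρ v' = mult C H ρ v := by
  have h := conj_wproj C H ρ hc hge hgf hv
  have h1 : LinearMap.trace ℂ V (wproj C H ρ v') = LinearMap.trace ℂ V (wproj C H ρ v) := by
    rw [show wproj C H ρ v' = ρ g * wproj C H ρ v * ρ g⁻¹ by
      rw [h, mul_assoc, ← map_mul, mul_inv_cancel, map_one, mul_one], LinearMap.trace_mul_cycle,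
      ← map_mul, inv_mul_cancel, map_one, one_mul]
  rw [trace_wproj, trace_wproj] at h1
  exact_mod_cast h1

variable (h7 : 7 ≤ Fintype.card ι)

include h7

theorem mult_trans {v v' : X B e f} (hv : v ≠ 0) (hv' : v' ≠ 0) (hQ : Q v.1 = Q v'.1) :
    mult C H ρ v = mult C H ρ v' := by
  obtain ⟨h, hh, hhv⟩ := trans C (X_ndeg C H) (by have := finrank_X C H; omega) v.2 v'.2
    (fun h0 => hv (Subtype.ext h0)) (fun h0 => hv' (Subtype.ext h0)) hQ
  refine (mult_act C H ρ (g := ⟨h, root_mono le_top hh⟩) (c := 1) one_ne_zero ?_ ?_ ?_).symm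
  · rw [one_smul]; exact (root_fix C H hh).1
  · rw [inv_one, one_smul]; exact (root_fix C H hh).2
  · rw [inv_one, one_smul]; exact hhv.symm

omit h7 in
/-- A non-trivial representation has a weight other than zero. -/
theorem exists_weight (h5 : 5 ≤ Fintype.card ι) (hne : ∃ g, ρ g ≠ 1) : ∃ v : X B e f, v ≠ 0 ∧ mult C H ρ v ≠ 0 := by
  by_contra hall
  push Not at hall
  have hzero : wproj C H ρ 0 = 1 := by
    rw [← sum_wproj C H ρ, Finset.sum_eq_single (0 : X B e f)
      (fun v _ hv => wproj_eq_zero C H ρ (hall v hv)) (fun h => absurd (Finset.mem_univ _) h)]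
  have hQ : ∀ w : X B e f, ρ (qhom C H (Multiplicative.ofAdd w)) = 1 := fun w => by
    have := wproj_zero_fix C H ρ w
    rwa [hzero, mul_one] at this
  let K : Subgroup (GL ι F) := (MonoidHom.ker ρ.asGroupHom).map (Root Q B ⊤).subtype
  have hker : ∀ g : ↥(Root Q B ⊤), g ∈ MonoidHom.ker ρ.asGroupHom ↔ ρ g = 1 := fun g => by
    rw [MonoidHom.mem_ker, Units.ext_iff, Representation.asGroupHom_apply, Units.val_one]
  have hall' : Root Q B ⊤ ≤ K := by
    refine (Subgroup.closure_le _).mpr ?_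
    rintro _ ⟨p, a, -, -, hp, hpa, rfl⟩
    by_cases hp0 : p = 0
    · subst hp0
      rw [show sGL Q B 0 a = 1 from gl_ext fun x => by rw [sGL_act C C.zero (by simp)]; simp]
      exact one_mem _
    obtain ⟨g, hg, hgp⟩ := trans_top C (by omega) hp0 (Hyp.ne_zero C H).1 (by rw [hp, H.singE])
    have hgI := root_le_iso C _ hg
    set a1 := g.val *ᵥ a with ha1
    have hea : B e a1 = 0 := by rw [← hgp, ha1, C.B_act hgI, hpa]
    set w := a1 - B f a1 • e with hw
    have hwX : w ∈ X B e f := mem_X.mpr ⟨by simp [hw, hea, C.self_zero H.singE], by simp [hw, H.pair' C]⟩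
    set x : ↥(Root Q B ⊤) := ⟨sGL Q B p a, sGL_mem_root trivial trivial hp hpa⟩ with hx
    refine ⟨x, ?_, rfl⟩
    rw [SetLike.mem_coe, hker]
    have he : ⟨g, hg⟩ * x * ⟨g, hg⟩⁻¹ = qhom C H (Multiplicative.ofAdd ⟨w, hwX⟩) := by
      refine Subtype.ext ?_
      rw [Subgroup.coe_mul, Subgroup.coe_mul, Subgroup.coe_inv, qhom_coe, sGL_conj C hp hpa hgI, hgp, ← ha1]
      conv_lhs => rw [show a1 = w + B f a1 • e by rw [hw]; abel]
      exact sGL_add_self C H.singE (X.left hwX) _
    have h1 : x = ⟨g, hg⟩⁻¹ * qhom C H (Multiplicative.ofAdd ⟨w, hwX⟩) * ⟨g, hg⟩ := by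
      rw [← he]; group
    rw [h1, map_mul, map_mul, hQ, mul_one, ← map_mul, inv_mul_cancel, map_one]
  obtain ⟨g, hg⟩ := hne
  obtain ⟨g', hg', e1⟩ := hall' g.2
  exact hg ((hker g).mp (by rwa [← Subtype.ext e1]))

end Cfsg.Lib.Linear.OrthDeg
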